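import Mathlib

/-!
# Finite fibres and finiteness over a neighbourhood
-/

set_option autoImplicit false
universe u
open AlgebraicGeometry CategoryTheory TopologicalSpace

namespace Groth.Agent.Lib.Helper18.Push

variable {X Y : Scheme.{u}}

/-- A fibre of a morphism of finite type without nontrivial specializations is finite. -/
theorem finite_preimage_singleton_of_noSpec (p : X ⟶ Y) [LocallyOfFiniteType p] [QuasiCompact p]
    (y : Y) (h : ∀ x x' : X, p x = y → p x' = y → x ⤳ x' → x = x') : (p ⁻¹' {y}).Finite := by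
  haveI : IsLocallyNoetherian (p.fiber y) := by
    unfold Scheme.Hom.fiber
    infer_instance
  haveI : IsNoetherian (p.fiber y) := {}
  haveI : NoetherianSpace (p.fiber y) := inferInstance
  have hfin : (irreducibleComponents (p.fiber y)).Finite :=
    NoetherianSpace.finite_irreducibleComponents
  haveI := hfin.to_subtype
  have hmem : ∀ z : p.fiber y, p (p.fiberι y z) = y := by
    intro z
    have : p.fiberι y z ∈ Set.range (p.fiberι y) := Set.mem_range_self z
    rw [Scheme.Hom.range_fiberι] at this
    exact this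
  have hspec : ∀ z z' : p.fiber y, z ⤳ z' → z = z' := by
    intro z z' hz
    apply (p.fiberι y).isEmbedding.injective
    exact h _ _ (hmem z) (hmem z') (hz.map (p.fiberι y).continuous)
  let G : p.fiber y → irreducibleComponents (p.fiber y) := fun z =>
    ⟨irreducibleComponent z, irreducibleComponent_mem_irreducibleComponents z⟩
  have hG : Function.Injective G := by
    intro z z' hzz'
    have hZ : irreducibleComponent z = irreducibleComponent z' := congrArg Subtype.val hzz'
    have hirr : IsIrreducible (irreducibleComponent z) := isIrreducible_irreducibleComponent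
    have hcl : IsClosed (irreducibleComponent z) := isClosed_irreducibleComponent
    obtain ⟨g, hg⟩ := QuasiSober.sober hirr hcl
    have h1 : g ⤳ z := by
      rw [specializes_iff_mem_closure, hg.def]
      exact mem_irreducibleComponent
    have h2 : g ⤳ z' := by
      rw [specializes_iff_mem_closure, hg.def, hZ]
      exact mem_irreducibleComponent
    rw [← hspec g z h1, ← hspec g z' h2]
  haveI : Finite (p.fiber y) := Finite.of_injective G hG
  rw [← Scheme.Hom.range_fiberι]
  exact Set.finite_range _

set_option backward.isDefEq.respectTransparency.types false in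
/-- A proper morphism with a finite fibre over `y` is finite over an affine neighbourhood of `y`. -/
theorem exists_isAffineOpen_isFinite_morphismRestrict (p : X ⟶ Y) [IsProper p] (y : Y)
    (hfin : (p ⁻¹' {y}).Finite) :
    ∃ V : Y.Opens, IsAffineOpen V ∧ y ∈ V ∧ IsFinite (p ∣_ V) := by
  let W : Y.Opens := ⟨_, (p.isClosedMap _ p.quasiFiniteLocus.isOpen.isClosed_compl).isOpen_compl⟩
  have hyW : y ∈ W := by
    suffices ∀ x, p x = y → p.QuasiFiniteAt x by simpa [W, not_imp_not]
    rintro x rfl
    have : Finite (p.fiber (p x)) := (p.fiberHomeo (p x)).finite_iff.mpr ‹_›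
    exact Scheme.Hom.quasiFiniteAt_iff_isOpen_singleton_asFiber.mpr (isOpen_discrete _)
  obtain ⟨_, ⟨V, hV : IsAffineOpen V, rfl⟩, hyV, hVW⟩ :=
    Y.isBasis_affineOpens.exists_subset_of_mem_open hyW W.2
  refine ⟨V, hV, hyV, ?_⟩
  suffices LocallyQuasiFinite (p ∣_ V) from .of_isProper_of_locallyQuasiFinite _
  rw [← Scheme.Hom.quasiFiniteLocus_eq_top_iff]
  ext x
  have : p.QuasiFiniteAt ((p ⁻¹ᵁ V).ι x) := by
    by_contra H
    exact hVW x.2 ⟨_, H, by simp⟩
  rw [← Scheme.Hom.quasiFiniteAt_comp_iff_of_isOpenImmersion, ← morphismRestrict_ι,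
    Scheme.Hom.quasiFiniteAt_comp_iff] at this
  simpa

theorem finite_appLE_congr (p : X ⟶ Y) {U U' : Y.Opens} {W W' : X.Opens} (hU : U = U')
    (hW : W = W') (e : W ≤ p ⁻¹ᵁ U) (e' : W' ≤ p ⁻¹ᵁ U') (h : (p.appLE U W e).hom.Finite) :
    (p.appLE U' W' e').hom.Finite := by
  subst hU hW
  exact h

theorem finite_appLE_of_isFinite_morphismRestrict (p : X ⟶ Y) (V : Y.Opens) (hV : IsAffineOpen V)
    [IsFinite (p ∣_ V)] :
    IsAffineOpen (p ⁻¹ᵁ V) ∧ (p.appLE V (p ⁻¹ᵁ V) le_rfl).hom.Finite := by
  haveI : IsAffine V.toScheme := hV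
  have hU : IsAffineOpen (p ⁻¹ᵁ V) := isAffine_of_isAffineHom (p ∣_ V)
  refine ⟨hU, ?_⟩
  have h1 : ((p ∣_ V).app ⊤).hom.Finite := (p ∣_ V).finite_app ⊤ (isAffineOpen_top _)
  rw [morphismRestrict_app'] at h1
  refine finite_appLE_congr p ?_ ?_ _ _ h1
  · simp
  · simp

end Groth.Agent.Lib.Helper18.Push
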