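import Mathlib

/-!
# Lengths over a local ring of modules over a (semilocal) algebra

For a ring map `A → B` and a `B`-module `N` of finite length,
`ℓ_A(N) = ∑_𝔪 ℓ_{B_𝔪}(N_𝔪) · ℓ_A(B/𝔪)`, the sum over the maximal ideals of `B`.
-/

set_option autoImplicit false
universe u v
open Module Submodule TensorProduct LinearMap

namespace Groth.Agent.Lib.Helper18.SemiLocal

section step

variable {A : Type*} {B : Type u} {N : Type*} [CommRing A] [CommRing B] [Algebra A B]
  [AddCommGroup N] [Module B N] [Module A N] [IsScalarTower A B N]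

theorem covBy_step {p q : Submodule B N} (h : p ⋖ q) :
    ∃ M : Ideal B, M.IsMaximal ∧
      (Module.length A q = Module.length A p + Module.length A (B ⧸ M)) ∧
      ∀ (C : Type v) [CommRing C] [Algebra B C] [Module.Flat B C],
        Module.length C (C ⊗[B] q) = Module.length C (C ⊗[B] p) +
          Module.length C (C ⧸ M.map (algebraMap B C)) := by
  let f : p →ₗ[B] q := inclusion h.le
  have key : IsSimpleModule B (q ⧸ f.range) := by
    rwa [range_inclusion, ← covBy_iff_quot_is_simple h.le]
  obtain ⟨M, hM, ⟨e⟩⟩ := isSimpleModule_iff_quot_maximal.mp key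
  let g : q →ₗ[B] B ⧸ M := e.comp f.range.mkQ
  have hf : Function.Injective f := inclusion_injective _
  have hg : Function.Surjective g := e.surjective.comp f.range.mkQ_surjective
  have hfg : Function.Exact f g :=
    exact_iff.mpr ((e.ker_comp f.range.mkQ).trans f.range.ker_mkQ)
  refine ⟨M, hM, ?_, ?_⟩
  · exact Module.length_eq_add_of_exact (f.restrictScalars A) (g.restrictScalars A)
      (by simpa) (by simpa) (by simpa)
  · intro C _ _ _
    rw [Module.length_eq_add_of_exact (AlgebraTensorModule.lTensor C C f)
      (AlgebraTensorModule.lTensor C C g)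
      (Module.Flat.lTensor_preserves_injective_linearMap f hf)
      (LinearMap.lTensor_surjective C hg)
      (lTensor_exact C hfg hg),
      (Algebra.TensorProduct.quotIdealMapEquivTensorQuot C M).toLinearEquiv.length_eq]

end step

section loc

theorem length_quot_map_atPrime {B : Type u} [CommRing B] (C : Type v) [CommRing C] [Algebra B C]
    (m : Ideal B) [hm : m.IsMaximal] [IsLocalization.AtPrime C m] (M : Ideal B)
    (hM : M.IsMaximal) :
    Module.length C (C ⧸ M.map (algebraMap B C)) = if M = m then 1 else 0 := by
  split_ifs with h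
  · subst h
    haveI := IsLocalization.AtPrime.isLocalRing C M
    rw [IsLocalization.AtPrime.map_eq_maximalIdeal]
    haveI : IsSimpleModule C (C ⧸ IsLocalRing.maximalIdeal C) :=
      isSimpleModule_iff_quot_maximal.mpr
        ⟨_, IsLocalRing.maximalIdeal.isMaximal C, ⟨LinearEquiv.refl _ _⟩⟩
    exact Module.length_eq_one C (C ⧸ IsLocalRing.maximalIdeal C)
  · have htop : M.map (algebraMap B C) = ⊤ := by
      have hnle : ¬ M ≤ m := fun hle => h (hM.eq_of_le hm.ne_top hle)
      obtain ⟨s, hsM, hsm⟩ := Set.not_subset.mp hnle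
      exact Ideal.eq_top_of_isUnit_mem _ (Ideal.mem_map_of_mem _ hsM)
        (IsLocalization.map_units C (⟨s, hsm⟩ : m.primeCompl))
    rw [htop]
    exact Module.length_eq_zero

end loc

section main

variable {A : Type*} {B : Type u} {N : Type*} [CommRing A] [CommRing B] [Algebra A B]
  [AddCommGroup N] [Module B N] [Module A N] [IsScalarTower A B N]

/-- `ℓ_A(N) = ∑_𝔪 ℓ_{B_𝔪}(N_𝔪) · ℓ_A(B/𝔪)` for a `B`-module of finite length. -/
theorem length_eq_sum (hN : IsFiniteLength B N) {ι : Type*} [Fintype ι] (m : ι → Ideal B)
    [∀ i, (m i).IsMaximal] (hbij : ∀ M : Ideal B, M.IsMaximal → ∃! i, m i = M)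
    (C : ι → Type v) [∀ i, CommRing (C i)] [∀ i, Algebra B (C i)]
    [∀ i, IsLocalization.AtPrime (C i) (m i)] :
    Module.length A N =
      ∑ i, Module.length (C i) (C i ⊗[B] N) * Module.length A (B ⧸ m i) := by
  classical
  obtain ⟨s, hs_bot, hs_top⟩ := isFiniteLength_iff_exists_compositionSeries.mp hN
  haveI : ∀ i, Module.Flat B (C i) := fun i => IsLocalization.flat (C i) (m i).primeCompl
  have key : ∀ k : Fin (s.length + 1), Module.length A (s k) =
      ∑ i, Module.length (C i) (C i ⊗[B] (s k)) * Module.length A (B ⧸ m i) := by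
    intro k
    induction k using Fin.induction with
    | zero =>
      rw [← RelSeries.head, hs_bot]
      simp
    | succ j hj =>
      obtain ⟨M, hM, h1, h2⟩ := covBy_step (A := A) (s.step j)
      obtain ⟨i0, hi0, huniq⟩ := hbij M hM
      rw [h1, hj]
      have h3 : ∀ i, Module.length (C i) (C i ⊗[B] (s j.succ)) =
          Module.length (C i) (C i ⊗[B] (s j.castSucc)) + if i = i0 then 1 else 0 := by
        intro i
        rw [h2 (C i), length_quot_map_atPrime (C i) (m i) M hM]
        congr 1
        by_cases hi : i = i0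
        · subst hi
          simp [hi0]
        · have : M ≠ m i := fun hh => hi (huniq i hh.symm)
          simp [hi, this]
      simp_rw [h3, add_mul, Finset.sum_add_distrib]
      congr 1
      subst hi0
      simp
  have hlast := key (Fin.last _)
  rw [← RelSeries.last, hs_top] at hlast
  rw [← (Submodule.topEquiv.restrictScalars A : (⊤ : Submodule B N) ≃ₗ[A] N).length_eq, hlast]
  refine Finset.sum_congr rfl fun i _ => ?_
  congr 1
  exact (AlgebraTensorModule.congr (LinearEquiv.refl (C i) (C i))
    (Submodule.topEquiv : (⊤ : Submodule B N) ≃ₗ[B] N)).length_eq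

end main

end Groth.Agent.Lib.Helper18.SemiLocal
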