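import Mathlib
import Groth.Prelude.Def_Cyc
import Groth.Agent.S14503
import Groth.Agent.Lib.Helper18.Push.SemiLocal
import Groth.Agent.Lib.Helper18.Cyc.OrdFlat

/-!
# The order of a norm

`ord_A(Nm_{L/K} g) = ∑_𝔪 [κ(𝔪) : κ(A)] · ord_{B_𝔪}(g)` for a finite extension of domains `A ⊆ B`
with `A` a one-dimensional Noetherian local domain.
-/

set_option autoImplicit false
universe u
open Module TensorProduct

namespace Groth.Agent.Lib.Helper18.NormOrd

open Groth.Agent.Lib.Helper24.LatDist Groth.Agent.Lib.Helper18.CycDiv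

theorem ringKrullDim_le_of_isIntegral (A B : Type*) [CommRing A] [CommRing B] [Algebra A B]
    [Algebra.IsIntegral A B] : ringKrullDim B ≤ ringKrullDim A := by
  refine Order.krullDim_le_of_strictMono (fun q => PrimeSpectrum.comap (algebraMap A B) q) ?_
  intro q q' h
  exact Ideal.IsIntegral.comap_lt_comap (R := A) (I := q.asIdeal) (J := q'.asIdeal) h

theorem krullDimLE_one_loc (A : Type u) [CommRing A] (hA : ringKrullDim A = 1) (B : Type u)
    [CommRing B] [Algebra A B] [Module.Finite A B] (m : Ideal B) [m.IsPrime]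
    (C : Type u) [CommRing C] [Algebra B C] [IsLocalization.AtPrime C m] :
    Ring.KrullDimLE 1 C := by
  haveI : Algebra.IsIntegral A B := Algebra.IsIntegral.of_finite A B
  have h1 : ringKrullDim B ≤ 1 := hA ▸ ringKrullDim_le_of_isIntegral A B
  have h2 : ringKrullDim C ≤ ringKrullDim B := by
    rw [IsLocalization.AtPrime.ringKrullDim_eq_height m C]
    exact Ideal.height_le_ringKrullDim_of_isPrime
  exact (Order.krullDimLE_iff 1 _).2 (h2.trans h1)

/-- The structure available on a localization of `B` at a prime inside `L = Frac B`. -/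
theorem loc_facts (B : Type u) [CommRing B] [IsDomain B] (L : Type u) [Field L] [Algebra B L]
    [IsFractionRing B L] (m : Ideal B) [m.IsPrime] (C : Type u) [CommRing C] [Algebra B C]
    [IsLocalization.AtPrime C m] [Algebra C L] [IsScalarTower B C L] :
    IsDomain C ∧ IsFractionRing C L := by
  have hle : m.primeCompl ≤ nonZeroDivisors B := by
    intro s hs
    exact mem_nonZeroDivisors_of_ne_zero (fun h0 => hs (h0 ▸ m.zero_mem))
  haveI : IsDomain C := IsLocalization.isDomain_of_le_nonZeroDivisors C hle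
  exact ⟨inferInstance, IsFractionRing.isFractionRing_of_isDomain_of_isLocalization m.primeCompl C L⟩

theorem ordFrac_norm_algebraMap (A : Type u) [CommRing A] [IsDomain A] [IsNoetherianRing A]
    [IsLocalRing A] (hA : ringKrullDim A = 1) (B : Type u) [CommRing B] [IsDomain B] [Algebra A B]
    (hinj : Function.Injective (algebraMap A B)) [Module.Finite A B]
    (K L : Type u) [Field K] [Field L] [Algebra A K] [IsFractionRing A K] [Algebra B L]
    [IsFractionRing B L] [Algebra K L] [Algebra A L] [IsScalarTower A B L] [IsScalarTower A K L]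
    [FiniteDimensional K L]
    {ι : Type*} [Fintype ι] (m : ι → Ideal B) [∀ i, (m i).IsMaximal]
    (hbij : ∀ M : Ideal B, M.IsMaximal → ∃! i, m i = M)
    (C : ι → Type u) [∀ i, CommRing (C i)] [∀ i, Algebra B (C i)]
    [∀ i, IsLocalization.AtPrime (C i) (m i)]
    (d : ι → ℕ) (hd : ∀ i, Module.length A (B ⧸ m i) = d i) (r : B) (hr : r ≠ 0) :
    CycAlg.ordFrac A K (Algebra.norm K (algebraMap B L r)) =
      ∑ i, (d i : ℤ) * ((Ring.ord (C i) (algebraMap B (C i) r)).toNat : ℤ) := by
  obtain ⟨hfin, heq⟩ := Groth.Agent.S14503.result A hA B hinj K L r hr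
  rw [← heq]
  have hflA : IsFiniteLength A (B ⧸ Ideal.span {r}) := Module.length_ne_top_iff.mp hfin.ne
  have hflB : IsFiniteLength B (B ⧸ Ideal.span {r}) := by
    rw [isFiniteLength_iff_isNoetherian_isArtinian] at hflA ⊢
    haveI := hflA.1
    haveI := hflA.2
    exact ⟨isNoetherian_of_tower A inferInstance, isArtinian_of_tower A inferInstance⟩
  have hSL := SemiLocal.length_eq_sum (A := A) hflB m hbij C
  have hterm : ∀ i, Module.length (C i) (C i ⊗[B] (B ⧸ Ideal.span {r})) =
      Ring.ord (C i) (algebraMap B (C i) r) := by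
    intro i
    rw [← (Algebra.TensorProduct.quotIdealMapEquivTensorQuot (C i)
      (Ideal.span {r})).toLinearEquiv.length_eq, Ideal.map_span, Set.image_singleton]
    rfl
  haveI : IsNoetherianRing B := IsNoetherianRing.of_finite A B
  have hne : ∀ i, Ring.ord (C i) (algebraMap B (C i) r) ≠ ⊤ := by
    intro i
    haveI := krullDimLE_one_loc A hA B (m i) (C i)
    haveI : IsNoetherianRing (C i) :=
      IsLocalization.isNoetherianRing (m i).primeCompl (C i) inferInstance
    have hle : (m i).primeCompl ≤ nonZeroDivisors B := by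
      intro s hs
      exact mem_nonZeroDivisors_of_ne_zero (fun h0 => hs (h0 ▸ (m i).zero_mem))
    haveI : IsDomain (C i) := IsLocalization.isDomain_of_le_nonZeroDivisors (C i) hle
    have hr' : algebraMap B (C i) r ≠ 0 := by
      intro h0
      exact hr (IsLocalization.injective (C i) hle (by rw [h0, map_zero]))
    exact Ring.ord_ne_top (mem_nonZeroDivisors_of_ne_zero hr')
  rw [hSL]
  simp_rw [hterm, hd]
  choose n hn using fun i => ENat.ne_top_iff_exists.mp (hne i)
  simp_rw [← hn]
  rw [show (∑ i, (n i : ℕ∞) * (d i : ℕ∞)) = ((∑ i, n i * d i : ℕ) : ℕ∞) by push_cast; rfl,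
    ENat.toNat_coe]
  push_cast
  exact Finset.sum_congr rfl fun i _ => mul_comm _ _

/-- `ord_A(Nm_{L/K} g) = ∑_𝔪 ℓ_A(B/𝔪) · ord_{B_𝔪}(g)`. -/
theorem ordFrac_norm_eq_sum (A : Type u) [CommRing A] [IsDomain A] [IsNoetherianRing A]
    [IsLocalRing A] (hA : ringKrullDim A = 1) (B : Type u) [CommRing B] [IsDomain B] [Algebra A B]
    (hinj : Function.Injective (algebraMap A B)) [Module.Finite A B]
    (K L : Type u) [Field K] [Field L] [Algebra A K] [IsFractionRing A K] [Algebra B L]
    [IsFractionRing B L] [Algebra K L] [Algebra A L] [IsScalarTower A B L] [IsScalarTower A K L]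
    [FiniteDimensional K L]
    {ι : Type*} [Fintype ι] (m : ι → Ideal B) [∀ i, (m i).IsMaximal]
    (hbij : ∀ M : Ideal B, M.IsMaximal → ∃! i, m i = M)
    (C : ι → Type u) [∀ i, CommRing (C i)] [∀ i, Algebra B (C i)]
    [∀ i, IsLocalization.AtPrime (C i) (m i)] [∀ i, Algebra (C i) L]
    [∀ i, IsScalarTower B (C i) L]
    (d : ι → ℕ) (hd : ∀ i, Module.length A (B ⧸ m i) = d i) (g : L) (hg : g ≠ 0) :
    CycAlg.ordFrac A K (Algebra.norm K g) = ∑ i, (d i : ℤ) * CycAlg.ordFrac (C i) L g := by
  obtain ⟨a, b, hb, rfl⟩ := IsFractionRing.div_surjective (A := B) g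
  have hb0 : b ≠ 0 := nonZeroDivisors.ne_zero hb
  have ha0 : a ≠ 0 := by
    rintro rfl
    simp at hg
  have hinjL := IsFractionRing.injective B L
  have ha' : algebraMap B L a ≠ 0 := fun h0 => ha0 (hinjL (by rw [h0, map_zero]))
  have hb' : algebraMap B L b ≠ 0 := fun h0 => hb0 (hinjL (by rw [h0, map_zero]))
  have hNa : Algebra.norm K (algebraMap B L a) ≠ 0 := Algebra.norm_ne_zero_iff.mpr ha'
  have hNb : Algebra.norm K (algebraMap B L b) ≠ 0 := Algebra.norm_ne_zero_iff.mpr hb'
  haveI : Ring.KrullDimLE 1 A := (Order.krullDimLE_iff 1 _).2 hA.le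
  haveI : IsNoetherianRing B := IsNoetherianRing.of_finite A B
  have hdiv : Algebra.norm K (algebraMap B L a / algebraMap B L b) =
      Algebra.norm K (algebraMap B L a) / Algebra.norm K (algebraMap B L b) := by
    rw [eq_div_iff hNb, ← map_mul, div_mul_cancel₀ _ hb']
  rw [hdiv, div_eq_mul_inv, ordZ_mul hNa (inv_ne_zero hNb), ordZ_inv,
    ordFrac_norm_algebraMap A hA B hinj K L m hbij C d hd a ha0,
    ordFrac_norm_algebraMap A hA B hinj K L m hbij C d hd b hb0, ← sub_eq_add_neg,
    ← Finset.sum_sub_distrib]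
  refine Finset.sum_congr rfl fun i _ => ?_
  obtain ⟨hdom, hfr⟩ := loc_facts B L (m i) (C i)
  haveI := hdom
  haveI := hfr
  haveI := krullDimLE_one_loc A hA B (m i) (C i)
  haveI : IsNoetherianRing (C i) :=
    IsLocalization.isNoetherianRing (m i).primeCompl (C i) inferInstance
  have hinjC := IsFractionRing.injective (C i) L
  have haC : algebraMap B (C i) a ≠ 0 := by
    intro h0
    apply ha'
    rw [IsScalarTower.algebraMap_apply B (C i) L, h0, map_zero]
  have hbC : algebraMap B (C i) b ≠ 0 := by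
    intro h0
    apply hb'
    rw [IsScalarTower.algebraMap_apply B (C i) L, h0, map_zero]
  rw [IsScalarTower.algebraMap_apply B (C i) L a, IsScalarTower.algebraMap_apply B (C i) L b,
    ordZ_div haC hbC]
  ring

end Groth.Agent.Lib.Helper18.NormOrd
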