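import Mathlib
import Groth.Prelude.Def_Cyc
import Groth.Agent.Lib.Helper18.Push.NormOrd

/-!
# The order of a norm, for a finite extension of domains `R ⊆ S` localized at a prime of `R`
-/

set_option autoImplicit false
universe u
open Module TensorProduct IsLocalRing

namespace Groth.Agent.Lib.Helper18.NormOrd

/-- `ℓ_A(B/𝔪) = [κ(B_𝔪) : κ(A)]`. -/
theorem length_quot_eq_finrank (A B C : Type*) [CommRing A] [IsLocalRing A] [CommRing B]
    [Algebra A B] [Module.Finite A B] (m : Ideal B) [m.IsMaximal] [CommRing C] [Algebra B C]
    [IsLocalization.AtPrime C m] [IsLocalRing C] [Algebra A C] [IsScalarTower A B C]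
    [IsLocalHom (algebraMap A C)] :
    Module.length A (B ⧸ m) = Module.finrank (ResidueField A) (ResidueField C) := by
  let e0 : B ⧸ m ≃+* ResidueField C := IsLocalization.AtPrime.equivQuotMaximalIdeal m C
  let e : (B ⧸ m) ≃ₗ[A] ResidueField C :=
    { e0 with
      map_smul' := by
        intro a x
        obtain ⟨b, rfl⟩ := Ideal.Quotient.mk_surjective x
        show e0 (Ideal.Quotient.mk m (a • b)) = a • e0 (Ideal.Quotient.mk m b)
        have h1 : ∀ x : B, e0 (Ideal.Quotient.mk m x) =
            Ideal.Quotient.mk (maximalIdeal C) (algebraMap B C x) := fun x => rfl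
        rw [h1, h1]
        have h2 : algebraMap B C (a • b) = a • algebraMap B C b :=
          map_smul (IsScalarTower.toAlgHom A B C) a b
        rw [h2]
        rfl }
  rw [e.length_eq]
  haveI : Module.Finite A (B ⧸ m) := Module.Finite.of_surjective (Ideal.Quotient.mkₐ A m).toLinearMap
    (Ideal.Quotient.mkₐ_surjective A m)
  haveI : Module.Finite A (ResidueField C) := Module.Finite.equiv e
  haveI : Module.Finite (ResidueField A) (ResidueField C) :=
    Module.Finite.of_restrictScalars_finite A _ _
  rw [Module.length_eq_of_surjective (M := ResidueField C) (residue_surjective (R := A)),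
    Module.length_eq_finrank]

theorem ordFrac_norm_eq_sum_RS
    (R S : Type u) [CommRing R] [CommRing S] [IsDomain S] [Algebra R S]
    (hinj : Function.Injective (algebraMap R S)) [Module.Finite R S]
    (pr : Ideal R) [pr.IsPrime]
    (A : Type u) [CommRing A] [IsDomain A] [IsNoetherianRing A] [IsLocalRing A] [Algebra R A]
    [IsLocalization.AtPrime A pr] (hA : ringKrullDim A = 1)
    (K L : Type u) [Field K] [Field L] [Algebra A K] [IsFractionRing A K] [Algebra S L]
    [IsFractionRing S L] [Algebra K L]
    (hcomm : ∀ r : R, algebraMap K L (algebraMap A K (algebraMap R A r)) =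
      algebraMap S L (algebraMap R S r))
    {ι : Type*} [Fintype ι] (q : ι → Ideal S) [∀ i, (q i).IsPrime]
    (hq : ∀ i, (q i).comap (algebraMap R S) = pr)
    (hbij : ∀ Q : Ideal S, Q.IsPrime → Q.comap (algebraMap R S) = pr → ∃! i, q i = Q)
    (C : ι → Type u) [∀ i, CommRing (C i)] [∀ i, IsLocalRing (C i)] [∀ i, Algebra S (C i)]
    [∀ i, IsLocalization.AtPrime (C i) (q i)] [∀ i, Algebra (C i) L]
    [∀ i, IsScalarTower S (C i) L]
    (ψ : ∀ i, A →+* C i) [∀ i, IsLocalHom (ψ i)]
    (hψ : ∀ i r, ψ i (algebraMap R A r) = algebraMap S (C i) (algebraMap R S r))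
    (d : ι → ℕ)
    (hd : ∀ i, letI := (ResidueField.map (ψ i)).toAlgebra
      d i = Module.finrank (ResidueField A) (ResidueField (C i)))
    (g : L) (hg : g ≠ 0) :
    CycAlg.ordFrac A K (Algebra.norm K g) = ∑ i, (d i : ℤ) * CycAlg.ordFrac (C i) L g := by
  classical
  have hMSle : Algebra.algebraMapSubmonoid S pr.primeCompl ≤ nonZeroDivisors S := by
    rintro _ ⟨r, hr, rfl⟩
    apply mem_nonZeroDivisors_of_ne_zero
    intro h0
    apply hr
    have : r = 0 := hinj (by rw [h0, map_zero])
    rw [this]
    exact pr.zero_mem
  let B := Localization (Algebra.algebraMapSubmonoid S pr.primeCompl)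
  letI algAB : Algebra A B := localizationAlgebra pr.primeCompl S
  haveI : IsScalarTower R A B := isScalarTower_localizationAlgebra pr.primeCompl S
  haveI : Module.Finite A B := Module.Finite.of_isLocalization R S pr.primeCompl
  have hinjAB : Function.Injective (algebraMap A B) :=
    localizationAlgebra_injective (Rₘ := A) (Sₘ := B) hinj
  haveI : IsDomain B := IsLocalization.isDomain_of_le_nonZeroDivisors B hMSle
  have hinjSL := IsFractionRing.injective S L
  have hunitsL : ∀ s : Algebra.algebraMapSubmonoid S pr.primeCompl, IsUnit (algebraMap S L s) := by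
    intro s
    apply IsUnit.mk0
    intro h0
    have h1 : (s : S) = 0 := hinjSL (by rw [h0, map_zero])
    exact nonZeroDivisors.ne_zero (hMSle s.2) h1
  letI algBL : Algebra B L := (IsLocalization.lift hunitsL).toAlgebra
  haveI : IsScalarTower S B L :=
    IsScalarTower.of_algebraMap_eq (fun x => (IsLocalization.lift_eq hunitsL x).symm)
  haveI : IsFractionRing B L := IsFractionRing.isFractionRing_of_isDomain_of_isLocalization
    (Algebra.algebraMapSubmonoid S pr.primeCompl) B L
  letI algAL : Algebra A L := ((algebraMap K L).comp (algebraMap A K)).toAlgebra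
  haveI : IsScalarTower A K L := IsScalarTower.of_algebraMap_eq (fun x => rfl)
  haveI : IsScalarTower A B L := by
    apply IsScalarTower.of_algebraMap_eq'
    apply IsLocalization.ringHom_ext pr.primeCompl (S := A)
    ext r
    show algebraMap K L (algebraMap A K (algebraMap R A r)) =
      algebraMap B L (algebraMap A B (algebraMap R A r))
    rw [hcomm, ← IsScalarTower.algebraMap_apply R A B, IsScalarTower.algebraMap_apply R S B,
      ← IsScalarTower.algebraMap_apply S B L]
  haveI : Algebra.IsIntegral A B := Algebra.IsIntegral.of_finite A B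
  haveI : FaithfulSMul A B := (faithfulSMul_iff_algebraMap_injective A B).mpr hinjAB
  haveI : Algebra.IsAlgebraic A B := Algebra.IsIntegral.isAlgebraic
  haveI : FiniteDimensional K L := Module.Finite.of_isLocalization A B (nonZeroDivisors A)
  -- the primes of `B`
  have hdisj : ∀ i, Disjoint (Algebra.algebraMapSubmonoid S pr.primeCompl : Set S) (q i) := by
    intro i
    rw [Set.disjoint_left]
    rintro _ ⟨r, hr, rfl⟩ hmem
    apply hr
    rw [← hq i]
    exact hmem
  let m : ι → Ideal B := fun i => (q i).map (algebraMap S B)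
  have hmprime : ∀ i, (m i).IsPrime := fun i =>
    IsLocalization.isPrime_of_isPrime_disjoint (Algebra.algebraMapSubmonoid S pr.primeCompl) B
      (q i) inferInstance (hdisj i)
  have hmcomap : ∀ i, (m i).comap (algebraMap S B) = q i := fun i =>
    IsLocalization.under_map_of_isPrime_disjoint (Algebra.algebraMapSubmonoid S pr.primeCompl) B
      inferInstance (hdisj i)
  have hcomapA : ∀ P : Ideal A, P.comap (algebraMap R A) = pr → P = maximalIdeal A := by
    intro P hP
    rw [← IsLocalization.map_under pr.primeCompl A P,
      ← IsLocalization.map_under pr.primeCompl A (maximalIdeal A)]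
    congr 1
    rw [Ideal.under_def, Ideal.under_def, hP]
    exact (IsLocalization.AtPrime.under_maximalIdeal A pr).symm
  have hRB : ∀ J : Ideal B, (J.comap (algebraMap A B)).comap (algebraMap R A) =
      (J.comap (algebraMap S B)).comap (algebraMap R S) := by
    intro J
    rw [Ideal.comap_comap, Ideal.comap_comap, ← IsScalarTower.algebraMap_eq,
      ← IsScalarTower.algebraMap_eq]
  haveI hmmax : ∀ i, (m i).IsMaximal := by
    intro i
    haveI := hmprime i
    apply Ideal.isMaximal_of_isIntegral_of_isMaximal_comap (R := A) (m i)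
    have h1 : (m i).comap (algebraMap A B) = maximalIdeal A :=
      hcomapA _ (by rw [hRB, hmcomap, hq])
    rw [h1]
    exact maximalIdeal.isMaximal A
  have hbijm : ∀ M : Ideal B, M.IsMaximal → ∃! i, m i = M := by
    intro M hM
    haveI := hM
    have hMA : M.comap (algebraMap A B) = maximalIdeal A :=
      IsLocalRing.eq_maximalIdeal (Ideal.isMaximal_comap_of_isIntegral_of_isMaximal (R := A) M)
    have hQ : (M.comap (algebraMap S B)).comap (algebraMap R S) = pr := by
      rw [← hRB, hMA]
      exact IsLocalization.AtPrime.under_maximalIdeal A pr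
    obtain ⟨i, hi, huniq⟩ := hbij (M.comap (algebraMap S B)) (Ideal.comap_isPrime _ _) hQ
    refine ⟨i, ?_, ?_⟩
    · show (q i).map (algebraMap S B) = M
      rw [hi]
      exact IsLocalization.map_under (Algebra.algebraMapSubmonoid S pr.primeCompl) B M
    · intro j hj
      apply huniq
      rw [← hmcomap j, hj]
  have hunitsC : ∀ i (s : Algebra.algebraMapSubmonoid S pr.primeCompl),
      IsUnit (algebraMap S (C i) s) := by
    intro i s
    exact IsLocalization.map_units (C i)
      (⟨s.1, fun hmem => Set.disjoint_left.mp (hdisj i) s.2 hmem⟩ : (q i).primeCompl)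
  letI algBC : ∀ i, Algebra B (C i) := fun i => (IsLocalization.lift (hunitsC i)).toAlgebra
  haveI : ∀ i, IsScalarTower S B (C i) := fun i =>
    IsScalarTower.of_algebraMap_eq (fun x => (IsLocalization.lift_eq (hunitsC i) x).symm)
  haveI : ∀ i, IsLocalization.AtPrime (C i) (m i) := by
    intro i
    have hle : Algebra.algebraMapSubmonoid S pr.primeCompl ≤ (q i).primeCompl :=
      fun s hs hmem => Set.disjoint_left.mp (hdisj i) hs hmem
    haveI h1 : IsLocalization ((q i).primeCompl.map (algebraMap S B)) (C i) :=
      IsLocalization.isLocalization_of_submonoid_le B (C i) _ _ hle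
    refine IsLocalization.isLocalization_of_is_exists_mul_mem (C i)
      ((q i).primeCompl.map (algebraMap S B)) (m i).primeCompl ?_ ?_
    · rintro _ ⟨s, hs, rfl⟩ hmem
      apply hs
      rw [← hmcomap i]
      exact hmem
    · rintro ⟨x, hx⟩
      obtain ⟨b, t, rfl⟩ :=
        IsLocalization.exists_mk'_eq (Algebra.algebraMapSubmonoid S pr.primeCompl) x
      refine ⟨algebraMap S B t, ?_⟩
      rw [IsLocalization.mk'_spec']
      refine ⟨b, ?_, rfl⟩
      intro hb
      apply hx
      show IsLocalization.mk' B b t ∈ m i
      rw [IsLocalization.mk'_mem_iff]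
      exact Ideal.mem_map_of_mem _ hb
  haveI : ∀ i, IsScalarTower B (C i) L := by
    intro i
    apply IsScalarTower.of_algebraMap_eq'
    apply IsLocalization.ringHom_ext (Algebra.algebraMapSubmonoid S pr.primeCompl) (S := B)
    ext x
    show algebraMap B L (algebraMap S B x) =
      algebraMap (C i) L (algebraMap B (C i) (algebraMap S B x))
    rw [← IsScalarTower.algebraMap_apply S B L, ← IsScalarTower.algebraMap_apply S B (C i),
      ← IsScalarTower.algebraMap_apply S (C i) L]
  letI algAC : ∀ i, Algebra A (C i) := fun i => (ψ i).toAlgebra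
  haveI : ∀ i, IsScalarTower A B (C i) := by
    intro i
    apply IsScalarTower.of_algebraMap_eq'
    apply IsLocalization.ringHom_ext pr.primeCompl (S := A)
    ext r
    show ψ i (algebraMap R A r) = algebraMap B (C i) (algebraMap A B (algebraMap R A r))
    rw [hψ, ← IsScalarTower.algebraMap_apply R A B, IsScalarTower.algebraMap_apply R S B,
      ← IsScalarTower.algebraMap_apply S B (C i)]
  haveI : ∀ i, IsLocalHom (algebraMap A (C i)) := fun i => ‹∀ i, IsLocalHom (ψ i)› i
  have hd' : ∀ i, Module.length A (B ⧸ m i) = d i := by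
    intro i
    rw [length_quot_eq_finrank A B (C i) (m i), hd i]
    congr 1
    have h := @Algebra.finrank_eq_of_equiv_equiv (ResidueField A) (ResidueField (C i)) _ _
      inferInstance (ResidueField A) (ResidueField (C i)) _ _ (ResidueField.map (ψ i)).toAlgebra
      (RingEquiv.refl _) (RingEquiv.refl _) (by
        ext x
        obtain ⟨x, rfl⟩ := residue_surjective x
        rfl)
    exact h
  exact ordFrac_norm_eq_sum A hA B hinjAB K L m hbijm C d hd' g hg

end Groth.Agent.Lib.Helper18.NormOrd
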