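import Mathlib
import Groth.Prelude.Def_Cyc
import Groth.Agent.Lib.Helper18.Push.NormOrdRS
import Groth.Agent.Lib.Helper18.Push.FinFibre
import Groth.Agent.Lib.Helper18.Cyc.PullDiv
import Groth.Agent.Lib.Helper7.AffinePoints

/-!
# The divisor of a norm: the local formula
-/

set_option autoImplicit false
universe u
open AlgebraicGeometry CategoryTheory IsLocalRing

namespace Groth.Agent.Lib.Helper18.Push

open Groth.Agent.Lib.Helper18.CycDiv Groth.Agent.Lib.Helper18.NormOrd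

variable {X Y : Scheme.{u}}

/-- `κ(η)` is the fraction field of the sections over a nonempty affine open of an integral scheme. -/
theorem isFractionRing_residueField_generic [IsIntegral X] (U : X.Opens) (hU : IsAffineOpen U)
    (hη : genericPoint X ∈ U) :
    @IsFractionRing Γ(X, U) _ (X.residueField (genericPoint X)) _
      ((X.presheaf.germ U (genericPoint X) hη) ≫ X.residue (genericPoint X)).hom.toAlgebra := by
  letI alg : Algebra Γ(X, U) (X.residueField (genericPoint X)) :=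
    ((X.presheaf.germ U (genericPoint X) hη) ≫ X.residue (genericPoint X)).hom.toAlgebra
  haveI : Nonempty U := ⟨⟨_, hη⟩⟩
  haveI := functionField_isFractionRing_of_isAffineOpen X U hU
  let f : X.functionField →ₐ[Γ(X, U)] X.residueField (genericPoint X) :=
    { toRingHom := (X.residue (genericPoint X)).hom
      commutes' := fun r => rfl }
  have hbij : Function.Bijective f :=
    ⟨(X.residue (genericPoint X)).hom.injective, IsLocalRing.residue_surjective⟩
  exact IsLocalization.isLocalization_of_algEquiv _ (AlgEquiv.ofBijective f hbij)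

theorem isLocalHom_stalkSpecializes_of_eq {y y' : Y} (h : y' = y) :
    IsLocalHom (Y.presheaf.stalkSpecializes (specializes_of_eq h)).hom := by
  subst h
  rw [TopCat.Presheaf.stalkSpecializes_refl]
  exact isLocalHom_id _

/-- The stalk map `O_{Y,y} → O_{X,x}` for a point `y` equal to `p x`. -/
noncomputable def stalkMapOfEq (p : X ⟶ Y) (x : X) (y : Y) (h : p x = y) :
    Y.presheaf.stalk y →+* X.presheaf.stalk x :=
  ((Y.presheaf.stalkSpecializes (specializes_of_eq h)) ≫ p.stalkMap x).hom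

theorem stalkMapOfEq_rfl (p : X ⟶ Y) (x : X) (t : Y.presheaf.stalk (p x)) :
    stalkMapOfEq p x (p x) rfl t = (p.stalkMap x).hom t := by
  unfold stalkMapOfEq
  have : (Y.presheaf.stalkSpecializes (specializes_of_eq (rfl : p x = p x))) = 𝟙 _ :=
    TopCat.Presheaf.stalkSpecializes_refl _ _
  rw [this]
  rfl

instance isLocalHom_stalkMapOfEq (p : X ⟶ Y) (x : X) (y : Y) (h : p x = y) :
    IsLocalHom (stalkMapOfEq p x y h) := by
  subst h
  constructor
  intro a ha
  rw [stalkMapOfEq_rfl] at ha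
  exact IsLocalHom.map_nonunit (f := (p.stalkMap x).hom) a ha

theorem stalkMapOfEq_germ (p : X ⟶ Y) (x : X) (y : Y) (h : p x = y) (V : Y.Opens) (hy : y ∈ V)
    (r : Γ(Y, V)) :
    stalkMapOfEq p x y h (Y.presheaf.germ V y hy r) =
      X.presheaf.germ (p ⁻¹ᵁ V) x (show p x ∈ V from h ▸ hy) (p.app V r) := by
  subst h
  rw [stalkMapOfEq_rfl]
  exact Scheme.Hom.germ_stalkMap_apply p V x hy r

/-- The residue degree at `x`, computed with the stalk of `Y` at a point equal to `p x`. -/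
theorem residueDegree_eq_finrank_of_eq (p : X ⟶ Y) (x : X) (y : Y) (h : p x = y) :
    letI := (IsLocalRing.ResidueField.map (stalkMapOfEq p x y h)).toAlgebra
    p.residueDegree x = Module.finrank (IsLocalRing.ResidueField (Y.presheaf.stalk y))
      (IsLocalRing.ResidueField (X.presheaf.stalk x)) := by
  subst h
  unfold Scheme.Hom.residueDegree
  refine @Algebra.finrank_eq_of_equiv_equiv _ _ _ _ (p.residueFieldMap x).hom.toAlgebra _ _ _ _
    (IsLocalRing.ResidueField.map (stalkMapOfEq p x (p x) rfl)).toAlgebra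
    (RingEquiv.refl _) (RingEquiv.refl _) ?_
  ext t
  obtain ⟨t, rfl⟩ := IsLocalRing.residue_surjective t
  show IsLocalRing.residue _ (stalkMapOfEq p x (p x) rfl t) =
    IsLocalRing.residue _ ((p.stalkMap x).hom t)
  rw [stalkMapOfEq_rfl]

theorem ordAt_norm_eq_sum [IsIntegral X] [IsIntegral Y] [IsLocallyNoetherian X]
    [IsLocallyNoetherian Y] (p : X ⟶ Y) (hdom : p (genericPoint X) = genericPoint Y)
    (V : Y.Opens) (hV : IsAffineOpen V) (hU : IsAffineOpen (p ⁻¹ᵁ V))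
    (hfin : (p.appLE V (p ⁻¹ᵁ V) le_rfl).hom.Finite)
    (y : Y) (hy : y ∈ V) (hdimY : ringKrullDim (Y.presheaf.stalk y) = 1)
    (hfib : (p ⁻¹' {y}).Finite) (hspec : p (genericPoint X) ⤳ y)
    (f : X.residueField (genericPoint X)) (hf : f ≠ 0) :
    Cyc.ordAt y (p (genericPoint X)) hspec (Cyc.normGen p (genericPoint X) f) =
      ∑ᶠ x ∈ p ⁻¹' {y}, (p.residueDegree x : ℤ) *
        Cyc.ordAt x (genericPoint X) (genericPoint_specializes x) f := by
  classical
  have hη : (genericPoint X) ∈ p ⁻¹ᵁ V := hspec.mem_open V.2 hy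
  -- the rings
  letI algRS : Algebra Γ(Y, V) Γ(X, p ⁻¹ᵁ V) := (p.appLE V (p ⁻¹ᵁ V) le_rfl).hom.toAlgebra
  haveI : Module.Finite Γ(Y, V) Γ(X, p ⁻¹ᵁ V) := hfin
  haveI : Nonempty (p ⁻¹ᵁ V) := ⟨⟨(genericPoint X), hη⟩⟩
  haveI : Nonempty V := ⟨⟨y, hy⟩⟩
  haveI : IsDomain Γ(Y, V) := IsIntegral.component_integral V
  haveI : IsDomain Γ(X, p ⁻¹ᵁ V) := IsIntegral.component_integral (p ⁻¹ᵁ V)
  haveI : (hV.primeIdealOf ⟨y, hy⟩).asIdeal.IsPrime := (hV.primeIdealOf ⟨y, hy⟩).isPrime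
  letI algRA : Algebra Γ(Y, V) (Y.presheaf.stalk y) := Y.presheaf.algebra_section_stalk ⟨y, hy⟩
  haveI : IsLocalization.AtPrime (Y.presheaf.stalk y) (hV.primeIdealOf ⟨y, hy⟩).asIdeal :=
    hV.isLocalization_stalk ⟨y, hy⟩
  have hkY : RingHom.ker (Cyc.specMap y (p (genericPoint X)) hspec) = ⊥ := ker_specMap_eq_bot hspec hdom
  have hdY : Ring.KrullDimLE 1 (Cyc.LocQuot y (p (genericPoint X)) hspec) :=
    (Order.krullDimLE_iff 1 _).2 ((ringKrullDim_quotient_le _).trans hdimY.le)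
  letI algAK : Algebra (Y.presheaf.stalk y) (Y.residueField (p (genericPoint X))) :=
    (Cyc.specMap y (p (genericPoint X)) hspec).toAlgebra
  haveI : IsFractionRing (Y.presheaf.stalk y) (Y.residueField (p (genericPoint X))) := (cond_stalk hspec hkY hdY).2
  letI algSL : Algebra Γ(X, p ⁻¹ᵁ V) (X.residueField (genericPoint X)) :=
    ((X.presheaf.germ (p ⁻¹ᵁ V) (genericPoint X) hη) ≫ X.residue (genericPoint X)).hom.toAlgebra
  haveI : IsFractionRing Γ(X, p ⁻¹ᵁ V) (X.residueField (genericPoint X)) :=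
    isFractionRing_residueField_generic (p ⁻¹ᵁ V) hU hη
  letI algKL : Algebra (Y.residueField (p (genericPoint X))) (X.residueField (genericPoint X)) :=
    (p.residueFieldMap (genericPoint X)).hom.toAlgebra
  have hcomm : ∀ r : Γ(Y, V), algebraMap (Y.residueField (p (genericPoint X))) (X.residueField (genericPoint X))
      (algebraMap (Y.presheaf.stalk y) (Y.residueField (p (genericPoint X)))
        (algebraMap Γ(Y, V) (Y.presheaf.stalk y) r)) =
      algebraMap Γ(X, p ⁻¹ᵁ V) (X.residueField (genericPoint X)) (algebraMap Γ(Y, V) Γ(X, p ⁻¹ᵁ V) r) := by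
    intro r
    show (p.residueFieldMap (genericPoint X)).hom ((Y.residue (p (genericPoint X))).hom
        ((Y.presheaf.stalkSpecializes hspec).hom ((Y.presheaf.germ V y hy).hom r))) =
      (X.residue (genericPoint X)).hom ((X.presheaf.germ (p ⁻¹ᵁ V) (genericPoint X) hη).hom
        ((p.appLE V (p ⁻¹ᵁ V) le_rfl).hom r))
    have h1 : (Y.presheaf.stalkSpecializes hspec).hom ((Y.presheaf.germ V y hy).hom r) =
        (Y.presheaf.germ V (p (genericPoint X)) hη).hom r :=
      TopCat.Presheaf.germ_stalkSpecializes_apply Y.presheaf hy hspec r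
    rw [h1, ← Scheme.Hom.app_eq_appLE]
    exact Scheme.evaluation_naturality_apply p (genericPoint X) hη r
  have hinj : Function.Injective (algebraMap Γ(Y, V) Γ(X, p ⁻¹ᵁ V)) := by
    have hRA : Function.Injective (algebraMap Γ(Y, V) (Y.presheaf.stalk y)) :=
      IsLocalization.injective (Y.presheaf.stalk y)
        (Ideal.primeCompl_le_nonZeroDivisors (hV.primeIdealOf ⟨y, hy⟩).asIdeal)
    have hAK := IsFractionRing.injective (Y.presheaf.stalk y) (Y.residueField (p (genericPoint X)))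
    have hKL := (algebraMap (Y.residueField (p (genericPoint X))) (X.residueField (genericPoint X))).injective
    intro r r' hrr'
    apply hRA
    apply hAK
    apply hKL
    rw [hcomm, hcomm, hrr']
  -- the points of the fibre
  haveI : Fintype ↥(p ⁻¹' {y}) := hfib.fintype
  have hxU : ∀ x : ↥(p ⁻¹' {y}), x.1 ∈ p ⁻¹ᵁ V := fun x => by
    show p x.1 ∈ V
    rw [show p x.1 = y from x.2]
    exact hy
  have hcomap : ∀ x : ↥(p ⁻¹' {y}),
      (hU.primeIdealOf ⟨x.1, hxU x⟩).comap (p.appLE V (p ⁻¹ᵁ V) le_rfl).hom =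
        hV.primeIdealOf ⟨y, hy⟩ := fun x => by
    rw [IsAffineOpen.comap_primeIdealOf_appLE V hV (p ⁻¹ᵁ V) hU le_rfl (hxU x)]
    congr 1
    exact Subtype.ext x.2
  let q : ↥(p ⁻¹' {y}) → Ideal Γ(X, p ⁻¹ᵁ V) := fun x => (hU.primeIdealOf ⟨x.1, hxU x⟩).asIdeal
  haveI : ∀ x, (q x).IsPrime := fun x => (hU.primeIdealOf ⟨x.1, hxU x⟩).isPrime
  have hq : ∀ x, (q x).comap (algebraMap Γ(Y, V) Γ(X, p ⁻¹ᵁ V)) =
      (hV.primeIdealOf ⟨y, hy⟩).asIdeal := fun x => congrArg PrimeSpectrum.asIdeal (hcomap x)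
  have hbij : ∀ Q : Ideal Γ(X, p ⁻¹ᵁ V), Q.IsPrime →
      Q.comap (algebraMap Γ(Y, V) Γ(X, p ⁻¹ᵁ V)) = (hV.primeIdealOf ⟨y, hy⟩).asIdeal →
      ∃! x, q x = Q := by
    intro Q hQ hQo
    obtain ⟨x, hx⟩ := Groth.Agent.Lib.Helper7.AffPts.primeIdealOf_surjective hU ⟨Q, hQ⟩
    have hfx : p x.1 = y := by
      have h1 := IsAffineOpen.comap_primeIdealOf_appLE V hV (p ⁻¹ᵁ V) hU le_rfl x.2
      rw [hx] at h1
      have h2 : PrimeSpectrum.comap (p.appLE V (p ⁻¹ᵁ V) le_rfl).hom ⟨Q, hQ⟩ =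
          hV.primeIdealOf ⟨y, hy⟩ := PrimeSpectrum.ext hQo
      rw [h2] at h1
      have h3 := Groth.Agent.Lib.Helper7.AffPts.primeIdealOf_injective hV h1
      exact (congrArg Subtype.val h3).symm
    refine ⟨⟨x.1, hfx⟩, ?_, ?_⟩
    · show (hU.primeIdealOf ⟨x.1, _⟩).asIdeal = Q
      have : hU.primeIdealOf ⟨x.1, x.2⟩ = ⟨Q, hQ⟩ := hx
      exact congrArg PrimeSpectrum.asIdeal this
    · intro x' hx'
      have h1 : hU.primeIdealOf ⟨x'.1, hxU x'⟩ = hU.primeIdealOf ⟨x.1, x.2⟩ := by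
        rw [hx]
        exact PrimeSpectrum.ext hx'
      have h2 := Groth.Agent.Lib.Helper7.AffPts.primeIdealOf_injective hU h1
      exact Subtype.ext (congrArg (fun z : ↥(p ⁻¹ᵁ V) => (z : X)) h2)
  letI algSC : ∀ x : ↥(p ⁻¹' {y}), Algebra Γ(X, p ⁻¹ᵁ V) (X.presheaf.stalk x.1) := fun x =>
    X.presheaf.algebra_section_stalk ⟨x.1, hxU x⟩
  haveI : ∀ x : ↥(p ⁻¹' {y}), IsLocalization.AtPrime (X.presheaf.stalk x.1) (q x) := fun x =>
    hU.isLocalization_stalk ⟨x.1, hxU x⟩
  letI algCL : ∀ x : ↥(p ⁻¹' {y}), Algebra (X.presheaf.stalk x.1) (X.residueField (genericPoint X)) := fun x =>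
    (Cyc.specMap x.1 (genericPoint X) (genericPoint_specializes x.1)).toAlgebra
  haveI : ∀ x : ↥(p ⁻¹' {y}),
      IsScalarTower Γ(X, p ⁻¹ᵁ V) (X.presheaf.stalk x.1) (X.residueField (genericPoint X)) := by
    intro x
    apply IsScalarTower.of_algebraMap_eq
    intro s
    show (X.residue (genericPoint X)).hom ((X.presheaf.germ (p ⁻¹ᵁ V) (genericPoint X) hη).hom s) =
      (X.residue (genericPoint X)).hom ((X.presheaf.stalkSpecializes (genericPoint_specializes x.1)).hom
        ((X.presheaf.germ (p ⁻¹ᵁ V) x.1 (hxU x)).hom s))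
    have h1 : (X.presheaf.stalkSpecializes (genericPoint_specializes x.1)).hom
        ((X.presheaf.germ (p ⁻¹ᵁ V) x.1 (hxU x)).hom s) =
        (X.presheaf.germ (p ⁻¹ᵁ V) (genericPoint X) hη).hom s :=
      TopCat.Presheaf.germ_stalkSpecializes_apply X.presheaf (hxU x)
        (genericPoint_specializes x.1) s
    rw [h1]
  have hψ : ∀ (x : ↥(p ⁻¹' {y})) (r : Γ(Y, V)),
      stalkMapOfEq p x.1 y x.2 (algebraMap Γ(Y, V) (Y.presheaf.stalk y) r) =
        algebraMap Γ(X, p ⁻¹ᵁ V) (X.presheaf.stalk x.1)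
          (algebraMap Γ(Y, V) Γ(X, p ⁻¹ᵁ V) r) := by
    intro x r
    show stalkMapOfEq p x.1 y x.2 ((Y.presheaf.germ V y hy).hom r) =
      (X.presheaf.germ (p ⁻¹ᵁ V) x.1 (hxU x)).hom ((p.appLE V (p ⁻¹ᵁ V) le_rfl).hom r)
    rw [← Scheme.Hom.app_eq_appLE]
    exact stalkMapOfEq_germ p x.1 y x.2 V hy r
  have key := ordFrac_norm_eq_sum_RS Γ(Y, V) Γ(X, p ⁻¹ᵁ V) hinj (hV.primeIdealOf ⟨y, hy⟩).asIdeal
    (Y.presheaf.stalk y) hdimY (Y.residueField (p (genericPoint X))) (X.residueField (genericPoint X)) hcomm q hq hbij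
    (fun x : ↥(p ⁻¹' {y}) => X.presheaf.stalk x.1) (fun x => stalkMapOfEq p x.1 y x.2) hψ
    (fun x => p.residueDegree x.1) (fun x => residueDegree_eq_finrank_of_eq p x.1 y x.2) f hf
  rw [ordAt_eq_ordFrac_stalk hspec hkY, ← finsum_set_coe_eq_finsum_mem, finsum_eq_sum_of_fintype]
  refine Eq.trans key ?_
  refine Finset.sum_congr rfl fun x _ => ?_
  rw [ordAt_eq_ordFrac_stalk (genericPoint_specializes x.1)
    (ker_specMap_eq_bot (genericPoint_specializes x.1) rfl)]

end Groth.Agent.Lib.Helper18.Push
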