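import Mathlib
import Groth.Agent.Lib.Helper18.Push.NormDiv

/-!
# The ideal of the base change of a closed immersion, at stalks
-/

set_option autoImplicit false
universe u
open AlgebraicGeometry CategoryTheory IsLocalRing Limits

namespace Groth.Agent.Lib.Helper18.Push

variable {X X' D : Scheme.{u}}

theorem stalkMapOfEq_surjective (i : D ⟶ X) [IsClosedImmersion i] (d : D) (x : X) (h : i d = x) :
    Function.Surjective (stalkMapOfEq i d x h) := by
  subst h
  intro t
  obtain ⟨a, ha⟩ := i.stalkMap_surjective d t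
  exact ⟨a, by rw [stalkMapOfEq_rfl]; exact ha⟩

theorem aux_key {P : Scheme.{u}} (i' : P ⟶ X') (z zz : P) (hz : zz = z)
    (b : X'.presheaf.stalk (i' z)) (hb : (i'.stalkMap z).hom b = 0) {Q : CommRingCat.{u}}
    (ψ : X'.presheaf.stalk (i' z) ⟶ Q) (θ : P.presheaf.stalk zz ⟶ Q)
    (e : Inseparable (i' zz) (i' z))
    (hθ : i'.stalkMap zz ≫ θ = (X'.presheaf.stalkCongr e).hom ≫ ψ) : ψ.hom b = 0 := by
  subst hz
  have h1 : (X'.presheaf.stalkCongr e).hom = 𝟙 _ := by
    rw [TopCat.Presheaf.stalkCongr_hom]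
    exact TopCat.Presheaf.stalkSpecializes_refl _ _
  rw [h1, Category.id_comp] at hθ
  rw [← hθ]
  show θ.hom ((i'.stalkMap zz).hom b) = 0
  rw [hb, map_zero]

/-- The easy inclusion: the extension of the ideal of `D` vanishes on the fibre product. -/
theorem map_ker_le_ker_stalkMap_fst (f : X' ⟶ X) (i : D ⟶ X) (z : ↥(pullback f i))
    (hc : i (pullback.snd f i z) = f (pullback.fst f i z)) :
    Ideal.map (f.stalkMap (pullback.fst f i z)).hom
        (RingHom.ker (stalkMapOfEq i (pullback.snd f i z) (f (pullback.fst f i z)) hc)) ≤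
      RingHom.ker ((pullback.fst f i).stalkMap z).hom := by
  rw [Ideal.map_le_iff_le_comap]
  intro a ha
  rw [Ideal.mem_comap, RingHom.mem_ker]
  rw [RingHom.mem_ker] at ha
  have h1 : ((pullback.fst f i ≫ f).stalkMap z).hom a =
      ((pullback.fst f i).stalkMap z).hom ((f.stalkMap (pullback.fst f i z)).hom a) := by
    rw [Scheme.Hom.stalkMap_comp]
    rfl
  rw [← h1, Scheme.Hom.stalkMap_congr_hom _ _ (pullback.condition (f := f) (g := i)) z,
    Scheme.Hom.stalkMap_comp]
  show ((pullback.snd f i).stalkMap z).hom ((i.stalkMap (pullback.snd f i z)).hom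
    ((X.presheaf.stalkCongr _).hom.hom a)) = 0
  have h2 : ∀ (e : Inseparable (f (pullback.fst f i z)) (i (pullback.snd f i z))),
      (i.stalkMap (pullback.snd f i z)).hom ((X.presheaf.stalkCongr e).hom.hom a) =
      stalkMapOfEq i (pullback.snd f i z) (f (pullback.fst f i z)) hc a := by
    intro e
    unfold stalkMapOfEq
    rw [TopCat.Presheaf.stalkCongr_hom]
    rfl
  refine Eq.trans (congrArg ((pullback.snd f i).stalkMap z).hom (h2 _)) ?_
  rw [ha, map_zero]

/-- The hard inclusion: the ideal of the fibre product is the extension of the ideal of `D`. -/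
theorem ker_stalkMap_fst_le (f : X' ⟶ X) (i : D ⟶ X) [IsClosedImmersion i]
    (z : ↥(pullback f i)) (hc : i (pullback.snd f i z) = f (pullback.fst f i z)) :
    RingHom.ker ((pullback.fst f i).stalkMap z).hom ≤
      Ideal.map (f.stalkMap (pullback.fst f i z)).hom
        (RingHom.ker (stalkMapOfEq i (pullback.snd f i z) (f (pullback.fst f i z)) hc)) := by
  set J' := Ideal.map (f.stalkMap (pullback.fst f i z)).hom
    (RingHom.ker (stalkMapOfEq i (pullback.snd f i z) (f (pullback.fst f i z)) hc)) with hJ'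
  have hJ'le : J' ≤ RingHom.ker ((pullback.fst f i).stalkMap z).hom :=
    map_ker_le_ker_stalkMap_fst f i z hc
  have hJ'ne : J' ≠ ⊤ := by
    intro h
    rw [h] at hJ'le
    have h1 : (1 : X'.presheaf.stalk (pullback.fst f i z)) ∈
        RingHom.ker ((pullback.fst f i).stalkMap z).hom := hJ'le Submodule.mem_top
    rw [RingHom.mem_ker, map_one] at h1
    exact one_ne_zero h1
  haveI : Nontrivial (X'.presheaf.stalk (pullback.fst f i z) ⧸ J') :=
    Ideal.Quotient.nontrivial_iff.2 hJ'ne
  haveI : IsLocalRing (X'.presheaf.stalk (pullback.fst f i z) ⧸ J') :=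
    IsLocalRing.of_surjective' (Ideal.Quotient.mk J') Ideal.Quotient.mk_surjective
  let Q : CommRingCat.{u} := CommRingCat.of (X'.presheaf.stalk (pullback.fst f i z) ⧸ J')
  let ψ : X'.presheaf.stalk (pullback.fst f i z) ⟶ Q := CommRingCat.ofHom (Ideal.Quotient.mk J')
  haveI : IsLocalHom ψ.hom :=
    IsLocalHom.of_surjective (Ideal.Quotient.mk J') Ideal.Quotient.mk_surjective
  -- the map from the local ring of `D`
  have hker : RingHom.ker (stalkMapOfEq i (pullback.snd f i z) (f (pullback.fst f i z)) hc) ≤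
      RingHom.ker ((Ideal.Quotient.mk J').comp (f.stalkMap (pullback.fst f i z)).hom) := by
    intro a ha
    rw [RingHom.mem_ker, RingHom.comp_apply, Ideal.Quotient.eq_zero_iff_mem]
    exact Ideal.mem_map_of_mem _ ha
  let χ₀ : D.presheaf.stalk (pullback.snd f i z) →+*
      (X'.presheaf.stalk (pullback.fst f i z) ⧸ J') :=
    RingHom.liftOfSurjective (stalkMapOfEq i (pullback.snd f i z) (f (pullback.fst f i z)) hc)
      (stalkMapOfEq_surjective i _ _ hc)
      ⟨(Ideal.Quotient.mk J').comp (f.stalkMap (pullback.fst f i z)).hom, hker⟩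
  have hχ₀ : ∀ a, χ₀ (stalkMapOfEq i (pullback.snd f i z) (f (pullback.fst f i z)) hc a) =
      Ideal.Quotient.mk J' ((f.stalkMap (pullback.fst f i z)).hom a) := fun a =>
    RingHom.liftOfSurjective_comp_apply _ _ _ a
  let χ : D.presheaf.stalk (pullback.snd f i z) ⟶ Q := CommRingCat.ofHom χ₀
  -- the morphism from `Spec Q` to the fibre product
  have hcompat : (Spec.map ψ ≫ X'.fromSpecStalk (pullback.fst f i z)) ≫ f =
      (Spec.map χ ≫ D.fromSpecStalk (pullback.snd f i z)) ≫ i := by
    rw [Category.assoc, Category.assoc, ← Scheme.SpecMap_stalkMap_fromSpecStalk,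
      ← Scheme.SpecMap_stalkMap_fromSpecStalk (f := i),
      ← Scheme.SpecMap_stalkSpecializes_fromSpecStalk (specializes_of_eq hc),
      ← Spec.map_comp_assoc, ← Spec.map_comp_assoc, ← Spec.map_comp_assoc]
    congr 2
    ext a
    exact (hχ₀ a).symm
  let m : Spec Q ⟶ pullback f i := pullback.lift _ _ hcompat
  have hm : m ≫ pullback.fst f i = Spec.map ψ ≫ X'.fromSpecStalk (pullback.fst f i z) :=
    pullback.lift_fst _ _ _
  -- compare the two sides through `SpecToEquivOfLocalRing`
  have hE := congrArg (SpecToEquivOfLocalRing X' Q) hm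
  have hR := (SpecToEquivOfLocalRing X' Q).right_inv
    ⟨pullback.fst f i z, ψ, inferInstance⟩
  have hE' : (SpecToEquivOfLocalRing X' Q) (m ≫ pullback.fst f i) =
      ⟨pullback.fst f i z, ψ, inferInstance⟩ := hE.trans hR
  obtain ⟨h₁, h₂⟩ := SpecToEquivOfLocalRing_eq_iff.mp hE'
  have h₁' : pullback.fst f i (m (closedPoint Q)) = pullback.fst f i z := h₁
  have hzz : m (closedPoint Q) = z :=
    (pullback.fst f i).isClosedEmbedding.injective h₁'
  have h₂' : (pullback.fst f i).stalkMap (m (closedPoint Q)) ≫ Scheme.stalkClosedPointTo m =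
      (X'.presheaf.stalkCongr (.of_eq h₁')).hom ≫ ψ := by
    rw [← Scheme.stalkClosedPointTo_comp]
    exact h₂
  intro b hb
  rw [RingHom.mem_ker] at hb
  have := aux_key (pullback.fst f i) z (m (closedPoint Q)) hzz b hb ψ
    (Scheme.stalkClosedPointTo m) (.of_eq h₁') h₂'
  exact Ideal.Quotient.eq_zero_iff_mem.1 this

end Groth.Agent.Lib.Helper18.Push
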