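import Mathlib
import Groth.Agent.Lib.Helper18.Push.NormDiv
import Groth.Agent.Lib.Helper18.Push.BaseChangeKer
import Groth.Agent.Lib.Helper18.FieldBC.LengthAlg

/-!
# The ideal of the base change of a preimmersion at stalks, and fibre lengths
(arbitrary pullback squares)
-/

set_option autoImplicit false
universe u
open AlgebraicGeometry CategoryTheory IsLocalRing Limits

namespace Groth.Agent.Lib.Helper18.Push

variable {P X X' D : Scheme.{u}} {b : P ⟶ X'} {a : P ⟶ D} {p : X' ⟶ X} {j : D ⟶ X}

theorem stalkMapOfEq_surjective' (i : D ⟶ X) [IsPreimmersion i] (d : D) (x : X) (h : i d = x) :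
    Function.Surjective (stalkMapOfEq i d x h) := by
  subst h
  intro t
  obtain ⟨a, ha⟩ := i.stalkMap_surjective d t
  exact ⟨a, by rw [stalkMapOfEq_rfl]; exact ha⟩

theorem sq_apply (sq : IsPullback b a p j) (z : P) : j (a z) = p (b z) := by
  have := congrArg (fun F : P ⟶ X => F z) sq.w
  exact this.symm

/-- The commutativity of the square, at stalks. -/
theorem sq_stalkMap (sq : IsPullback b a p j) (z : P) (hc : j (a z) = p (b z))
    (t : X.presheaf.stalk (p (b z))) :
    (b.stalkMap z).hom ((p.stalkMap (b z)).hom t) =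
      (a.stalkMap z).hom (stalkMapOfEq j (a z) (p (b z)) hc t) := by
  have h1 : ((b ≫ p).stalkMap z).hom t = (b.stalkMap z).hom ((p.stalkMap (b z)).hom t) := by
    rw [Scheme.Hom.stalkMap_comp]
    rfl
  rw [← h1, Scheme.Hom.stalkMap_congr_hom _ _ sq.w z, Scheme.Hom.stalkMap_comp]
  show (a.stalkMap z).hom ((j.stalkMap (a z)).hom ((X.presheaf.stalkCongr _).hom.hom t)) = _
  have h2 : ∀ (e : Inseparable (p (b z)) (j (a z))),
      (j.stalkMap (a z)).hom ((X.presheaf.stalkCongr e).hom.hom t) =
      stalkMapOfEq j (a z) (p (b z)) hc t := by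
    intro e
    unfold stalkMapOfEq
    rw [TopCat.Presheaf.stalkCongr_hom]
    rfl
  exact congrArg (a.stalkMap z).hom (h2 _)

theorem map_ker_le_ker_stalkMap (sq : IsPullback b a p j) (z : P)
    (hc : j (a z) = p (b z)) :
    Ideal.map (p.stalkMap (b z)).hom (RingHom.ker (stalkMapOfEq j (a z) (p (b z)) hc)) ≤
      RingHom.ker (b.stalkMap z).hom := by
  rw [Ideal.map_le_iff_le_comap]
  intro t ht
  rw [Ideal.mem_comap, RingHom.mem_ker]
  rw [RingHom.mem_ker] at ht
  rw [sq_stalkMap sq z hc t, ht, map_zero]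

/-- The ideal of the base change of a preimmersion is the extension of the ideal. -/
theorem ker_stalkMap_le (sq : IsPullback b a p j) [IsPreimmersion j] (z : P)
    (hc : j (a z) = p (b z)) :
    RingHom.ker (b.stalkMap z).hom ≤
      Ideal.map (p.stalkMap (b z)).hom (RingHom.ker (stalkMapOfEq j (a z) (p (b z)) hc)) := by
  haveI : IsPreimmersion b := MorphismProperty.of_isPullback sq.flip inferInstance
  set J' := Ideal.map (p.stalkMap (b z)).hom
    (RingHom.ker (stalkMapOfEq j (a z) (p (b z)) hc)) with hJ'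
  have hJ'le : J' ≤ RingHom.ker (b.stalkMap z).hom := map_ker_le_ker_stalkMap sq z hc
  have hJ'ne : J' ≠ ⊤ := by
    intro h
    rw [h] at hJ'le
    have h1 : (1 : X'.presheaf.stalk (b z)) ∈ RingHom.ker (b.stalkMap z).hom :=
      hJ'le Submodule.mem_top
    rw [RingHom.mem_ker, map_one] at h1
    exact one_ne_zero h1
  haveI : Nontrivial (X'.presheaf.stalk (b z) ⧸ J') := Ideal.Quotient.nontrivial_iff.2 hJ'ne
  haveI : IsLocalRing (X'.presheaf.stalk (b z) ⧸ J') :=
    IsLocalRing.of_surjective' (Ideal.Quotient.mk J') Ideal.Quotient.mk_surjective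
  let Q : CommRingCat.{u} := CommRingCat.of (X'.presheaf.stalk (b z) ⧸ J')
  let ψ : X'.presheaf.stalk (b z) ⟶ Q := CommRingCat.ofHom (Ideal.Quotient.mk J')
  haveI : IsLocalHom ψ.hom :=
    IsLocalHom.of_surjective (Ideal.Quotient.mk J') Ideal.Quotient.mk_surjective
  have hker : RingHom.ker (stalkMapOfEq j (a z) (p (b z)) hc) ≤
      RingHom.ker ((Ideal.Quotient.mk J').comp (p.stalkMap (b z)).hom) := by
    intro t ht
    rw [RingHom.mem_ker, RingHom.comp_apply, Ideal.Quotient.eq_zero_iff_mem]
    exact Ideal.mem_map_of_mem _ ht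
  let χ₀ : D.presheaf.stalk (a z) →+* (X'.presheaf.stalk (b z) ⧸ J') :=
    RingHom.liftOfSurjective (stalkMapOfEq j (a z) (p (b z)) hc)
      (stalkMapOfEq_surjective' j _ _ hc)
      ⟨(Ideal.Quotient.mk J').comp (p.stalkMap (b z)).hom, hker⟩
  have hχ₀ : ∀ t, χ₀ (stalkMapOfEq j (a z) (p (b z)) hc t) =
      Ideal.Quotient.mk J' ((p.stalkMap (b z)).hom t) := fun t =>
    RingHom.liftOfSurjective_comp_apply _ _ _ t
  let χ : D.presheaf.stalk (a z) ⟶ Q := CommRingCat.ofHom χ₀
  have hcompat : (Spec.map ψ ≫ X'.fromSpecStalk (b z)) ≫ p =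
      (Spec.map χ ≫ D.fromSpecStalk (a z)) ≫ j := by
    rw [Category.assoc, Category.assoc, ← Scheme.SpecMap_stalkMap_fromSpecStalk,
      ← Scheme.SpecMap_stalkMap_fromSpecStalk (f := j),
      ← Scheme.SpecMap_stalkSpecializes_fromSpecStalk (specializes_of_eq hc),
      ← Spec.map_comp_assoc, ← Spec.map_comp_assoc, ← Spec.map_comp_assoc]
    congr 2
    ext t
    exact (hχ₀ t).symm
  let m : Spec Q ⟶ P := sq.lift _ _ hcompat
  have hm : m ≫ b = Spec.map ψ ≫ X'.fromSpecStalk (b z) := sq.lift_fst _ _ _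
  have hE := congrArg (SpecToEquivOfLocalRing X' Q) hm
  have hR := (SpecToEquivOfLocalRing X' Q).right_inv ⟨b z, ψ, inferInstance⟩
  have hE' : (SpecToEquivOfLocalRing X' Q) (m ≫ b) = ⟨b z, ψ, inferInstance⟩ := hE.trans hR
  obtain ⟨h₁, h₂⟩ := SpecToEquivOfLocalRing_eq_iff.mp hE'
  have h₁' : b (m (closedPoint Q)) = b z := h₁
  have hzz : m (closedPoint Q) = z := b.isEmbedding.injective h₁'
  have h₂' : b.stalkMap (m (closedPoint Q)) ≫ Scheme.stalkClosedPointTo m =
      (X'.presheaf.stalkCongr (.of_eq h₁')).hom ≫ ψ := by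
    rw [← Scheme.stalkClosedPointTo_comp]
    exact h₂
  intro t ht
  rw [RingHom.mem_ker] at ht
  have := aux_key b z (m (closedPoint Q)) hzz t ht ψ
    (Scheme.stalkClosedPointTo m) (.of_eq h₁') h₂'
  exact Ideal.Quotient.eq_zero_iff_mem.1 this

/-- Lengths of quotients along a surjective ring homomorphism. -/
theorem length_quot_eq_of_surjective' {A B : Type*} [CommRing A] [CommRing B] (φ : A →+* B)
    (hφ : Function.Surjective φ) (J : Ideal A) (J' : Ideal B) (h : Ideal.comap φ J' = J) :
    Module.length A (A ⧸ J) = Module.length B (B ⧸ J') := by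
  rw [Module.length_eq_of_surjective (R := A ⧸ J) (S := A) (M := A ⧸ J)
      Ideal.Quotient.mk_surjective,
    Module.length_eq_of_surjective (R := B ⧸ J') (S := B) (M := B ⧸ J')
      Ideal.Quotient.mk_surjective]
  let ψ : A →+* B ⧸ J' := (Ideal.Quotient.mk J').comp φ
  have hψ : Function.Surjective ψ := Ideal.Quotient.mk_surjective.comp hφ
  have hker : RingHom.ker ψ = J := by
    rw [← h]
    ext t
    rw [RingHom.mem_ker, Ideal.mem_comap]
    exact Ideal.Quotient.eq_zero_iff_mem
  exact Groth.Agent.Lib.Helper18.FieldBC.length_self_eq_of_ringEquiv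
    ((Ideal.quotEquivOfEq hker.symm).trans (RingHom.quotientKerEquivOfSurjective hψ))

theorem map_maximalIdeal_of_surjective' {A B : Type*} [CommRing A] [CommRing B] [IsLocalRing A]
    [IsLocalRing B] (σ : A →+* B) [IsLocalHom σ] (hσ : Function.Surjective σ) :
    Ideal.map σ (maximalIdeal A) = maximalIdeal B := by
  apply le_antisymm
  · rw [Ideal.map_le_iff_le_comap]
    intro t ht
    rw [Ideal.mem_comap, mem_maximalIdeal, mem_nonunits_iff]
    rw [mem_maximalIdeal, mem_nonunits_iff] at ht
    exact fun hu => ht (isUnit_of_map_unit σ t hu)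
  · intro t ht
    obtain ⟨s, rfl⟩ := hσ t
    apply Ideal.mem_map_of_mem
    rw [mem_maximalIdeal, mem_nonunits_iff] at ht ⊢
    exact fun hu => ht (hu.map σ)

/-- **Fibre lengths are invariant under base change along a preimmersion.** -/
theorem fibLen_eq_of_isPullback (sq : IsPullback b a p j) [IsPreimmersion j] (z : P) :
    Module.length (P.presheaf.stalk z) (P.presheaf.stalk z ⧸
      Ideal.map (a.stalkMap z).hom (maximalIdeal (D.presheaf.stalk (a z)))) =
    Module.length (X'.presheaf.stalk (b z)) (X'.presheaf.stalk (b z) ⧸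
      Ideal.map (p.stalkMap (b z)).hom (maximalIdeal (X.presheaf.stalk (p (b z))))) := by
  haveI : IsPreimmersion b := MorphismProperty.of_isPullback sq.flip inferInstance
  have hc : j (a z) = p (b z) := sq_apply sq z
  symm
  apply length_quot_eq_of_surjective' (b.stalkMap z).hom (b.stalkMap_surjective z)
  set σ := stalkMapOfEq j (a z) (p (b z)) hc with hσ
  have hσs : Function.Surjective σ := stalkMapOfEq_surjective' j _ _ hc
  have hmap : Ideal.map (b.stalkMap z).hom
      (Ideal.map (p.stalkMap (b z)).hom (maximalIdeal (X.presheaf.stalk (p (b z))))) =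
      Ideal.map (a.stalkMap z).hom (maximalIdeal (D.presheaf.stalk (a z))) := by
    rw [Ideal.map_map, ← map_maximalIdeal_of_surjective' σ hσs, Ideal.map_map]
    congr 1
    ext t
    exact sq_stalkMap sq z hc t
  rw [← hmap, Ideal.comap_map_of_surjective _ (b.stalkMap_surjective z)]
  apply le_antisymm
  · apply sup_le le_rfl
    have h1 : Ideal.comap (b.stalkMap z).hom ⊥ = RingHom.ker (b.stalkMap z).hom := rfl
    rw [h1]
    refine (ker_stalkMap_le sq z hc).trans (Ideal.map_mono ?_)
    intro t ht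
    rw [RingHom.mem_ker] at ht
    rw [mem_maximalIdeal, mem_nonunits_iff]
    intro hu
    have := hu.map σ
    rw [ht] at this
    exact not_isUnit_zero this
  · exact le_sup_left

end Groth.Agent.Lib.Helper18.Push
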