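import Mathlib
import Groth.Prelude.Def_Cyc
import Groth.Agent.Lib.Helper18.Push.NormDiv
import Groth.Agent.Lib.Helper24.Cat.StalkDim

/-!
# Proper pushforward of a principal divisor (generically finite case)
-/

set_option autoImplicit false
universe u
open AlgebraicGeometry CategoryTheory IsLocalRing

namespace Groth.Agent.Lib.Helper18.Push

variable {X Y : Scheme.{u}}

/-- `p_* div(f) = div(Nm f)` coefficientwise, for `p` proper dominant between integral schemes
with `δX(η_X) = δY(η_Y)`. -/
theorem push_divFun_eq_divFun_norm [IsIntegral X] [IsIntegral Y] [IsLocallyNoetherian X]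
    [IsLocallyNoetherian Y] (δX : X → ℤ) (δY : Y → ℤ) (hδX : Cyc.IsDimFun X δX)
    (hδY : Cyc.IsDimFun Y δY) (p : X ⟶ Y) [IsProper p] (hδ : Cyc.DeltaCompat p δX δY)
    (hdom : p (genericPoint X) = genericPoint Y)
    (hn : δX (genericPoint X) = δY (genericPoint Y)) (f : X.residueField (genericPoint X))
    (hf : f ≠ 0) (y : Y) :
    ∑ᶠ x ∈ p ⁻¹' {y}, Cyc.divFun δX (genericPoint X) f x *
        ((AlgebraicCycle.mapCoeff p δX δY x : ℕ) : ℤ) =
      Cyc.divFun δY (p (genericPoint X)) (Cyc.normGen p (genericPoint X) f) y := by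
  classical
  have hspec : p (genericPoint X) ⤳ y := by
    rw [hdom]
    exact genericPoint_specializes y
  by_cases hdy : δY y + 1 = δY (p (genericPoint X))
  · -- the main case
    have hpt : ∀ x : X, p x = y → δX x = δY y ∧ δX x + 1 = δX (genericPoint X) := by
      intro x hx
      obtain ⟨n, -, hn'⟩ := hδ x
      rw [hx] at hn'
      have hne : genericPoint X ≠ x := by
        intro h
        rw [← h, hdom] at hx
        rw [hdom, hx] at hdy
        omega
      have hlt := (hδX (genericPoint X) x (genericPoint_specializes x) hne).1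
      rw [hn, ← hdom, ← hdy] at hlt
      have : (n : ℤ) = 0 := by omega
      constructor
      · omega
      · rw [hn, ← hdom, ← hdy]
        omega
    have hfib : (p ⁻¹' {y}).Finite := by
      apply finite_preimage_singleton_of_noSpec
      intro x x' hx hx' hxx'
      by_contra hne
      have := (hδX x x' hxx' hne).1
      rw [(hpt x hx).1, (hpt x' hx').1] at this
      exact lt_irrefl _ this
    obtain ⟨V, hV, hyV, hVfin⟩ := exists_isAffineOpen_isFinite_morphismRestrict p y hfib
    haveI := hVfin
    obtain ⟨hU, hfin⟩ := finite_appLE_of_isFinite_morphismRestrict p V hV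
    have hdimY : ringKrullDim (Y.presheaf.stalk y) = 1 := by
      obtain ⟨n, h1, h2⟩ := Groth.Agent.Lib.Helper24.StalkDim.ringKrullDim_stalk_eq δY hδY y
      rw [← hdom, ← hdy] at h2
      have : n = 1 := by omega
      rw [h1, this]
      rfl
    have hmain := ordAt_norm_eq_sum p hdom V hV hU hfin y hyV hdimY hfib hspec f hf
    unfold Cyc.divFun
    rw [dif_pos ⟨hspec, hdy⟩, hmain]
    apply finsum_mem_congr rfl
    intro x hx
    have hx' : p x = y := hx
    obtain ⟨h1, h2⟩ := hpt x hx'
    rw [dif_pos ⟨genericPoint_specializes x, h2⟩]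
    unfold AlgebraicCycle.mapCoeff
    rw [if_pos (by rw [h1, hx'])]
    ring
  · -- both sides vanish
    unfold Cyc.divFun
    rw [dif_neg (fun h => hdy h.2)]
    apply finsum_mem_eq_zero_of_forall_eq_zero
    intro x hx
    have hx' : p x = y := hx
    by_cases h1 : genericPoint X ⤳ x ∧ δX x + 1 = δX (genericPoint X)
    · unfold AlgebraicCycle.mapCoeff
      rw [if_neg, Nat.cast_zero, mul_zero]
      intro h2
      apply hdy
      rw [hdom, ← hn, ← h1.2, h2, hx']
    · rw [dif_neg h1, zero_mul]

end Groth.Agent.Lib.Helper18.Push
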