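import Mathlib
import Groth.Prelude.Def_Cyc
import Groth.Agent.Lib.Helper18.FF.Approx
import Groth.Agent.Lib.Helper24.Lattice.Main

/-!
# Places of a function field and discrete valuation rings / Dedekind domains inside it
-/

set_option autoImplicit false
universe u
open FunFld WithZero IsDedekindDomain

namespace Groth.Agent.Lib.Helper18.Push

open Groth.Agent.Lib.Helper18.FF

section general
variable {k K : Type*} [Field k] [Field K] [Algebra k K]

/-- Two places with the same valuation ring are equal. -/
theorem place_ext {P Q : Place k K} (h : ∀ z : K, P.1 z ≤ 1 ↔ Q.1 z ≤ 1) : P = Q := by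
  by_contra hne
  obtain ⟨y, hy1, hy2⟩ := exists_val_le_one_lt hne
  exact absurd ((h y).mp hy1) (not_le.mpr hy2)

end general

section dvr
variable {k : Type*} {K : Type u} [Field k] [Field K] [Algebra k K]

/-- The order function of a discrete valuation ring whose elements are exactly the integers of
a place is the order function of the place. -/
theorem ordFrac_eq_place_ord (R : Type u) [CommRing R] [IsDomain R] [IsDiscreteValuationRing R]
    [Algebra R K] [IsFractionRing R K] (P : Place k K)
    (h : ∀ z : K, P.1 z ≤ 1 ↔ z ∈ Set.range (algebraMap R K)) (f : K) :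
    CycAlg.ordFrac R K f = P.ord f := by
  let v := IsDiscreteValuationRing.maximalIdeal R
  let Q : Place k K := ⟨v.valuation K, fun c => by
    obtain ⟨r, hr⟩ := (h _).mp (P.2.1 c)
    rw [← hr]
    exact v.valuation_le_one r, v.valuation_surjective K⟩
  have hQP : Q = P := by
    apply place_ext
    intro z
    rw [h z]
    constructor
    · intro hz
      obtain ⟨n, d, hnd⟩ := v.exists_primeCompl_mul_eq_of_integer z hz
      have hd : IsUnit (d : R) := by
        have : (d : R) ∉ IsLocalRing.maximalIdeal R := d.2
        rwa [IsLocalRing.mem_maximalIdeal, mem_nonunits_iff, not_not] at this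
      obtain ⟨e, he⟩ := hd.exists_right_inv
      refine ⟨n * e, ?_⟩
      rw [map_mul, ← hnd, mul_assoc, ← map_mul, he, map_one, mul_one]
    · rintro ⟨r, rfl⟩
      exact v.valuation_le_one r
  rw [Groth.Agent.Lib.Helper24.LatDist.ordZ_eq, Ring.ordFrac_eq_valuation_inv, ← hQP]
  show _ = -WithZero.log (v.valuation K f)
  rcases eq_or_ne f 0 with rfl | hf
  · simp
  · have hne : v.valuation K f ≠ 0 := (Valuation.ne_zero_iff _).mpr hf
    rw [← WithZero.log_inv]
    rfl

end dvr

end Groth.Agent.Lib.Helper18.Push
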