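import Mathlib
import Groth.Prelude.Def_Cyc
import Groth.Agent.Lib.Helper18.Push.PlaceDVR

/-!
# Places attached to the maximal ideals of a Dedekind domain inside a function field
-/

set_option autoImplicit false
universe u
open FunFld WithZero IsDedekindDomain

namespace Groth.Agent.Lib.Helper18.Push

open Groth.Agent.Lib.Helper18.FF

section
variable (k : Type*) (K : Type u) [Field k] [Field K] [Algebra k K]
variable (B : Type u) [CommRing B] [IsDedekindDomain B] [Algebra B K] [IsFractionRing B K]
  [Algebra k B] [IsScalarTower k B K]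

/-- The place of `K/k` attached to a maximal ideal of a Dedekind domain `B ⊇ k` with fraction
field `K`. -/
noncomputable def placeOf (v : HeightOneSpectrum B) : Place k K :=
  ⟨v.valuation K, fun c => by
    rw [IsScalarTower.algebraMap_apply k B K]
    exact v.valuation_le_one _, v.valuation_surjective K⟩

@[simp] theorem placeOf_val (v : HeightOneSpectrum B) (z : K) :
    (placeOf k K B v).1 z = v.valuation K z := rfl

theorem placeOf_injective : Function.Injective (placeOf k K B) := by
  intro v w h
  apply HeightOneSpectrum.ext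
  ext b
  rw [← v.valuation_lt_one_iff_mem (K := K), ← w.valuation_lt_one_iff_mem (K := K)]
  have := congrArg (fun P : Place k K => P.1 (algebraMap B K b)) h
  simp only [placeOf_val] at this
  rw [this]

/-- A place whose valuation ring contains `B`, and which is nontrivial on `B`, is the place of
a maximal ideal of `B`. -/
theorem exists_placeOf_eq (P : Place k K) (hP : ∀ b : B, P.1 (algebraMap B K b) ≤ 1)
    (hnt : ∃ b : B, b ≠ 0 ∧ P.1 (algebraMap B K b) < 1) : ∃ v, placeOf k K B v = P := by
  obtain ⟨b₀, hb₀, hb₀'⟩ := hnt
  let q : Ideal B :=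
    { carrier := {b | P.1 (algebraMap B K b) < 1}
      add_mem' := fun {a b} ha hb => by
        show P.1 (algebraMap B K (a + b)) < 1
        rw [map_add]
        exact lt_of_le_of_lt (P.1.map_add _ _) (max_lt ha hb)
      zero_mem' := by
        show P.1 (algebraMap B K 0) < 1
        rw [map_zero, map_zero]
        exact zero_lt_one
      smul_mem' := fun c b hb => by
        show P.1 (algebraMap B K (c • b)) < 1
        rw [smul_eq_mul, map_mul, map_mul]
        exact mul_lt_one_of_nonneg_of_lt_one_right (hP c) zero_le' hb }
  have hqmem : ∀ b, b ∈ q ↔ P.1 (algebraMap B K b) < 1 := fun b => Iff.rfl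
  have hqprime : q.IsPrime := by
    refine ⟨?_, ?_⟩
    · intro htop
      have : (1 : B) ∈ q := htop ▸ Submodule.mem_top
      rw [hqmem, map_one, map_one] at this
      exact lt_irrefl _ this
    · intro a b hab
      rw [hqmem, map_mul, map_mul] at hab
      by_contra hcon
      push Not at hcon
      rw [hqmem, hqmem, not_lt, not_lt] at hcon
      have h1 : P.1 (algebraMap B K a) = 1 := le_antisymm (hP a) hcon.1
      have h2 : P.1 (algebraMap B K b) = 1 := le_antisymm (hP b) hcon.2
      rw [h1, h2, one_mul] at hab
      exact lt_irrefl _ hab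
  have hqne : q ≠ ⊥ := by
    intro h
    have : b₀ ∈ q := hb₀'
    rw [h, Ideal.mem_bot] at this
    exact hb₀ this
  let v : HeightOneSpectrum B := ⟨q, hqprime, hqne⟩
  refine ⟨v, place_ext fun z => ?_⟩
  have hunit : ∀ d : B, d ∉ q → P.1 (algebraMap B K d) = 1 := fun d hd =>
    le_antisymm (hP d) (not_lt.mp hd)
  rw [placeOf_val]
  constructor
  · intro hz
    obtain ⟨n, d, hnd⟩ := v.exists_primeCompl_mul_eq_of_integer z hz
    have hd : P.1 (algebraMap B K d) = 1 := hunit d d.2
    have := congrArg P.1 hnd
    rw [map_mul, hd, mul_one] at this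
    rw [this]
    exact hP n
  · intro hz
    by_contra hcon
    push Not at hcon
    have hz0 : z ≠ 0 := by
      rintro rfl
      rw [map_zero] at hcon
      exact not_lt.mpr zero_le' hcon
    have hinv : v.valuation K z⁻¹ < 1 := by
      rw [map_inv₀]
      exact inv_lt_one_of_one_lt₀ hcon
    obtain ⟨n, d, hnd⟩ := v.exists_primeCompl_mul_eq_of_integer z⁻¹ hinv.le
    have hd : P.1 (algebraMap B K d) = 1 := hunit d d.2
    have hd' : v.valuation K (algebraMap B K d) = 1 :=
      (v.valuation_eq_one_iff_notMem (K := K)).mpr d.2
    have hn : n ∈ q := (v.valuation_lt_one_iff_mem (K := K) n).mp (by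
      show v.valuation K (algebraMap B K n) < 1
      rw [← hnd, map_mul, hd', mul_one]
      exact hinv)
    have hn' : P.1 (algebraMap B K n) < 1 := hn
    rw [← hnd, map_mul, hd, mul_one, map_inv₀] at hn'
    have hpz : P.1 z ≠ 0 := (Valuation.ne_zero_iff _).mpr hz0
    have h4 : 1 < P.1 z := (inv_lt_one₀ (zero_lt_iff.mpr hpz)).mp hn'
    exact absurd hz (not_le.mpr h4)

/-! ### The valuation ring of `placeOf v` as the localization of `B` at `v` -/

noncomputable instance algPlaceOf (v : HeightOneSpectrum B) : Algebra B (placeOf k K B v).O :=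
  ((algebraMap B K).codRestrict (placeOf k K B v).O fun b => v.valuation_le_one b).toAlgebra

instance isScalarTower_placeOf (v : HeightOneSpectrum B) :
    IsScalarTower B (placeOf k K B v).O K :=
  IsScalarTower.of_algebraMap_eq fun _ => rfl

theorem coe_algebraMap_placeOf (v : HeightOneSpectrum B) (b : B) :
    ((algebraMap B (placeOf k K B v).O b : (placeOf k K B v).O) : K) = algebraMap B K b := rfl

instance isLocalization_placeOf (v : HeightOneSpectrum B) :
    IsLocalization.AtPrime (placeOf k K B v).O v.asIdeal where
  map_units := by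
    rintro ⟨d, hd⟩
    have hd' : v.valuation K (algebraMap B K d) = 1 :=
      (v.valuation_eq_one_iff_notMem (K := K)).mpr hd
    have hd0 : algebraMap B K d ≠ 0 := by
      intro h0
      rw [h0, map_zero] at hd'
      exact zero_ne_one hd'
    refine IsUnit.of_mul_eq_one ⟨(algebraMap B K d)⁻¹, ?_⟩ ?_
    · show v.valuation K (algebraMap B K d)⁻¹ ≤ 1
      rw [map_inv₀, hd', inv_one]
    · apply Subtype.ext
      show algebraMap B K d * (algebraMap B K d)⁻¹ = 1
      exact mul_inv_cancel₀ hd0
  surj := by
    rintro ⟨z, hz⟩
    obtain ⟨n, d, hnd⟩ := v.exists_primeCompl_mul_eq_of_integer z hz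
    exact ⟨⟨n, d⟩, Subtype.ext hnd⟩
  exists_of_eq := by
    intro a b hab
    refine ⟨1, ?_⟩
    have := congrArg (Subtype.val : (placeOf k K B v).O → K) hab
    have h2 : algebraMap B K a = algebraMap B K b := this
    rw [IsFractionRing.injective B K h2]

instance isDVR_placeOf (v : HeightOneSpectrum B) : IsDiscreteValuationRing (placeOf k K B v).O :=
  IsLocalization.AtPrime.isDiscreteValuationRing_of_dedekind_domain B v.ne_bot _

/-- The order at the DVR `O_v` is the order at the place of `v`. -/
theorem ordFrac_placeOf (v : HeightOneSpectrum B) (f : K) :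
    CycAlg.ordFrac (placeOf k K B v).O K f = (placeOf k K B v).ord f := by
  apply ordFrac_eq_place_ord
  intro z
  constructor
  · intro hz
    exact ⟨⟨z, hz⟩, rfl⟩
  · rintro ⟨⟨w, hw⟩, rfl⟩
    exact hw

end

end Groth.Agent.Lib.Helper18.Push
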