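import Mathlib
import Groth.Agent.Lib.Helper18.NormCurve.Algebra

/-!
# Finiteness of the integral closure of a local ring essentially of finite type over a field,
inside a function field of one variable
-/

set_option autoImplicit false
universe u
open Module

namespace Groth.Agent.Lib.Helper18.Push

theorem finite_integralClosure_of_essFiniteType
    {K L : Type u} [Field K] [Field L] [Algebra K L] [Algebra.EssFiniteType K L]
    (htr : Algebra.trdeg K L = 1)
    (A : Type u) [CommRing A] [Algebra K A] [Algebra A L] [IsScalarTower K A L]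
    (hinj : Function.Injective (algebraMap A L))
    (T : Finset A)
    (hT : ∀ a : A, ∃ r s : A, r ∈ Algebra.adjoin K (T : Set A) ∧
      s ∈ Algebra.adjoin K (T : Set A) ∧ IsUnit s ∧ a * s = r)
    (t : A) (ht : Transcendental K (algebraMap A L t)) :
    Module.Finite A (integralClosure A L) := by
  classical
  let R : Subalgebra K A := Algebra.adjoin K (T : Set A)
  haveI : Algebra.FiniteType K R :=
    (Subalgebra.fg_iff_finiteType R).mp (Subalgebra.fg_adjoin_finset T)
  haveI : IsScalarTower K R L := by
    refine IsScalarTower.of_algebraMap_eq (fun c => ?_)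
    show algebraMap K L c = algebraMap A L ((algebraMap K R c : R) : A)
    rw [IsScalarTower.algebraMap_apply K A L]
    rfl
  haveI : IsScalarTower R A L := inferInstance
  -- a transcendental element of `R`
  obtain ⟨r₀, s₀, hr₀, hs₀, hs₀u, hts⟩ := hT t
  have hex : ∃ r : R, Transcendental K (algebraMap R L r) := by
    by_contra hcon
    push_neg at hcon
    have h1 : IsAlgebraic K (algebraMap A L r₀) := by
      have := hcon ⟨r₀, hr₀⟩
      rwa [Transcendental, not_not] at this
    have h2 : IsAlgebraic K (algebraMap A L s₀) := by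
      have := hcon ⟨s₀, hs₀⟩
      rwa [Transcendental, not_not] at this
    have hs0 : algebraMap A L s₀ ≠ 0 := (hs₀u.map (algebraMap A L)).ne_zero
    have h3 : algebraMap A L t = algebraMap A L r₀ * (algebraMap A L s₀)⁻¹ := by
      rw [eq_mul_inv_iff_mul_eq₀ hs0, ← map_mul, hts]
    apply ht
    rw [h3]
    exact h1.mul h2.inv
  obtain ⟨r, hr⟩ := hex
  have hfinR : Module.Finite R (integralClosure R L) :=
    Groth.Agent.Lib.Helper18.NormCurve.finite_integralClosure htr r hr
  -- `A` is a localization of `R`
  let M : Submonoid R := (IsUnit.submonoid A).comap (algebraMap R A)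
  haveI : IsLocalization M A := by
    rw [isLocalization_iff]
    refine ⟨fun y => y.2, fun a => ?_, fun {x y} hxy => ⟨1, ?_⟩⟩
    · obtain ⟨r', s', hr', hs', hs'u, h⟩ := hT a
      exact ⟨(⟨r', hr'⟩, ⟨⟨s', hs'⟩, hs'u⟩), h⟩
    · have : x = y := Subtype.ext hxy
      rw [this]
  obtain ⟨G, hG⟩ := hfinR.fg_top
  have hGint : ∀ g : integralClosure R L, IsIntegral A (g : L) := fun g => g.2.tower_top
  let G' : Finset (integralClosure A L) := G.image (fun g : integralClosure R L => ⟨(g : L), hGint g⟩)
  refine ⟨⟨G', ?_⟩⟩
  rw [eq_top_iff]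
  rintro ⟨z, hz⟩ -
  obtain ⟨m, hm⟩ := IsIntegral.exists_multiple_integral_of_isLocalization M z hz
  have hmem : (⟨m • z, hm⟩ : integralClosure R L) ∈ Submodule.span R (G : Set (integralClosure R L)) := by
    rw [hG]
    trivial
  -- transport the span relation
  have key : ∀ w : integralClosure R L, w ∈ Submodule.span R (G : Set (integralClosure R L)) →
      (⟨(w : L), hGint w⟩ : integralClosure A L) ∈ Submodule.span A (G' : Set (integralClosure A L)) := by
    intro w hw
    induction hw using Submodule.span_induction with
    | mem x hx =>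
      apply Submodule.subset_span
      exact Finset.mem_coe.mpr (Finset.mem_image.mpr ⟨x, hx, rfl⟩)
    | zero =>
      have : (⟨((0 : integralClosure R L) : L), hGint 0⟩ : integralClosure A L) = 0 := rfl
      rw [this]
      exact Submodule.zero_mem _
    | add x y _ _ hx hy =>
      have : (⟨((x + y : integralClosure R L) : L), hGint (x + y)⟩ : integralClosure A L) =
          ⟨(x : L), hGint x⟩ + ⟨(y : L), hGint y⟩ := rfl
      rw [this]
      exact Submodule.add_mem _ hx hy
    | smul c x _ hx =>
      have : (⟨((c • x : integralClosure R L) : L), hGint (c • x)⟩ : integralClosure A L) =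
          (algebraMap R A c) • (⟨(x : L), hGint x⟩ : integralClosure A L) := by
        apply Subtype.ext
        show ((c • x : integralClosure R L) : L) = algebraMap R A c • (x : L)
        rw [Algebra.smul_def, Algebra.smul_def]
        rfl
      rw [this]
      exact Submodule.smul_mem _ _ hx
  have h1 := key _ hmem
  obtain ⟨u, hu⟩ := m.2
  have h2 : (⟨z, hz⟩ : integralClosure A L) =
      ((u⁻¹ : Aˣ) : A) • (⟨m • z, hGint ⟨m • z, hm⟩⟩ : integralClosure A L) := by
    apply Subtype.ext
    show z = ((u⁻¹ : Aˣ) : A) • (m • z)
    rw [Submonoid.smul_def, Algebra.smul_def, Algebra.smul_def, ← mul_assoc]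
    have : algebraMap A L ((u⁻¹ : Aˣ) : A) * algebraMap R L (m : R) = 1 := by
      show algebraMap A L ((u⁻¹ : Aˣ) : A) * algebraMap A L ((m : R) : A) = 1
      rw [← map_mul]
      have hu' : (u : A) = ((m : R) : A) := hu
      rw [← hu', Units.inv_mul, map_one]
    rw [this, one_mul]
  rw [h2]
  exact Submodule.smul_mem _ _ h1

end Groth.Agent.Lib.Helper18.Push
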