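import Mathlib
import Groth.Prelude.Def_Cyc
import Groth.Agent.Lib.Helper18.Push.DedekindPlace
import Groth.Agent.Lib.Helper18.Push.IntClosLoc
import Groth.Agent.Lib.Helper18.Push.NormOrdRS
import Groth.Agent.Lib.Helper18.NormCurve.Field
import Groth.Agent.Lib.Helper24.FFExt.Unram

/-!
# The local formula: `[κ(A):K]·ord_A(f) = [k':K]·Σ_{P dominating A} deg(P)·ord_P(f)`
-/

set_option autoImplicit false
universe u
open FunFld IsLocalRing Module IsDedekindDomain

namespace Groth.Agent.Lib.Helper18.Push

open Groth.Agent.Lib.Helper18.FF Groth.Agent.Lib.Helper18.NormOrd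

/-- The places of `L/k'` that dominate the local ring `A`. -/
def Dom (k' : Type u) {L : Type u} [Field k'] [Field L] [Algebra k' L] (A : Type u) [CommRing A]
    [IsLocalRing A] [Algebra A L] : Set (Place k' L) :=
  {P | (∀ a : A, P.1 (algebraMap A L a) ≤ 1) ∧ ∀ a ∈ maximalIdeal A, P.1 (algebraMap A L a) < 1}

section
variable {K L : Type u} [Field K] [Field L] [Algebra K L]

theorem exists_transcendental_of_isFractionRing (htr : Algebra.trdeg K L = 1)
    (A : Type u) [CommRing A] [IsDomain A] [Algebra K A] [Algebra A L] [IsScalarTower K A L]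
    [IsFractionRing A L] : ∃ t : A, Transcendental K (algebraMap A L t) := by
  obtain ⟨y, hy⟩ := Groth.Agent.Lib.Helper18.NormCurve.exists_transcendental htr
  obtain ⟨a, b, hb, rfl⟩ := IsFractionRing.div_surjective (A := A) y
  by_contra hcon
  push Not at hcon
  apply hy
  have ha : IsAlgebraic K (algebraMap A L a) := by
    have := hcon a
    rwa [Transcendental, not_not] at this
  have hb' : IsAlgebraic K (algebraMap A L b) := by
    have := hcon b
    rwa [Transcendental, not_not] at this
  rw [div_eq_mul_inv]
  exact ha.mul hb'.inv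

end

section aux
variable {K k' L : Type u} [Field K] [Field k'] [Field L] [Algebra K k'] [Algebra k' L]
  [Algebra K L] [IsScalarTower K k' L]
variable (A : Type u) [CommRing A] [IsDomain A] [IsLocalRing A] [IsNoetherianRing A]
  [Algebra K A] [Algebra A L] [IsScalarTower K A L] [IsFractionRing A L]
variable (B : Type u) [CommRing B] [IsDedekindDomain B] [Algebra A B] [Module.Finite A B]
  [Algebra B L] [IsFractionRing B L] [IsScalarTower A B L] [Algebra k' B] [IsScalarTower k' B L]

theorem comap_asIdeal_eq (v : HeightOneSpectrum B) :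
    v.asIdeal.comap (algebraMap A B) = maximalIdeal A := by
  haveI : Algebra.IsIntegral A B := Algebra.IsIntegral.of_finite A B
  haveI := v.isMaximal
  exact IsLocalRing.eq_maximalIdeal
    (Ideal.isMaximal_comap_of_isIntegral_of_isMaximal (R := A) v.asIdeal)

theorem placeOf_mem_Dom (v : HeightOneSpectrum B) : placeOf k' L B v ∈ Dom k' A := by
  refine ⟨fun a => ?_, fun a ha => ?_⟩
  · rw [IsScalarTower.algebraMap_apply A B L]
    exact v.valuation_le_one _
  · rw [IsScalarTower.algebraMap_apply A B L]
    refine (v.valuation_lt_one_iff_mem (K := L) _).mpr ?_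
    rw [← comap_asIdeal_eq A B v] at ha
    exact ha

theorem exists_placeOf_of_mem_Dom (hA : ¬ IsField A) (P : Place k' L) (hP : P ∈ Dom k' A) :
    ∃ v, placeOf k' L B v = P := by
  haveI : Algebra.IsIntegral A B := Algebra.IsIntegral.of_finite A B
  apply exists_placeOf_eq
  · intro b
    have hb : IsIntegral A (algebraMap B L b) := (Algebra.IsIntegral.isIntegral b).map
      (IsScalarTower.toAlgHom A B L)
    exact Groth.Agent.Lib.Helper24.FFExt.val_le_one_of_isIntegral_ring P.1 hP.1 hb
  · obtain ⟨a, ha0, ha⟩ : ∃ a : A, a ≠ 0 ∧ a ∈ maximalIdeal A := by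
      by_contra hcon
      push Not at hcon
      apply hA
      rw [IsLocalRing.isField_iff_maximalIdeal_eq]
      rw [eq_bot_iff]
      intro a ha
      by_contra h0
      exact hcon a h0 ha
    refine ⟨algebraMap A B a, ?_, ?_⟩
    · intro h0
      apply ha0
      have h1 : algebraMap A L a = 0 := by
        rw [IsScalarTower.algebraMap_apply A B L, h0, map_zero]
      exact (IsFractionRing.injective A L) (by rw [h1, map_zero])
    · rw [← IsScalarTower.algebraMap_apply A B L]
      exact hP.2 a ha

theorem Dom_eq_range (hA : ¬ IsField A) : Dom k' A = Set.range (placeOf k' L B) := by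
  ext P
  constructor
  · intro hP
    exact exists_placeOf_of_mem_Dom A B hA P hP
  · rintro ⟨v, rfl⟩
    exact placeOf_mem_Dom A B v

include A in
theorem finite_heightOneSpectrum : Finite (HeightOneSpectrum B) := by
  haveI : Algebra.IsIntegral A B := Algebra.IsIntegral.of_finite A B
  have hfin : ((maximalIdeal A).primesOver B).Finite :=
    Algebra.QuasiFinite.finite_primesOver (maximalIdeal A)
  haveI : Finite ((maximalIdeal A).primesOver B) := hfin
  let g : HeightOneSpectrum B → (maximalIdeal A).primesOver B := fun v =>
    ⟨v.asIdeal, v.isPrime, ⟨(comap_asIdeal_eq A B v).symm⟩⟩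
  refine Finite.of_injective g ?_
  intro v w h
  apply HeightOneSpectrum.ext
  exact congrArg (fun x : (maximalIdeal A).primesOver B => (x : Ideal B)) h

theorem isLocalHom_algebraMap_placeOf (v : HeightOneSpectrum B) :
    IsLocalHom ((algebraMap B (placeOf k' L B v).O).comp (algebraMap A B)) := by
  constructor
  intro a ha
  by_contra hu
  have hm : a ∈ maximalIdeal A := (IsLocalRing.mem_maximalIdeal a).2 hu
  have hlt := (placeOf_mem_Dom (k' := k') (L := L) A B v).2 a hm
  have h1 : (placeOf k' L B v).1 (algebraMap A L a) = 1 := by
    have h2 : ((algebraMap B (placeOf k' L B v).O) (algebraMap A B a) : L) = algebraMap A L a := by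
      rw [IsScalarTower.algebraMap_apply A B L]
      rfl
    rw [← h2]
    exact (Valuation.integer.integers (placeOf k' L B v).1).isUnit_iff_valuation_eq_one.mp ha
  rw [h1] at hlt
  exact lt_irrefl _ hlt

include B in
theorem local_formula_aux (hA : ringKrullDim A = 1) (f : L) (hf : f ≠ 0) :
    (finrank K (ResidueField A) : ℤ) * CycAlg.ordFrac A L f =
      (finrank K k' : ℤ) * ∑ᶠ P ∈ Dom k' A, (P.deg : ℤ) * P.ord f := by
  classical
  have hAf : ¬ IsField A := by
    intro h
    have := ringKrullDim_eq_zero_of_isField h
    rw [hA] at this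
    exact one_ne_zero this
  have hinj : Function.Injective (algebraMap A B) := by
    intro a b hab
    apply IsFractionRing.injective A L
    rw [IsScalarTower.algebraMap_apply A B L, IsScalarTower.algebraMap_apply A B L, hab]
  haveI : Finite (HeightOneSpectrum B) := finite_heightOneSpectrum A B
  letI : Fintype (HeightOneSpectrum B) := Fintype.ofFinite _
  haveI hmax : ∀ v : HeightOneSpectrum B, v.asIdeal.IsMaximal := fun v => v.isMaximal
  letI algAC : ∀ v : HeightOneSpectrum B, Algebra A (placeOf k' L B v).O := fun v =>
    ((algebraMap B (placeOf k' L B v).O).comp (algebraMap A B)).toAlgebra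
  haveI tower : ∀ v : HeightOneSpectrum B, IsScalarTower A B (placeOf k' L B v).O := fun v =>
    IsScalarTower.of_algebraMap_eq fun _ => rfl
  haveI lochom : ∀ v : HeightOneSpectrum B, IsLocalHom (algebraMap A (placeOf k' L B v).O) :=
    fun v => isLocalHom_algebraMap_placeOf A B v
  have hbij : ∀ M : Ideal B, M.IsMaximal → ∃! v : HeightOneSpectrum B, v.asIdeal = M := by
    intro M hM
    have hMne : M ≠ ⊥ := by
      intro h
      subst h
      apply hAf
      haveI : Algebra.IsIntegral A B := Algebra.IsIntegral.of_finite A B
      have hB : IsField B := by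
        rw [Ring.isField_iff_maximal_bot]
        exact hM
      exact isField_of_isIntegral_of_isField hinj hB
    refine ⟨⟨M, hM.isPrime, hMne⟩, rfl, ?_⟩
    intro w hw
    exact HeightOneSpectrum.ext hw
  let d : HeightOneSpectrum B → ℕ := fun v =>
    finrank (ResidueField A) (ResidueField (placeOf k' L B v).O)
  have hd : ∀ v : HeightOneSpectrum B, Module.length A (B ⧸ v.asIdeal) = d v := fun v =>
    length_quot_eq_finrank A B (placeOf k' L B v).O v.asIdeal
  have key := ordFrac_norm_eq_sum A hA B hinj L L (fun v : HeightOneSpectrum B => v.asIdeal) hbij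
    (fun v => (placeOf k' L B v).O) d hd f hf
  rw [Algebra.norm_self, MonoidHom.id_apply] at key
  rw [key, Dom_eq_range A B hAf, finsum_mem_range (placeOf_injective k' L B),
    finsum_eq_sum_of_fintype, Finset.mul_sum, Finset.mul_sum]
  refine Finset.sum_congr rfl fun v _ => ?_
  rw [ordFrac_placeOf]
  -- the degree identity
  have hdeg : finrank K (ResidueField A) * d v = finrank K k' * (placeOf k' L B v).deg := by
    letI algKC : Algebra K (placeOf k' L B v).O :=
      ((algebraMap A (placeOf k' L B v).O).comp (algebraMap K A)).toAlgebra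
    haveI t0 : IsScalarTower K A (placeOf k' L B v).O :=
      IsScalarTower.of_algebraMap_eq fun _ => rfl
    haveI t2 : IsScalarTower K k' (placeOf k' L B v).O := by
      refine IsScalarTower.of_algebraMap_eq fun c => ?_
      apply Subtype.ext
      show algebraMap B L (algebraMap A B (algebraMap K A c)) = algebraMap k' L (algebraMap K k' c)
      rw [← IsScalarTower.algebraMap_apply A B L, ← IsScalarTower.algebraMap_apply K A L,
        ← IsScalarTower.algebraMap_apply K k' L]
    rw [Module.finrank_mul_finrank K (ResidueField A) (ResidueField (placeOf k' L B v).O)]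
    exact (Module.finrank_mul_finrank K k' (ResidueField (placeOf k' L B v).O)).symm
  have hdeg' : ((finrank K (ResidueField A) : ℤ)) * (d v : ℤ) =
      (finrank K k' : ℤ) * ((placeOf k' L B v).deg : ℤ) := by exact_mod_cast hdeg
  rw [← mul_assoc, hdeg', mul_assoc]

end aux

section main
variable {K L : Type u} [Field K] [Field L] [Algebra K L]

/-- The local formula for a one-dimensional local domain essentially of finite type over `K`
with fraction field `L` of transcendence degree one over `K`. -/
theorem local_formula (htr : Algebra.trdeg K L = 1)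
    (A : Type u) [CommRing A] [IsDomain A] [IsLocalRing A] [IsNoetherianRing A]
    (hA : ringKrullDim A = 1) [Algebra K A] [Algebra A L] [IsScalarTower K A L]
    [IsFractionRing A L] [Algebra.EssFiniteType K A] (f : L) (hf : f ≠ 0) :
    (finrank K (ResidueField A) : ℤ) * CycAlg.ordFrac A L f =
      (finrank K (algebraicClosure K L) : ℤ) *
        ∑ᶠ P ∈ Dom (algebraicClosure K L) A, (P.deg : ℤ) * P.ord f := by
  classical
  haveI : Algebra.EssFiniteType A L := Algebra.EssFiniteType.of_isLocalization L (nonZeroDivisors A)
  haveI : Algebra.EssFiniteType K L := Algebra.EssFiniteType.comp K A L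
  obtain ⟨t, ht⟩ := exists_transcendental_of_isFractionRing htr A
  obtain ⟨σ, hσ⟩ := (Algebra.essFiniteType_iff (R := K) (S := A)).mp inferInstance
  have hT : ∀ a : A, ∃ r s : A, r ∈ Algebra.adjoin K (σ : Set A) ∧
      s ∈ Algebra.adjoin K (σ : Set A) ∧ IsUnit s ∧ a * s = r := by
    intro a
    obtain ⟨s, hs, hsu, has⟩ := hσ a
    exact ⟨a * s, s, has, hs, hsu, rfl⟩
  have hinjL : Function.Injective (algebraMap A L) := IsFractionRing.injective A L
  haveI hfin : Module.Finite A (integralClosure A L) :=
    finite_integralClosure_of_essFiniteType htr A hinjL σ hT t ht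
  haveI : IsFractionRing (integralClosure A L) L :=
    integralClosure.isFractionRing_of_finite_extension L L
  haveI : IsNoetherianRing (integralClosure A L) := IsNoetherianRing.of_finite A _
  haveI : Ring.KrullDimLE 1 A := (Order.krullDimLE_iff 1 _).2 hA.le
  haveI : Ring.DimensionLEOne A := ⟨fun hp hprime => hprime.isMaximal_of_ne_bot hp⟩
  haveI hIC : IsIntegrallyClosed (integralClosure A L) :=
    integralClosure.isIntegrallyClosedOfFiniteExtension L
  haveI : IsDedekindDomain (integralClosure A L) :=
    (isDedekindDomain_iff (integralClosure A L) L).mpr ⟨inferInstance, inferInstance, inferInstance,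
      fun {x} hx => (isIntegrallyClosed_iff L).mp hIC hx⟩
  have hmem : ∀ c : algebraicClosure K L, algebraMap (algebraicClosure K L) L c ∈
      integralClosure A L := by
    intro c
    have h1 : IsAlgebraic K (c : L) := (mem_algebraicClosure_iff).mp c.2
    have h2 : IsIntegral K (c : L) := h1.isIntegral
    exact h2.tower_top
  letI : Algebra (algebraicClosure K L) (integralClosure A L) :=
    ((algebraMap (algebraicClosure K L) L).codRestrict (integralClosure A L) hmem).toAlgebra
  haveI : IsScalarTower (algebraicClosure K L) (integralClosure A L) L :=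
    IsScalarTower.of_algebraMap_eq fun _ => rfl
  exact local_formula_aux A (integralClosure A L) hA f hf

end main

end Groth.Agent.Lib.Helper18.Push
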