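import Mathlib
import Groth.Prelude.Def_Cyc
import Groth.Agent.Lib.Helper18.Push.NormDiv
import Groth.Agent.Lib.Helper18.Cyc.LocQuotFrac

/-!
# Centres of valuation rings of the function field on a proper relative curve
-/

set_option autoImplicit false
universe u
open AlgebraicGeometry CategoryTheory IsLocalRing

namespace Groth.Agent.Lib.Helper18.Push

variable {X Y : Scheme.{u}}

theorem specMap_germ (x ξ : X) (h : ξ ⤳ x) (U : X.Opens) (hx : x ∈ U) (s : Γ(X, U)) :
    Cyc.specMap x ξ h (X.presheaf.germ U x hx s) =
      X.residue ξ (X.presheaf.germ U ξ (h.mem_open U.2 hx) s) := by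
  unfold Cyc.specMap
  show X.residue ξ (X.presheaf.stalkSpecializes h (X.presheaf.germ U x hx s)) = _
  rw [TopCat.Presheaf.germ_stalkSpecializes_apply]

theorem specMap_stalkMapOfEq (p : X ⟶ Y) (x ξ : X) (h : ξ ⤳ x) (hx : p x = p ξ)
    (a : Y.presheaf.stalk (p ξ)) :
    Cyc.specMap x ξ h (stalkMapOfEq p x (p ξ) hx a) =
      (p.residueFieldMap ξ).hom (Y.residue (p ξ) a) := by
  obtain ⟨V, hV, r, rfl⟩ := Y.presheaf.germ_exist (x := p ξ) a
  rw [stalkMapOfEq_germ, specMap_germ]
  have h1 : (p.residueFieldMap ξ).hom (Y.residue (p ξ) (Y.presheaf.germ V (p ξ) hV r)) =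
      X.residue ξ ((p.stalkMap ξ).hom (Y.presheaf.germ V (p ξ) hV r)) := by
    have := Scheme.residue_residueFieldMap p ξ
    exact congrArg (fun g => g.hom (Y.presheaf.germ V (p ξ) hV r)) this
  rw [h1]
  congr 1
  exact (Scheme.Hom.germ_stalkMap_apply p V ξ hV r).symm

theorem fromSpecStalk_comp_of_eq (p : X ⟶ Y) (x : X) (y : Y) (h : p x = y) :
    X.fromSpecStalk x ≫ p =
      Spec.map (CommRingCat.ofHom (stalkMapOfEq p x y h)) ≫ Y.fromSpecStalk y := by
  subst h
  have : CommRingCat.ofHom (stalkMapOfEq p x (p x) rfl) = p.stalkMap x := by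
    ext a
    exact stalkMapOfEq_rfl p x a
  rw [this, Scheme.SpecMap_stalkMap_fromSpecStalk]

section center
variable [IsIntegral X] (p : X ⟶ Y)

/-- The map `κ(p η) → O` for a valuation ring `O` of `κ(η)` containing the image of `κ(p η)`. -/
noncomputable abbrev baseToO (O : ValuationSubring (X.residueField (genericPoint X)))
    (hK : ∀ c : Y.residueField (p (genericPoint X)),
      (p.residueFieldMap (genericPoint X)).hom c ∈ O) :
    Y.residueField (p (genericPoint X)) ⟶ CommRingCat.of O :=
  CommRingCat.ofHom ((p.residueFieldMap (genericPoint X)).hom.codRestrict O.toSubring hK)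

/-- The valuative square attached to a valuation ring of `κ(η)` containing `κ(p η)`. -/
noncomputable abbrev valSq (O : ValuationSubring (X.residueField (genericPoint X)))
    (hK : ∀ c : Y.residueField (p (genericPoint X)),
      (p.residueFieldMap (genericPoint X)).hom c ∈ O) : ValuativeCommSq p :=
  { R := O
    K := X.residueField (genericPoint X)
    i₁ := X.fromSpecResidueField (genericPoint X)
    i₂ := Spec.map (baseToO p O hK) ≫ Y.fromSpecResidueField (p (genericPoint X))
    commSq := ⟨by
      rw [← Scheme.Hom.SpecMap_residueFieldMap_fromSpecResidueField, ← Category.assoc,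
        ← Spec.map_comp]
      rfl⟩ }

/-- Existence of the centre. -/
theorem exists_center [UniversallyClosed p]
    (O : ValuationSubring (X.residueField (genericPoint X)))
    (hK : ∀ c : Y.residueField (p (genericPoint X)),
      (p.residueFieldMap (genericPoint X)).hom c ∈ O) :
    ∃ (x : X) (φ : X.presheaf.stalk x →+* O), p x = p (genericPoint X) ∧ IsLocalHom φ ∧
      ∀ a, ((φ a : O) : X.residueField (genericPoint X)) =
        Cyc.specMap x (genericPoint X) (genericPoint_specializes x) a := by
  have hval : ValuativeCriterion.Existence p := by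
    have h : (ValuativeCriterion.Existence ⊓ @QuasiCompact) p := by
      rw [← UniversallyClosed.eq_valuativeCriterion]; infer_instance
    exact h.1
  obtain ⟨l', hl₁, hl₂⟩ := (hval (valSq p O hK)).exists_lift
  obtain ⟨l, rfl⟩ : ∃ l : Spec (CommRingCat.of O) ⟶ X, l = l' := ⟨l', rfl⟩
  change Spec.map (CommRingCat.ofHom (algebraMap O (X.residueField (genericPoint X)))) ≫ l =
    X.fromSpecResidueField (genericPoint X) at hl₁
  change l ≫ p = Spec.map (baseToO p O hK) ≫ Y.fromSpecResidueField (p (genericPoint X)) at hl₂
  have hspec : genericPoint X ⤳ l (closedPoint O) := genericPoint_specializes _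
  refine ⟨l (closedPoint O), (Scheme.stalkClosedPointTo l).hom, ?_, inferInstance, ?_⟩
  · rw [← Scheme.Hom.comp_apply, hl₂, Scheme.Hom.comp_apply, Scheme.fromSpecResidueField_apply]
  · have h1 : (Spec.map (CommRingCat.ofHom (algebraMap O (X.residueField (genericPoint X)))) ≫
        Spec.map (Scheme.stalkClosedPointTo l)) ≫ X.fromSpecStalk _ =
        Spec.map (X.presheaf.stalkSpecializes hspec ≫ X.residue (genericPoint X)) ≫
          X.fromSpecStalk _ := by
      rw [Category.assoc, Scheme.Spec_stalkClosedPointTo_fromSpecStalk, hl₁, Spec.map_comp,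
        Category.assoc, Scheme.SpecMap_stalkSpecializes_fromSpecStalk]
      rfl
    have h1' := (cancel_mono (X.fromSpecStalk (l (closedPoint O)))).mp h1
    rw [← Spec.map_comp] at h1'
    have h2 := Spec.map_injective h1'
    intro a
    have h3 := congrArg (fun g => g.hom a) h2
    exact h3

/-- The lift `Spec O ⟶ X` attached to a point dominated by `O`. -/
theorem lift_of_center (O : ValuationSubring (X.residueField (genericPoint X)))
    (hK : ∀ c : Y.residueField (p (genericPoint X)),
      (p.residueFieldMap (genericPoint X)).hom c ∈ O)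
    (x : X) (hx : p x = p (genericPoint X)) (φ : X.presheaf.stalk x →+* O) [IsLocalHom φ]
    (hφ : ∀ a, ((φ a : O) : X.residueField (genericPoint X)) =
        Cyc.specMap x (genericPoint X) (genericPoint_specializes x) a) :
    ∃ l : Spec (CommRingCat.of O) ⟶ X,
      Spec.map (CommRingCat.ofHom (algebraMap O (X.residueField (genericPoint X)))) ≫ l =
        X.fromSpecResidueField (genericPoint X) ∧
      l ≫ p = Spec.map (baseToO p O hK) ≫ Y.fromSpecResidueField (p (genericPoint X)) ∧
      l (closedPoint O) = x := by
  have hspec : genericPoint X ⤳ x := genericPoint_specializes x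
  refine ⟨Spec.map (CommRingCat.ofHom φ) ≫ X.fromSpecStalk x, ?_, ?_, ?_⟩
  · rw [← Category.assoc, ← Spec.map_comp]
    have h1 : CommRingCat.ofHom φ ≫
        CommRingCat.ofHom (algebraMap O (X.residueField (genericPoint X))) =
        X.presheaf.stalkSpecializes hspec ≫ X.residue (genericPoint X) := by
      ext a
      exact hφ a
    rw [h1, Spec.map_comp, Category.assoc, Scheme.SpecMap_stalkSpecializes_fromSpecStalk]
    rfl
  · rw [Category.assoc, fromSpecStalk_comp_of_eq p x _ hx, ← Category.assoc, ← Spec.map_comp]
    have h2 : Y.fromSpecResidueField (p (genericPoint X)) =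
        Spec.map (Y.residue (p (genericPoint X))) ≫ Y.fromSpecStalk (p (genericPoint X)) := rfl
    rw [h2, ← Category.assoc, ← Spec.map_comp]
    congr 2
    ext a
    show ((φ (stalkMapOfEq p x _ hx a) : O) : X.residueField (genericPoint X)) =
      (p.residueFieldMap (genericPoint X)).hom (Y.residue _ a)
    rw [hφ, specMap_stalkMapOfEq]
  · rw [Scheme.Hom.comp_apply]
    have : Spec.map (CommRingCat.ofHom φ) (closedPoint O) = closedPoint (X.presheaf.stalk x) :=
      IsLocalRing.comap_closedPoint φ
    rw [this, Scheme.fromSpecStalk_closedPoint]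

/-- Uniqueness of the centre. -/
theorem center_unique [IsSeparated p] (O : ValuationSubring (X.residueField (genericPoint X)))
    (hK : ∀ c : Y.residueField (p (genericPoint X)),
      (p.residueFieldMap (genericPoint X)).hom c ∈ O)
    {x x' : X} (hx : p x = p (genericPoint X)) (hx' : p x' = p (genericPoint X))
    (φ : X.presheaf.stalk x →+* O) [IsLocalHom φ]
    (hφ : ∀ a, ((φ a : O) : X.residueField (genericPoint X)) =
        Cyc.specMap x (genericPoint X) (genericPoint_specializes x) a)
    (φ' : X.presheaf.stalk x' →+* O) [IsLocalHom φ']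
    (hφ' : ∀ a, ((φ' a : O) : X.residueField (genericPoint X)) =
        Cyc.specMap x' (genericPoint X) (genericPoint_specializes x') a) : x = x' := by
  obtain ⟨l₁, h11, h12, h13⟩ := lift_of_center p O hK x hx φ hφ
  obtain ⟨l₂, h21, h22, h23⟩ := lift_of_center p O hK x' hx' φ' hφ'
  have huniq : Subsingleton (valSq p O hK).commSq.LiftStruct :=
    IsSeparated.valuativeCriterion p (valSq p O hK)
  let L₁ : (valSq p O hK).commSq.LiftStruct := ⟨l₁, h11, h12⟩
  let L₂ : (valSq p O hK).commSq.LiftStruct := ⟨l₂, h21, h22⟩
  have hL : L₁ = L₂ := Subsingleton.elim _ _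
  have hl : l₁ = l₂ := congrArg CommSq.LiftStruct.l hL
  rw [← h13, ← h23, hl]

end center

end Groth.Agent.Lib.Helper18.Push
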