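import Mathlib
import Groth.Prelude.Def_Cyc
import Groth.Agent.Lib.Helper18.Push.RelCenter
import Groth.Agent.Lib.Helper18.Cyc.PullDiv

/-!
# The local rings of the generic fibre as algebras over the residue field of the base point
-/

set_option autoImplicit false
universe u
open AlgebraicGeometry CategoryTheory IsLocalRing

namespace Groth.Agent.Lib.Helper18.Push

open Groth.Agent.Lib.Helper18.CycDiv

variable {X Y : Scheme.{u}} [IsIntegral X] (p : X ⟶ Y)

/-- `κ(p η) → O_{X,x}` for a point `x` over `p η`, when `O_{Y,p η}` is a field. -/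
noncomputable def kToStalk (x : X) (hx : p x = p (genericPoint X))
    (hfld : maximalIdeal (Y.presheaf.stalk (p (genericPoint X))) = ⊥) :
    Y.residueField (p (genericPoint X)) →+* X.presheaf.stalk x :=
  Ideal.Quotient.lift (maximalIdeal (Y.presheaf.stalk (p (genericPoint X))))
    (stalkMapOfEq p x _ hx) (fun a ha => by
      rw [hfld, Ideal.mem_bot] at ha
      rw [ha, map_zero])

theorem kToStalk_residue (x : X) (hx : p x = p (genericPoint X))
    (hfld : maximalIdeal (Y.presheaf.stalk (p (genericPoint X))) = ⊥)
    (a : Y.presheaf.stalk (p (genericPoint X))) :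
    kToStalk p x hx hfld (Y.residue _ a) = stalkMapOfEq p x _ hx a :=
  Ideal.Quotient.lift_mk _ _ _

theorem specMap_kToStalk (x : X) (hx : p x = p (genericPoint X))
    (hfld : maximalIdeal (Y.presheaf.stalk (p (genericPoint X))) = ⊥)
    (c : Y.residueField (p (genericPoint X))) :
    Cyc.specMap x (genericPoint X) (genericPoint_specializes x) (kToStalk p x hx hfld c) =
      (p.residueFieldMap (genericPoint X)).hom c := by
  obtain ⟨a, rfl⟩ := IsLocalRing.residue_surjective c
  have h1 := kToStalk_residue p x hx hfld a
  have h2 := specMap_stalkMapOfEq p x (genericPoint X) (genericPoint_specializes x) hx a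
  rw [← h1] at h2
  exact h2

theorem essFiniteType_stalkMapOfEq {X Y : Scheme.{u}} (p : X ⟶ Y) [LocallyOfFiniteType p] (x : X)
    (y : Y) (h : p x = y) : (stalkMapOfEq p x y h).EssFiniteType := by
  subst h
  have : stalkMapOfEq p x (p x) rfl = (p.stalkMap x).hom := RingHom.ext (stalkMapOfEq_rfl p x)
  rw [this]
  exact LocallyOfFiniteType.stalkMap p x

theorem essFiniteType_kToStalk [LocallyOfFiniteType p] (x : X) (hx : p x = p (genericPoint X))
    (hfld : maximalIdeal (Y.presheaf.stalk (p (genericPoint X))) = ⊥) :
    (kToStalk p x hx hfld).EssFiniteType := by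
  letI a1 : Algebra (Y.residueField (p (genericPoint X))) (X.presheaf.stalk x) :=
    (kToStalk p x hx hfld).toAlgebra
  letI a2 : Algebra (Y.presheaf.stalk (p (genericPoint X))) (X.presheaf.stalk x) :=
    (stalkMapOfEq p x _ hx).toAlgebra
  letI a3 : Algebra (Y.presheaf.stalk (p (genericPoint X)))
      (Y.residueField (p (genericPoint X))) := (Y.residue (p (genericPoint X))).hom.toAlgebra
  haveI : IsScalarTower (Y.presheaf.stalk (p (genericPoint X)))
      (Y.residueField (p (genericPoint X))) (X.presheaf.stalk x) :=
    IsScalarTower.of_algebraMap_eq fun a => (kToStalk_residue p x hx hfld a).symm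
  haveI : Algebra.EssFiniteType (Y.presheaf.stalk (p (genericPoint X))) (X.presheaf.stalk x) :=
    essFiniteType_stalkMapOfEq p x _ hx
  exact Algebra.EssFiniteType.of_comp (Y.presheaf.stalk (p (genericPoint X)))
    (Y.residueField (p (genericPoint X))) (X.presheaf.stalk x)

theorem isFractionRing_stalk_generic (x : X) :
    @IsFractionRing (X.presheaf.stalk x) _ (X.residueField (genericPoint X)) _
      (Cyc.specMap x (genericPoint X) (genericPoint_specializes x)).toAlgebra := by
  letI := (Cyc.specMap x (genericPoint X) (genericPoint_specializes x)).toAlgebra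
  have hk := ker_specMap_eq_bot (genericPoint_specializes x) (rfl : genericPoint X = genericPoint X)
  haveI : FaithfulSMul (X.presheaf.stalk x) (X.residueField (genericPoint X)) :=
    (faithfulSMul_iff_algebraMap_injective _ _).2 (by
      show Function.Injective (Cyc.specMap x (genericPoint X) (genericPoint_specializes x))
      rw [RingHom.injective_iff_ker_eq_bot, hk])
  apply IsFractionRing.of_field
  intro z
  obtain ⟨a, b, -, hz⟩ := exists_specMap_div (genericPoint_specializes x) z
  exact ⟨a, b, hz⟩

/-- The residue degree at a point over `p η` as a dimension over `κ(p η)`. -/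
theorem residueDegree_eq_finrank_stalk (x : X) (hx : p x = p (genericPoint X))
    (hfld : maximalIdeal (Y.presheaf.stalk (p (genericPoint X))) = ⊥) :
    letI := (kToStalk p x hx hfld).toAlgebra
    p.residueDegree x = Module.finrank (Y.residueField (p (genericPoint X)))
      (ResidueField (X.presheaf.stalk x)) := by
  letI a1 : Algebra (Y.residueField (p (genericPoint X))) (X.presheaf.stalk x) :=
    (kToStalk p x hx hfld).toAlgebra
  rw [residueDegree_eq_finrank_of_eq p x _ hx]
  refine @Algebra.finrank_eq_of_equiv_equiv _ _ _ _
    (IsLocalRing.ResidueField.map (stalkMapOfEq p x _ hx)).toAlgebra _ _ _ _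
    (inferInstance : Algebra (Y.residueField (p (genericPoint X)))
      (ResidueField (X.presheaf.stalk x)))
    (RingEquiv.refl _) (RingEquiv.refl _) ?_
  ext t
  obtain ⟨t, rfl⟩ := IsLocalRing.residue_surjective t
  show IsLocalRing.residue _ (kToStalk p x hx hfld (Y.residue _ t)) =
    IsLocalRing.residue _ (stalkMapOfEq p x _ hx t)
  rw [kToStalk_residue]

end Groth.Agent.Lib.Helper18.Push
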