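import Mathlib
import Groth.Prelude.Def_Cyc
import Groth.Agent.Lib.Helper18.Push.StalkAlg
import Groth.Agent.Lib.Helper18.Push.LocalFormula
import Groth.Agent.Lib.Helper18.FF.Degree3
import Groth.Agent.Lib.Helper18.FF.Finite
import Groth.Agent.Lib.Helper18.NormCurve.Field

/-!
# The degree of a principal divisor on the generic fibre of a proper relative curve is zero
-/

set_option autoImplicit false
universe u
open AlgebraicGeometry CategoryTheory IsLocalRing FunFld Module

namespace Groth.Agent.Lib.Helper18.Push

open Groth.Agent.Lib.Helper18.CycDiv Groth.Agent.Lib.Helper18.FF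

theorem finsum_fiberwise {α β M : Type*} [AddCommMonoid M] (c : α → β) (g : α → M)
    (hg : (Function.support g).Finite) :
    ∑ᶠ b, ∑ᶠ a ∈ c ⁻¹' {b}, g a = ∑ᶠ a, g a := by
  classical
  have h1 : ∀ b, ∑ᶠ a ∈ c ⁻¹' {b}, g a = ∑ a ∈ hg.toFinset.filter (fun a => c a = b), g a := by
    intro b
    apply finsum_mem_eq_sum_of_inter_support_eq
    ext a
    simp only [Set.mem_inter_iff, Set.mem_preimage, Set.mem_singleton_iff, Function.mem_support,
      Finset.coe_filter, Set.Finite.mem_toFinset, Set.mem_setOf_eq]
    tauto
  simp_rw [h1]
  have hsup : Function.support (fun b => ∑ a ∈ hg.toFinset.filter (fun a => c a = b), g a) ⊆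
      ((hg.toFinset.image c : Finset β) : Set β) := by
    intro b hb
    by_contra hn
    apply hb
    apply Finset.sum_eq_zero
    intro a ha
    exfalso
    apply hn
    rw [Finset.mem_filter] at ha
    rw [Finset.mem_coe, Finset.mem_image]
    exact ⟨a, ha.1, ha.2⟩
  rw [finsum_eq_sum_of_support_subset _ hsup,
    finsum_eq_sum_of_support_subset g (s := hg.toFinset) (by simp)]
  exact Finset.sum_fiberwise_of_maps_to (fun a ha => Finset.mem_image_of_mem c ha) g

section
variable {k K : Type*} [Field k] [Field K] [Algebra k K]

/-- The degree-weighted sum of the orders of an element over all places is zero. -/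
theorem finsum_deg_mul_ord_eq_zero (hK : IsFunctionField k K) (f : K) :
    ∑ᶠ P : Place k K, (P.deg : ℤ) * P.ord f = 0 := by
  classical
  have h0 := deg_div_eq_zero hK f
  unfold Divisor.deg at h0
  rw [Finsupp.sum] at h0
  have hsup : Function.support (fun P : Place k K => (P.deg : ℤ) * P.ord f) ⊆
      ((FunFld.div k f).support : Set (Place k K)) := by
    intro P hP
    rw [Finset.mem_coe, Finsupp.mem_support_iff, div_apply hK]
    intro h
    apply hP
    simp only [h, mul_zero]
  rw [finsum_eq_sum_of_support_subset _ hsup, ← h0]
  refine Finset.sum_congr rfl fun P _ => ?_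
  rw [div_apply hK, mul_comm]

theorem finite_support_deg_mul_ord (hK : IsFunctionField k K) (f : K) :
    (Function.support (fun P : Place k K => (P.deg : ℤ) * P.ord f)).Finite := by
  refine (finite_support_ord hK f).subset ?_
  intro P hP h
  apply hP
  simp only [h, mul_zero]

end

section dom
variable {X : Scheme.{u}} [IsIntegral X]

/-- A valuation dominating the local ring at `x` gives a local homomorphism to its valuation
ring. -/
theorem exists_localHom_of_dom {Γ : Type*} [LinearOrderedCommGroupWithZero Γ]
    (v : Valuation (X.residueField (genericPoint X)) Γ) (x : X)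
    (h1 : ∀ a, v (Cyc.specMap x (genericPoint X) (genericPoint_specializes x) a) ≤ 1)
    (h2 : ∀ a ∈ maximalIdeal (X.presheaf.stalk x),
      v (Cyc.specMap x (genericPoint X) (genericPoint_specializes x) a) < 1) :
    ∃ φ : X.presheaf.stalk x →+* v.valuationSubring, IsLocalHom φ ∧
      ∀ a, ((φ a : v.valuationSubring) : X.residueField (genericPoint X)) =
        Cyc.specMap x (genericPoint X) (genericPoint_specializes x) a := by
  refine ⟨(Cyc.specMap x (genericPoint X) (genericPoint_specializes x)).codRestrict
    v.valuationSubring.toSubring (fun a => (Valuation.mem_valuationSubring_iff _ _).mpr (h1 a)),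
    ⟨fun a ha => ?_⟩, fun a => rfl⟩
  by_contra hu
  have hm : a ∈ maximalIdeal (X.presheaf.stalk x) := (mem_maximalIdeal a).2 hu
  have hlt := h2 a hm
  have h3 : v (Cyc.specMap x (genericPoint X) (genericPoint_specializes x) a) = 1 :=
    (Valuation.integer.integers v).isUnit_iff_valuation_eq_one.mp ha
  rw [h3] at hlt
  exact lt_irrefl _ hlt

end dom

section main
variable {X Y : Scheme.{u}} [IsIntegral X] [IsLocallyNoetherian X] (p : X ⟶ Y) [IsProper p]

/-- **Degree zero on the generic fibre.** -/
theorem finsum_residueDegree_mul_ordAt_eq_zero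
    (hfld : maximalIdeal (Y.presheaf.stalk (p (genericPoint X))) = ⊥)
    (htr : letI := (p.residueFieldMap (genericPoint X)).hom.toAlgebra
      Algebra.trdeg (Y.residueField (p (genericPoint X))) (X.residueField (genericPoint X)) = 1)
    (hdim : ∀ x : X, p x = p (genericPoint X) → x ≠ genericPoint X →
      ringKrullDim (X.presheaf.stalk x) = 1)
    (f : X.residueField (genericPoint X)) (hf : f ≠ 0) :
    ∑ᶠ x ∈ {x : X | p x = p (genericPoint X) ∧ x ≠ genericPoint X},
      (p.residueDegree x : ℤ) *
        Cyc.ordAt x (genericPoint X) (genericPoint_specializes x) f = 0 := by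
  classical
  letI algKL : Algebra (Y.residueField (p (genericPoint X))) (X.residueField (genericPoint X)) :=
    (p.residueFieldMap (genericPoint X)).hom.toAlgebra
  -- `κ(η)` is essentially of finite type over `κ(p η)`
  haveI hEss : Algebra.EssFiniteType (Y.residueField (p (genericPoint X)))
      (X.residueField (genericPoint X)) := by
    letI a1 : Algebra (Y.presheaf.stalk (p (genericPoint X))) (X.presheaf.stalk (genericPoint X)) :=
      (p.stalkMap (genericPoint X)).hom.toAlgebra
    letI a2 : Algebra (X.presheaf.stalk (genericPoint X)) (X.residueField (genericPoint X)) :=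
      (X.residue (genericPoint X)).hom.toAlgebra
    letI a3 : Algebra (Y.presheaf.stalk (p (genericPoint X)))
        (Y.residueField (p (genericPoint X))) := (Y.residue (p (genericPoint X))).hom.toAlgebra
    letI a4 : Algebra (Y.presheaf.stalk (p (genericPoint X))) (X.residueField (genericPoint X)) :=
      ((X.residue (genericPoint X)).hom.comp (p.stalkMap (genericPoint X)).hom).toAlgebra
    haveI t1 : IsScalarTower (Y.presheaf.stalk (p (genericPoint X)))
        (X.presheaf.stalk (genericPoint X)) (X.residueField (genericPoint X)) :=
      IsScalarTower.of_algebraMap_eq fun _ => rfl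
    haveI t2 : IsScalarTower (Y.presheaf.stalk (p (genericPoint X)))
        (Y.residueField (p (genericPoint X))) (X.residueField (genericPoint X)) :=
      IsScalarTower.of_algebraMap_eq fun a => by
        have := Scheme.residue_residueFieldMap p (genericPoint X)
        exact (congrArg (fun g => g.hom a) this).symm
    haveI e1 : Algebra.EssFiniteType (Y.presheaf.stalk (p (genericPoint X)))
        (X.presheaf.stalk (genericPoint X)) := LocallyOfFiniteType.stalkMap p (genericPoint X)
    haveI e2 : Algebra.FiniteType (X.presheaf.stalk (genericPoint X))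
        (X.residueField (genericPoint X)) :=
      Algebra.FiniteType.of_surjective (Algebra.ofId _ _) IsLocalRing.residue_surjective
    haveI e3 : Algebra.EssFiniteType (Y.presheaf.stalk (p (genericPoint X)))
        (X.residueField (genericPoint X)) :=
      Algebra.EssFiniteType.comp _ (X.presheaf.stalk (genericPoint X)) _
    exact Algebra.EssFiniteType.of_comp (Y.presheaf.stalk (p (genericPoint X))) _ _
  have hFF := Groth.Agent.Lib.Helper18.NormCurve.isFunctionField_algebraicClosure htr
  -- domination sets
  let DomAt : X → Set (Place (algebraicClosure (Y.residueField (p (genericPoint X)))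
      (X.residueField (genericPoint X))) (X.residueField (genericPoint X))) := fun x =>
    @Dom (algebraicClosure (Y.residueField (p (genericPoint X))) (X.residueField (genericPoint X)))
      (X.residueField (genericPoint X)) _ _ _ (X.presheaf.stalk x) _ _
      (Cyc.specMap x (genericPoint X) (genericPoint_specializes x)).toAlgebra
  have hKO : ∀ P : Place (algebraicClosure (Y.residueField (p (genericPoint X)))
      (X.residueField (genericPoint X))) (X.residueField (genericPoint X)),
      ∀ c : Y.residueField (p (genericPoint X)),
        (p.residueFieldMap (genericPoint X)).hom c ∈ P.O := by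
    intro P c
    rw [Valuation.mem_valuationSubring_iff]
    exact P.2.1 (algebraMap _ _ c)
  -- existence of centres
  have hcen : ∀ P : Place (algebraicClosure (Y.residueField (p (genericPoint X)))
      (X.residueField (genericPoint X))) (X.residueField (genericPoint X)),
      ∃ x : X, (p x = p (genericPoint X) ∧ x ≠ genericPoint X) ∧ P ∈ DomAt x := by
    intro P
    obtain ⟨x, φ, hx, hloc, hφ⟩ := exists_center p P.O (hKO P)
    have hD : P ∈ DomAt x := by
      refine ⟨fun a => ?_, fun a ha => ?_⟩
      · show P.1 (Cyc.specMap x (genericPoint X) (genericPoint_specializes x) a) ≤ 1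
        rw [← hφ]
        exact (Valuation.mem_valuationSubring_iff _ _).mp (φ a).2
      · show P.1 (Cyc.specMap x (genericPoint X) (genericPoint_specializes x) a) < 1
        rw [← hφ]
        have hmem : φ a ∈ maximalIdeal P.O := by
          rw [mem_maximalIdeal, mem_nonunits_iff]
          intro hu
          exact ((mem_maximalIdeal a).1 ha) (hloc.map_nonunit a hu)
        exact (Valuation.mem_maximalIdeal_iff (v := P.1)).mp hmem
    refine ⟨x, ⟨hx, ?_⟩, hD⟩
    rintro rfl
    obtain ⟨t, ht⟩ := P.2.2 (WithZero.exp 1)
    obtain ⟨a, rfl⟩ : ∃ a, Cyc.specMap (genericPoint X) (genericPoint X)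
        (genericPoint_specializes (genericPoint X)) a = t := by
      obtain ⟨a, ha⟩ := IsLocalRing.residue_surjective t
      refine ⟨a, ?_⟩
      unfold Cyc.specMap
      rw [TopCat.Presheaf.stalkSpecializes_refl]
      exact ha
    have h3 : P.1 (Cyc.specMap (genericPoint X) (genericPoint X)
        (genericPoint_specializes (genericPoint X)) a) ≤ 1 := hD.1 a
    rw [ht] at h3
    exact absurd h3 (by rw [not_le, ← WithZero.exp_zero, WithZero.exp_lt_exp]; exact zero_lt_one)
  choose c hc using hcen
  -- uniqueness of centres
  have huniq : ∀ (x : X) (P : Place (algebraicClosure (Y.residueField (p (genericPoint X)))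
      (X.residueField (genericPoint X))) (X.residueField (genericPoint X))),
      p x = p (genericPoint X) → P ∈ DomAt x → x = c P := by
    intro x P hx hD
    obtain ⟨φ, hφl, hφ⟩ := exists_localHom_of_dom P.1 x hD.1 hD.2
    obtain ⟨φ', hφl', hφ'⟩ := exists_localHom_of_dom P.1 (c P) (hc P).2.1 (hc P).2.2
    exact center_unique p P.O (hKO P) hx (hc P).1.1 φ hφ φ' hφ'
  -- the local formula
  have hloc : ∀ x : X, p x = p (genericPoint X) → x ≠ genericPoint X →
      (p.residueDegree x : ℤ) * Cyc.ordAt x (genericPoint X) (genericPoint_specializes x) f =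
        (finrank (Y.residueField (p (genericPoint X)))
          (algebraicClosure (Y.residueField (p (genericPoint X)))
            (X.residueField (genericPoint X))) : ℤ) *
          ∑ᶠ P ∈ c ⁻¹' {x}, (P.deg : ℤ) * P.ord f := by
    intro x hx hne
    have hset : c ⁻¹' {x} = DomAt x := by
      ext P
      constructor
      · intro hP
        rw [Set.mem_preimage, Set.mem_singleton_iff] at hP
        rw [← hP]
        exact (hc P).2
      · intro hP
        exact (huniq x P hx hP).symm
    rw [hset]
    letI algAL : Algebra (X.presheaf.stalk x) (X.residueField (genericPoint X)) :=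
      (Cyc.specMap x (genericPoint X) (genericPoint_specializes x)).toAlgebra
    letI algKA : Algebra (Y.residueField (p (genericPoint X))) (X.presheaf.stalk x) :=
      (kToStalk p x hx hfld).toAlgebra
    haveI : IsScalarTower (Y.residueField (p (genericPoint X))) (X.presheaf.stalk x)
        (X.residueField (genericPoint X)) :=
      IsScalarTower.of_algebraMap_eq fun c => (specMap_kToStalk p x hx hfld c).symm
    haveI : IsFractionRing (X.presheaf.stalk x) (X.residueField (genericPoint X)) :=
      isFractionRing_stalk_generic x
    haveI : Algebra.EssFiniteType (Y.residueField (p (genericPoint X))) (X.presheaf.stalk x) :=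
      essFiniteType_kToStalk p x hx hfld
    have h1 := local_formula htr (X.presheaf.stalk x) (hdim x hx hne) f hf
    rw [residueDegree_eq_finrank_stalk p x hx hfld,
      ordAt_eq_ordFrac_stalk (genericPoint_specializes x)
        (ker_specMap_eq_bot (genericPoint_specializes x) rfl) f]
    exact h1
  -- summation
  have hempty : ∀ x : X, ¬ (p x = p (genericPoint X) ∧ x ≠ genericPoint X) →
      ∑ᶠ P ∈ c ⁻¹' {x}, (P.deg : ℤ) * P.ord f = 0 := by
    intro x hx
    apply finsum_mem_eq_zero_of_forall_eq_zero
    intro P hP
    rw [Set.mem_preimage, Set.mem_singleton_iff] at hP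
    exact absurd (hP ▸ (hc P).1) hx
  have hstep : ∑ᶠ x ∈ {x : X | p x = p (genericPoint X) ∧ x ≠ genericPoint X},
      (p.residueDegree x : ℤ) *
        Cyc.ordAt x (genericPoint X) (genericPoint_specializes x) f =
      ∑ᶠ x ∈ {x : X | p x = p (genericPoint X) ∧ x ≠ genericPoint X},
        (finrank (Y.residueField (p (genericPoint X)))
          (algebraicClosure (Y.residueField (p (genericPoint X)))
            (X.residueField (genericPoint X))) : ℤ) *
          ∑ᶠ P ∈ c ⁻¹' {x}, (P.deg : ℤ) * P.ord f :=
    finsum_mem_congr rfl fun x hx => hloc x hx.1 hx.2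
  rw [hstep, ← mul_finsum_mem]
  have hall : ∑ᶠ x ∈ {x : X | p x = p (genericPoint X) ∧ x ≠ genericPoint X},
      ∑ᶠ P ∈ c ⁻¹' {x}, (P.deg : ℤ) * P.ord f =
      ∑ᶠ x, ∑ᶠ P ∈ c ⁻¹' {x}, (P.deg : ℤ) * P.ord f := by
    rw [← finsum_mem_univ (fun x => ∑ᶠ P ∈ c ⁻¹' {x}, (P.deg : ℤ) * P.ord f)]
    apply finsum_mem_inter_support_eq'
    intro x hx
    simp only [Set.mem_univ, iff_true]
    by_contra hn
    exact hx (hempty x hn)
  rw [hall, finsum_fiberwise c _ (finite_support_deg_mul_ord hFF f),
    finsum_deg_mul_ord_eq_zero hFF f, mul_zero]

end main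

end Groth.Agent.Lib.Helper18.Push
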