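import Mathlib
import Groth.Prelude.Def_Cyc
import Groth.Agent.Lib.Helper18.Push.DegZero
import Groth.Agent.Lib.Helper24.Cat.StalkDim

/-!
# Proper pushforward of a principal divisor (positive relative dimension): it vanishes
-/

set_option autoImplicit false
universe u
open AlgebraicGeometry CategoryTheory IsLocalRing

namespace Groth.Agent.Lib.Helper18.Push

variable {X Y : Scheme.{u}}

theorem maximalIdeal_stalk_eq_bot_of_eq_genericPoint [IsIntegral Y] (y : Y)
    (hy : y = genericPoint Y) : maximalIdeal (Y.presheaf.stalk y) = ⊥ := by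
  subst hy
  exact IsLocalRing.isField_iff_maximalIdeal_eq.mp
    (inferInstance : Field Y.functionField).toIsField

/-- `p_* div(f) = 0` coefficientwise, for `p` proper dominant between integral schemes with
`δX(η_X) ≠ δY(η_Y)`. -/
theorem push_divFun_eq_zero [IsIntegral X] [IsIntegral Y] [IsLocallyNoetherian X]
    (δX : X → ℤ) (δY : Y → ℤ) (hδX : Cyc.IsDimFun X δX)
    (hδY : Cyc.IsDimFun Y δY) (p : X ⟶ Y) [IsProper p] (hδ : Cyc.DeltaCompat p δX δY)
    (hdom : p (genericPoint X) = genericPoint Y)
    (hn : δX (genericPoint X) ≠ δY (genericPoint Y)) (f : X.residueField (genericPoint X))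
    (hf : f ≠ 0) (y : Y) :
    ∑ᶠ x ∈ p ⁻¹' {y}, Cyc.divFun δX (genericPoint X) f x *
        ((AlgebraicCycle.mapCoeff p δX δY x : ℕ) : ℤ) = 0 := by
  classical
  obtain ⟨n, hn1, hn2⟩ := hδ (genericPoint X)
  have hn0 : (n : ℤ) ≠ 0 := by
    intro h
    apply hn
    rw [hn2, h, add_zero, hdom]
  -- a nonzero term forces `y = p η` and `n = 1`
  have hterm : ∀ x : X, p x = y → Cyc.divFun δX (genericPoint X) f x *
      ((AlgebraicCycle.mapCoeff p δX δY x : ℕ) : ℤ) ≠ 0 → y = p (genericPoint X) ∧ n = 1 := by
    intro x hx hne
    have h1 : Cyc.divFun δX (genericPoint X) f x ≠ 0 := left_ne_zero_of_mul hne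
    have h2 : ((AlgebraicCycle.mapCoeff p δX δY x : ℕ) : ℤ) ≠ 0 := right_ne_zero_of_mul hne
    have hd : genericPoint X ⤳ x ∧ δX x + 1 = δX (genericPoint X) := by
      by_contra hcon
      apply h1
      unfold Cyc.divFun
      rw [dif_neg hcon]
    have hm : δX x = δY (p x) := by
      by_contra hcon
      apply h2
      unfold AlgebraicCycle.mapCoeff
      rw [if_neg hcon]
      rfl
    have hspec : p (genericPoint X) ⤳ y := by
      rw [← hx]
      exact hd.1.map p.continuous
    rw [hx] at hm
    by_cases hy : y = p (genericPoint X)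
    · refine ⟨hy, ?_⟩
      rw [hy] at hm
      have : (n : ℤ) = 1 := by omega
      exact_mod_cast this
    · exfalso
      have hlt := (hδY (p (genericPoint X)) y hspec (fun h => hy h.symm)).1
      omega
  by_cases hcase : y = p (genericPoint X) ∧ n = 1
  · obtain ⟨rfl, rfl⟩ := hcase
    have hfld := maximalIdeal_stalk_eq_bot_of_eq_genericPoint (p (genericPoint X)) hdom
    have htr : @Algebra.trdeg (Y.residueField (p (genericPoint X)))
        (X.residueField (genericPoint X)) _ _
        (p.residueFieldMap (genericPoint X)).hom.toAlgebra = 1 := by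
      rw [hn1]
      rfl
    -- points of the generic fibre other than `η`
    have hpt : ∀ x : X, p x = p (genericPoint X) → x ≠ genericPoint X →
        δX x = δY (p x) ∧ δX x + 1 = δX (genericPoint X) := by
      intro x hx hne
      obtain ⟨m, -, hm⟩ := hδ x
      have hlt := (hδX (genericPoint X) x (genericPoint_specializes x) (fun h => hne h.symm)).1
      rw [hx] at hm ⊢
      have : (m : ℤ) = 0 := by
        have : δX x < δY (p (genericPoint X)) + 1 := by
          rw [hn2] at hlt
          exact_mod_cast hlt
        omega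
      constructor
      · omega
      · rw [hn2]
        push_cast
        omega
    have hd : ∀ x : X, p x = p (genericPoint X) → x ≠ genericPoint X →
        ringKrullDim (X.presheaf.stalk x) = 1 := by
      intro x hx hne
      obtain ⟨k, h1, h2⟩ := Groth.Agent.Lib.Helper24.StalkDim.ringKrullDim_stalk_eq δX hδX x
      have : k = 1 := by
        have := (hpt x hx hne).2
        omega
      rw [h1, this]
      rfl
    have key := finsum_residueDegree_mul_ordAt_eq_zero p hfld htr hd f hf
    have hstep1 : ∑ᶠ x ∈ p ⁻¹' {p (genericPoint X)}, Cyc.divFun δX (genericPoint X) f x *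
          ((AlgebraicCycle.mapCoeff p δX δY x : ℕ) : ℤ) =
        ∑ᶠ x ∈ {x : X | p x = p (genericPoint X) ∧ x ≠ genericPoint X},
          Cyc.divFun δX (genericPoint X) f x *
            ((AlgebraicCycle.mapCoeff p δX δY x : ℕ) : ℤ) := by
      apply finsum_mem_inter_support_eq'
      intro x hx
      simp only [Set.mem_preimage, Set.mem_singleton_iff, Set.mem_setOf_eq]
      constructor
      · intro h
        refine ⟨h, ?_⟩
        rintro rfl
        apply hx
        show Cyc.divFun δX (genericPoint X) f (genericPoint X) * _ = 0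
        have h0 : Cyc.divFun δX (genericPoint X) f (genericPoint X) = 0 := by
          unfold Cyc.divFun
          rw [dif_neg]
          rintro ⟨-, h2⟩
          omega
        rw [h0, zero_mul]
      · intro h
        exact h.1
    rw [hstep1, ← key]
    apply finsum_mem_congr rfl
    intro x hx
    obtain ⟨h1, h2⟩ := hpt x hx.1 hx.2
    unfold Cyc.divFun AlgebraicCycle.mapCoeff
    rw [dif_pos ⟨genericPoint_specializes x, h2⟩, if_pos h1]
    ring
  · apply finsum_mem_eq_zero_of_forall_eq_zero
    intro x hx
    by_contra hne
    exact hcase (hterm x hx hne)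

end Groth.Agent.Lib.Helper18.Push
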