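import Mathlib
import Groth.Prelude.Def_Cyc
import Groth.Agent.Lib.Helper18.Push.PushZero
import Groth.Agent.Lib.Helper18.Push.PushDiv
import Groth.Agent.Lib.Helper18.CycMap
import Groth.Agent.Lib.Helper18.Cyc.ClosedPush
import Groth.Agent.Lib.Helper18.Cyc.DivFamily
import Groth.Agent.Lib.lead.NonDomainDim
import Groth.Agent.Lib.Helper24.SubDim.Main4985

/-!
# Proper pushforward of the principal divisor of a function on an arbitrary integral closed
subscheme: reduction to the closed subschemes
-/

set_option autoImplicit false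
universe u
open AlgebraicGeometry CategoryTheory IsLocalRing

namespace Groth.Agent.Lib.Helper18.Push

open Groth.Agent.Lib.Helper18.CycMap Groth.Agent.Lib.Helper18.CycDiv

variable {W W' X Y : Scheme.{u}}

theorem residueDegree_congr_hom {F G : W ⟶ Y} (h : F = G) (w : W) :
    F.residueDegree w = G.residueDegree w := by
  subst h
  rfl

theorem trdeg_congr_hom {F G : W ⟶ Y} (h : F = G) (w : W) :
    @Algebra.trdeg (Y.residueField (F w)) (W.residueField w) _ _
      (F.residueFieldMap w).hom.toAlgebra =
    @Algebra.trdeg (Y.residueField (G w)) (W.residueField w) _ _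
      (G.residueFieldMap w).hom.toAlgebra := by
  subst h
  rfl

section square
variable (i : W ⟶ X) (j : W' ⟶ Y) (p : X ⟶ Y) (q : W ⟶ W') (hq : q ≫ j = i ≫ p)

include hq in
theorem apply_square (w : W) : j (q w) = p (i w) := by
  have := congrArg (fun F : W ⟶ Y => F w) hq
  exact this

include hq in
theorem residueDegree_square (w : W)
    (hi : Function.Surjective (i.residueFieldMap w).hom)
    (hj : Function.Surjective (j.residueFieldMap (q w)).hom) :
    q.residueDegree w = p.residueDegree (i w) := by
  have h1 := residueDegree_comp q j w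
  have h2 := residueDegree_comp i p w
  rw [residueDegree_eq_one_of_surjective j (q w) hj, one_mul] at h1
  rw [residueDegree_eq_one_of_surjective i w hi, mul_one] at h2
  rw [← h1, ← h2]
  exact residueDegree_congr_hom hq w

include hq in
theorem trdeg_square (w : W)
    (hi : Function.Bijective (i.residueFieldMap w).hom)
    (hj : Function.Bijective (j.residueFieldMap (q w)).hom) :
    @Algebra.trdeg (W'.residueField (q w)) (W.residueField w) _ _
      (q.residueFieldMap w).hom.toAlgebra =
    @Algebra.trdeg (Y.residueField (p (i w))) (X.residueField (i w)) _ _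
      (p.residueFieldMap (i w)).hom.toAlgebra := by
  have h1 : @Algebra.trdeg (W'.residueField (q w)) (W.residueField w) _ _
      (q.residueFieldMap w).hom.toAlgebra =
      @Algebra.trdeg (Y.residueField ((q ≫ j) w)) (W.residueField w) _ _
        ((q ≫ j).residueFieldMap w).hom.toAlgebra := by
    letI a1 : Algebra (W'.residueField (q w)) (W.residueField w) :=
      (q.residueFieldMap w).hom.toAlgebra
    letI a2 : Algebra (Y.residueField ((q ≫ j) w)) (W.residueField w) :=
      ((q ≫ j).residueFieldMap w).hom.toAlgebra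
    symm
    refine Groth.Agent.Lib.lead.NonDomainDim.trdeg_eq_of_ringEquiv
      (RingEquiv.ofBijective (j.residueFieldMap (q w)).hom hj) (RingEquiv.refl _) ?_
    intro r
    show ((q ≫ j).residueFieldMap w).hom r =
      (q.residueFieldMap w).hom ((j.residueFieldMap (q w)).hom r)
    rw [Scheme.residueFieldMap_comp]
    rfl
  have h2 : @Algebra.trdeg (Y.residueField ((i ≫ p) w)) (W.residueField w) _ _
      ((i ≫ p).residueFieldMap w).hom.toAlgebra =
      @Algebra.trdeg (Y.residueField (p (i w))) (X.residueField (i w)) _ _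
        (p.residueFieldMap (i w)).hom.toAlgebra := by
    letI a1 : Algebra (Y.residueField (p (i w))) (X.residueField (i w)) :=
      (p.residueFieldMap (i w)).hom.toAlgebra
    letI a2 : Algebra (Y.residueField ((i ≫ p) w)) (W.residueField w) :=
      ((i ≫ p).residueFieldMap w).hom.toAlgebra
    symm
    refine Groth.Agent.Lib.lead.NonDomainDim.trdeg_eq_of_ringEquiv (RingEquiv.refl _)
      (RingEquiv.ofBijective (i.residueFieldMap w).hom hi) ?_
    intro r
    show (i.residueFieldMap w).hom ((p.residueFieldMap (i w)).hom r) =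
      ((i ≫ p).residueFieldMap w).hom r
    rw [Scheme.residueFieldMap_comp]
    rfl
  rw [h1, trdeg_congr_hom hq w, h2]

include hq in
theorem deltaCompat_square [IsClosedImmersion i] [IsClosedImmersion j] (δX : X → ℤ) (δY : Y → ℤ)
    (hδ : Cyc.DeltaCompat p δX δY) :
    Cyc.DeltaCompat q (fun w => δX (i w)) (fun w' => δY (j w')) := by
  intro w
  obtain ⟨n, h1, h2⟩ := hδ (i w)
  refine ⟨n, ?_, ?_⟩
  · rw [← h1]
    exact trdeg_square i j p q hq w
      (residueFieldMap_bijective_of_surjective i w (i.stalkMap_surjective w))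
      (residueFieldMap_bijective_of_surjective j (q w) (j.stalkMap_surjective (q w)))
  · show δX (i w) = δY (j (q w)) + n
    rw [apply_square i j p q hq w]
    exact h2

end square

theorem normGen_ne_zero (q : W ⟶ W') (w : W) (f : W.residueField w) (hf : f ≠ 0) :
    Cyc.normGen q w f ≠ 0 := by
  unfold Cyc.normGen
  letI := (q.residueFieldMap w).hom.toAlgebra
  by_cases hfin : Module.Finite (W'.residueField (q w)) (W.residueField w)
  · exact Algebra.norm_ne_zero_iff.mpr hf
  · rw [Algebra.norm_eq_one_of_not_module_finite hfin]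
    exact one_ne_zero

section transfer
variable (i : W ⟶ X) (j : W' ⟶ Y) [IsClosedImmersion i] [IsClosedImmersion j] (p : X ⟶ Y)
  (q : W ⟶ W') (hq : q ≫ j = i ≫ p) (δX : X → ℤ) (δY : Y → ℤ)

include hq in
theorem mapCoeff_square (w : W) :
    AlgebraicCycle.mapCoeff q (fun w => δX (i w)) (fun w' => δY (j w')) w =
      AlgebraicCycle.mapCoeff p δX δY (i w) := by
  unfold AlgebraicCycle.mapCoeff
  have h1 : j (q w) = p (i w) := apply_square i j p q hq w
  have h2 := residueDegree_square i j p q hq w
    (residueFieldMap_bijective_of_surjective i w (i.stalkMap_surjective w)).2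
    (residueFieldMap_bijective_of_surjective j (q w) (j.stalkMap_surjective (q w))).2
  show (if δX (i w) = δY (j (q w)) then q.residueDegree w else 0) =
    if δX (i w) = δY (p (i w)) then p.residueDegree (i w) else 0
  rw [h1, h2]

include hq in
/-- The fibre sum on `X` of a function supported on `W` is the fibre sum on `W`. -/
theorem finsum_fibre_square (T : X → ℤ) (hT : ∀ x, x ∉ Set.range i → T x = 0) (y' : W') :
    ∑ᶠ x ∈ p ⁻¹' {j y'}, T x = ∑ᶠ w ∈ q ⁻¹' {y'}, T (i w) := by
  have hinj : Function.Injective i := i.isClosedEmbedding.injective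
  have hjinj : Function.Injective j := j.isClosedEmbedding.injective
  rw [← finsum_mem_image (hinj.injOn)]
  apply finsum_mem_inter_support_eq'
  intro x hx
  simp only [Set.mem_preimage, Set.mem_singleton_iff, Set.mem_image]
  constructor
  · intro hpx
    have hxr : x ∈ Set.range i := by
      by_contra hn
      exact hx (hT x hn)
    obtain ⟨w, rfl⟩ := hxr
    refine ⟨w, ?_, rfl⟩
    apply hjinj
    rw [apply_square i j p q hq w, hpx]
  · rintro ⟨w, hw, rfl⟩
    rw [← apply_square i j p q hq w, hw]

include hq in
theorem finsum_fibre_square_zero (T : X → ℤ) (hT : ∀ x, x ∉ Set.range i → T x = 0) (y : Y)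
    (hy : y ∉ Set.range j) : ∑ᶠ x ∈ p ⁻¹' {y}, T x = 0 := by
  apply finsum_mem_eq_zero_of_forall_eq_zero
  intro x hx
  apply hT
  rintro ⟨w, rfl⟩
  apply hy
  refine ⟨q w, ?_⟩
  rw [apply_square i j p q hq w]
  exact hx

end transfer

/-- Pushforward of the principal divisor of a function on an integral closed subscheme, in terms
of a commutative square of closed immersions. -/
theorem push_divFun_of_square [IsLocallyNoetherian X] [IsLocallyNoetherian Y] [IsIntegral W]
    [IsIntegral W'] (i : W ⟶ X) (j : W' ⟶ Y) [IsClosedImmersion i] [IsClosedImmersion j]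
    (p : X ⟶ Y) [IsProper p] (q : W ⟶ W') (hq : q ≫ j = i ≫ p)
    (hdom : q (genericPoint W) = genericPoint W')
    (δX : X → ℤ) (δY : Y → ℤ) (hδX : Cyc.IsDimFun X δX) (hδY : Cyc.IsDimFun Y δY)
    (hδ : Cyc.DeltaCompat p δX δY)
    (f : X.residueField (i (genericPoint W))) (hf : f ≠ 0) :
    ∃ g : Y.residueField (j (q (genericPoint W))), g ≠ 0 ∧ ∀ y : Y,
      ∑ᶠ x ∈ p ⁻¹' {y}, Cyc.divFun δX (i (genericPoint W)) f x *
          ((AlgebraicCycle.mapCoeff p δX δY x : ℕ) : ℤ) =
        if δX (i (genericPoint W)) = δY (j (q (genericPoint W))) then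
          Cyc.divFun δY (j (q (genericPoint W))) g y else 0 := by
  classical
  haveI : IsProper (q ≫ j) := by rw [hq]; infer_instance
  haveI : IsProper q := IsProper.of_comp q j
  haveI : IsLocallyNoetherian W := LocallyOfFiniteType.isLocallyNoetherian i
  haveI : IsLocallyNoetherian W' := LocallyOfFiniteType.isLocallyNoetherian j
  have hδW := isDimFun_comp_of_isClosedImmersion i δX hδX
  have hδW' := isDimFun_comp_of_isClosedImmersion j δY hδY
  have hδq := deltaCompat_square i j p q hq δX δY hδ
  set fW : W.residueField (genericPoint W) := (i.residueFieldMap (genericPoint W)).hom f with hfW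
  have hfW0 : fW ≠ 0 := by
    rw [hfW, Ne, map_eq_zero_iff _ (i.residueFieldMap (genericPoint W)).hom.injective]
    exact hf
  have hcl : IsClosed (Set.range i) := i.isClosedEmbedding.isClosed_range
  have hclj : IsClosed (Set.range j) := j.isClosedEmbedding.isClosed_range
  -- the terms vanish off `W`
  have hT : ∀ x, x ∉ Set.range i → Cyc.divFun δX (i (genericPoint W)) f x *
      ((AlgebraicCycle.mapCoeff p δX δY x : ℕ) : ℤ) = 0 := by
    intro x hx
    have : Cyc.divFun δX (i (genericPoint W)) f x = 0 := by
      by_contra hne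
      exact hx ((specializes_of_divFun_ne_zero δX _ f x hne).mem_closed hcl ⟨_, rfl⟩)
    rw [this, zero_mul]
  -- the terms on `W`
  have hTW : ∀ w : W, Cyc.divFun δX (i (genericPoint W)) f (i w) *
      ((AlgebraicCycle.mapCoeff p δX δY (i w) : ℕ) : ℤ) =
      Cyc.divFun (fun w => δX (i w)) (genericPoint W) fW w *
        ((AlgebraicCycle.mapCoeff q (fun w => δX (i w)) (fun w' => δY (j w')) w : ℕ) : ℤ) := by
    intro w
    rw [divFun_preimmersion i δX (genericPoint W) f w, mapCoeff_square i j p q hq δX δY w]
  by_cases hn : δX (i (genericPoint W)) = δY (j (q (genericPoint W)))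
  · have hn' : (fun w => δX (i w)) (genericPoint W) = (fun w' => δY (j w')) (genericPoint W') := by
      show δX (i (genericPoint W)) = δY (j (genericPoint W'))
      rw [← hdom]
      exact hn
    have main := push_divFun_eq_divFun_norm (fun w => δX (i w)) (fun w' => δY (j w')) hδW hδW' q
      hδq hdom hn' fW hfW0
    obtain ⟨g, hg⟩ := (residueFieldMap_bijective_of_surjective j (q (genericPoint W))
      (j.stalkMap_surjective _)).2 (Cyc.normGen q (genericPoint W) fW)
    have hg0 : g ≠ 0 := by
      rintro rfl
      rw [map_zero] at hg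
      exact normGen_ne_zero q _ fW hfW0 hg.symm
    refine ⟨g, hg0, fun y => ?_⟩
    rw [if_pos hn]
    by_cases hy : y ∈ Set.range j
    · obtain ⟨y', rfl⟩ := hy
      rw [finsum_fibre_square i j p q hq _ hT y', divFun_preimmersion j δY _ g y', hg, ← main y']
      exact finsum_mem_congr rfl fun w _ => hTW w
    · rw [finsum_fibre_square_zero i j p q hq _ hT y hy]
      symm
      by_contra hne
      exact hy ((specializes_of_divFun_ne_zero δY _ g y hne).mem_closed hclj ⟨_, rfl⟩)
  · have hn' : (fun w => δX (i w)) (genericPoint W) ≠ (fun w' => δY (j w')) (genericPoint W') := by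
      show δX (i (genericPoint W)) ≠ δY (j (genericPoint W'))
      rw [← hdom]
      exact hn
    have main := push_divFun_eq_zero (fun w => δX (i w)) (fun w' => δY (j w')) hδW hδW' q
      hδq hdom hn' fW hfW0
    refine ⟨1, one_ne_zero, fun y => ?_⟩
    rw [if_neg hn]
    by_cases hy : y ∈ Set.range j
    · obtain ⟨y', rfl⟩ := hy
      rw [finsum_fibre_square i j p q hq _ hT y', ← main y']
      exact finsum_mem_congr rfl fun w _ => hTW w
    · exact finsum_fibre_square_zero i j p q hq _ hT y hy

open Scheme.IdealSheafData Groth.Agent.Lib.Helper24.SubDim in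
/-- **Pushforward of a principal divisor along a proper morphism**: for any point `ξ` and
nonzero `f ∈ κ(ξ)`, `p_* div_ξ(f)` is `div_{p ξ}(g)` for a nonzero `g ∈ κ(p ξ)` when
`δX ξ = δY (p ξ)`, and zero otherwise. -/
theorem exists_push_divFun [IsLocallyNoetherian X] [IsLocallyNoetherian Y] (p : X ⟶ Y)
    [IsProper p] (δX : X → ℤ) (δY : Y → ℤ) (hδX : Cyc.IsDimFun X δX) (hδY : Cyc.IsDimFun Y δY)
    (hδ : Cyc.DeltaCompat p δX δY) (ξ : X) (f : X.residueField ξ) (hf : f ≠ 0) :
    ∃ g : Y.residueField (p ξ), g ≠ 0 ∧ ∀ y : Y,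
      ∑ᶠ x ∈ p ⁻¹' {y}, Cyc.divFun δX ξ f x * ((AlgebraicCycle.mapCoeff p δX δY x : ℕ) : ℤ) =
        if δX ξ = δY (p ξ) then Cyc.divFun δY (p ξ) g y else 0 := by
  classical
  let Zc : TopologicalSpace.Closeds X := ⟨closure {ξ}, isClosed_closure⟩
  have hirr : IsIrreducible (Zc : Set X) := isIrreducible_singleton.closure
  haveI := isIntegral_vanishingIdeal_subscheme Zc hirr
  let Z'c : TopologicalSpace.Closeds Y := TopologicalSpace.Closeds.closure (p '' (Zc : Set X))
  have hirr' : IsIrreducible (Z'c : Set Y) :=
    (hirr.image p p.continuous.continuousOn).closure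
  haveI := isIntegral_vanishingIdeal_subscheme Z'c hirr'
  have H := (map_vanishingIdeal p Zc).ge
  have hq := subschemeMap_subschemeι (vanishingIdeal Zc) (vanishingIdeal Z'c) p H
  set q := (vanishingIdeal Zc).subschemeMap (vanishingIdeal Z'c) p H with hqdef
  set i := (vanishingIdeal Zc).subschemeι with hi
  set j := (vanishingIdeal Z'c).subschemeι with hj
  -- generic points
  have hξW : i (genericPoint (vanishingIdeal Zc).subscheme) = ξ := by
    have h1 : closure ({i (genericPoint (vanishingIdeal Zc).subscheme)} : Set X) =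
        closure {ξ} := closure_generic_vanishingIdeal Zc
    have h2 : i (genericPoint (vanishingIdeal Zc).subscheme) ⤳ ξ := by
      rw [specializes_iff_mem_closure, h1]
      exact subset_closure rfl
    have h3 : ξ ⤳ i (genericPoint (vanishingIdeal Zc).subscheme) := by
      rw [specializes_iff_mem_closure, ← h1]
      exact subset_closure rfl
    exact (h2.antisymm h3).eq
  have hηW' : j (genericPoint (vanishingIdeal Z'c).subscheme) = p ξ := by
    have h1 : closure ({j (genericPoint (vanishingIdeal Z'c).subscheme)} : Set Y) =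
        closure {p ξ} := by
      rw [closure_generic_vanishingIdeal Z'c]
      show closure (p '' closure {ξ}) = closure {p ξ}
      rw [closure_image_closure p.continuous, Set.image_singleton]
    have h2 : j (genericPoint (vanishingIdeal Z'c).subscheme) ⤳ p ξ := by
      rw [specializes_iff_mem_closure, h1]
      exact subset_closure rfl
    have h3 : p ξ ⤳ j (genericPoint (vanishingIdeal Z'c).subscheme) := by
      rw [specializes_iff_mem_closure, ← h1]
      exact subset_closure rfl
    exact (h2.antisymm h3).eq
  have hsq : j (q (genericPoint (vanishingIdeal Zc).subscheme)) = p ξ := by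
    rw [apply_square i j p q hq, hξW]
  have hdom : q (genericPoint (vanishingIdeal Zc).subscheme) =
      genericPoint (vanishingIdeal Z'c).subscheme := by
    apply j.isClosedEmbedding.injective
    rw [hsq, hηW']
  obtain ⟨g, hg0, hg⟩ := push_divFun_of_square i j p q hq hdom δX δY hδX hδY hδ
    (hξW.symm ▸ f) (cast_ne_zero hξW.symm f hf)
  have e1 : Cyc.divFun δX (i (genericPoint (vanishingIdeal Zc).subscheme)) (hξW.symm ▸ f) =
      Cyc.divFun δX ξ f := divFun_cast δX hξW.symm f
  have e2 : Cyc.divFun δY (p ξ) (hsq ▸ g) =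
      Cyc.divFun δY (j (q (genericPoint (vanishingIdeal Zc).subscheme))) g :=
    divFun_cast δY hsq g
  refine ⟨hsq ▸ g, cast_ne_zero hsq g hg0, fun y => ?_⟩
  have := hg y
  rw [e1, ← e2, hξW] at this
  have hc : (δX ξ = δY (j (q (genericPoint (vanishingIdeal Zc).subscheme)))) ↔
      (δX ξ = δY (p ξ)) := by rw [hsq]
  rw [this]
  by_cases hcase : δX ξ = δY (p ξ)
  · rw [if_pos hcase, if_pos (hc.2 hcase)]
  · rw [if_neg hcase, if_neg (fun h => hcase (hc.1 h))]

end Groth.Agent.Lib.Helper18.Push
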