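import Mathlib
import Groth.Agent.Lib.Helper18.Push.BCKer
import Groth.Agent.Lib.Helper18.Push.SubPush
import Groth.Agent.Lib.Helper18.Cyc.FiniteFlatDeg
import Groth.Agent.Lib.Helper18.Cyc.PullSquare
import Groth.Agent.Lib.lead.FibreDimBCLocal

/-!
# The local degree formula for a base change

For a pullback square `P = Y ×_X X'` and points `y`, `x'` over the same point of `X` with
`κ(y)/κ(f y)` finite: `Σ_{z ↦ (y, x')} len(O_{P,z}/𝔪_y) · [κ(z) : κ(x')] =
len(O_{X',x'}/𝔪_x) · [κ(y) : κ(x)]`.
-/

set_option autoImplicit false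
set_option linter.style.haveILetI false
universe u
open AlgebraicGeometry CategoryTheory IsLocalRing Limits

namespace Groth.Agent.Lib.Helper18.Push

open Groth.Agent.Lib.Helper18.CycPull Groth.Agent.Lib.Helper18.CycDiv

/-- The local rings of the spectrum of a field are fields. -/
theorem maximalIdeal_stalk_Spec_field (K : CommRingCat.{u}) (hK : IsField K) (x : Spec K) :
    maximalIdeal ((Spec K).presheaf.stalk x) = ⊥ := by
  letI := hK.toField
  haveI : IsIntegral (Spec K) := inferInstance
  haveI : Subsingleton (Spec K) := by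
    show Subsingleton (PrimeSpectrum K)
    infer_instance
  obtain rfl : x = genericPoint (Spec K) := Subsingleton.elim _ _
  exact IsLocalRing.isField_iff_maximalIdeal_eq.1 (Field.toIsField ((Spec K).functionField))

/-- The fibre length of a morphism to the spectrum of a field does not depend on the morphism. -/
theorem fibLen_eq_of_field {T : Scheme.{u}} (K : CommRingCat.{u}) (hK : IsField K)
    (h : T ⟶ Spec K) (t : T) :
    fibLen h t = Module.length (T.presheaf.stalk t)
      (T.presheaf.stalk t ⧸ (⊥ : Ideal (T.presheaf.stalk t))) := by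
  unfold fibLen fibIdeal
  rw [maximalIdeal_stalk_Spec_field K hK (h t), Ideal.map_bot]

variable {P Y X X' : Scheme.{u}} {q : P ⟶ Y} {f' : P ⟶ X'} {f : Y ⟶ X} {p : X' ⟶ X}

/-- The finite flat model of the set of points of a fibre product over a pair of points. -/
theorem exists_finite_flat_fibre (sq : IsPullback q f' f p) (y : Y) (x' : X')
    (hyx : f y = p x') (hfin : (f.residueFieldMap y).hom.Finite) :
    ∃ (F G : Scheme.{u}) (π : F ⟶ G) (ιF : F ⟶ P) (g₀ : G) (_ : IsFinite π) (_ : Flat π),
      Function.Injective ιF ∧ {z : P | q z = y ∧ f' z = x'} = ιF '' (π ⁻¹' {g₀}) ∧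
      (∀ g, π.finrank g = f.residueDegree y) ∧
      ∀ w ∈ π ⁻¹' {g₀}, fibLen q (ιF w) = fibLen p x' * fibLen π w ∧
        f'.residueDegree (ιF w) = π.residueDegree w := by
  classical
  let jy := Y.fromSpecResidueField y
  let jx := X.fromSpecResidueField (f y)
  let φ := Spec.map (f.residueFieldMap y)
  have hφ : φ ≫ jx = jy ≫ f := Scheme.Hom.SpecMap_residueFieldMap_fromSpecResidueField f y
  let ιF := pullback.fst q jy
  let sF := pullback.snd q jy
  let ιG := pullback.fst p jx
  let sG := pullback.snd p jx
  have hπc : (ιF ≫ f') ≫ p = (sF ≫ φ) ≫ jx := by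
    rw [Category.assoc, ← sq.w, ← Category.assoc, pullback.condition, Category.assoc,
      Category.assoc, hφ]
  let π : pullback q jy ⟶ pullback p jx := pullback.lift (ιF ≫ f') (sF ≫ φ) hπc
  have hπ1 : π ≫ ιG = ιF ≫ f' := pullback.lift_fst _ _ _
  have hπ2 : π ≫ sG = sF ≫ φ := pullback.lift_snd _ _ _
  have sqA : IsPullback ιF sF q jy := IsPullback.of_hasPullback q jy
  have sqC : IsPullback ιG sG p jx := IsPullback.of_hasPullback p jx
  have big : IsPullback (ιF ≫ f') sF p (jy ≫ f) := sqA.paste_horiz sq.flip
  have big' : IsPullback (π ≫ ιG) sF p (φ ≫ jx) := by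
    rw [hπ1, hφ]
    exact big
  have sqπ : IsPullback π sF sG φ := IsPullback.of_right big' hπ2 sqC
  -- `π` is finite flat of degree `[κ(y) : κ(f y)]`
  haveI : IsFinite φ := (IsFinite.SpecMap_iff _).2 hfin
  haveI : Flat φ := Groth.Agent.Lib.lead.FibreDimBCLocal.flat_SpecMap_of_isField
    (Field.toIsField _) _
  haveI hπfin : IsFinite π := MorphismProperty.of_isPullback sqπ.flip inferInstance
  haveI hπflat : Flat π := MorphismProperty.of_isPullback sqπ.flip inferInstance
  have hrank : ∀ g₀, π.finrank g₀ = f.residueDegree y := by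
    intro g₀
    rw [Scheme.Hom.finrank_of_isPullback sF π φ sG sqπ.flip g₀,
      Scheme.Hom.finrank_SpecMap_eq_finrank hfin
        (Flat.SpecMap_iff.1 (inferInstance : Flat φ))]
    unfold RingHom.finrank Scheme.Hom.residueDegree
    letI := (f.residueFieldMap y).hom.toAlgebra
    rw [Module.rankAtStalk_eq_finrank_of_free]
    rfl
  -- the point of `G` over `x'`
  obtain ⟨g₀, hg₀, -⟩ := Scheme.Pullback.exists_preimage_pullback (f := p) (g := jx) x'
    (Classical.arbitrary _) (by
      rw [Scheme.fromSpecResidueField_apply]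
      exact hyx.symm)
  have hg₀' : ιG g₀ = x' := hg₀
  have hιGinj : Function.Injective ιG := ιG.isEmbedding.injective
  have hιFinj : Function.Injective ιF := ιF.isEmbedding.injective
  refine ⟨_, _, π, ιF, g₀, hπfin, hπflat, hιFinj, ?_, hrank, ?_⟩
  · ext z
    simp only [Set.mem_setOf_eq, Set.mem_image, Set.mem_preimage, Set.mem_singleton_iff]
    constructor
    · rintro ⟨hz1, hz2⟩
      obtain ⟨w, hw1, -⟩ := Scheme.Pullback.exists_preimage_pullback (f := q) (g := jy) z
        (Classical.arbitrary _) (by
          rw [Scheme.fromSpecResidueField_apply]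
          exact hz1)
      refine ⟨w, ?_, hw1⟩
      apply hιGinj
      have h1 : ιG (π w) = f' (ιF w) := apply_square ιF ιG f' π hπ1 w
      rw [h1, hg₀']
      have hw1' : ιF w = z := hw1
      rw [hw1', hz2]
    · rintro ⟨w, hw, rfl⟩
      constructor
      · have h1 : q (ιF w) = jy (sF w) := by
          have := congrArg (fun F : pullback q jy ⟶ Y => F w)
            (pullback.condition (f := q) (g := jy))
          exact this
        rw [h1, Scheme.fromSpecResidueField_apply]
      · have h1 : ιG (π w) = f' (ιF w) := apply_square ιF ιG f' π hπ1 w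
        rw [← h1, hw, hg₀']
  · intro w hw
    have hw' : π w = g₀ := hw
    have e1 : fibLen sF w = fibLen q (ιF w) := fibLen_eq_of_isPullback sqA w
    have e2 : fibLen sG g₀ = fibLen p (ιG g₀) := fibLen_eq_of_isPullback sqC g₀
    rw [hg₀'] at e2
    have e3 : fibLen sF w = fibLen (π ≫ sG) w := by
      rw [fibLen_eq_of_field _ (Field.toIsField _) sF w,
        fibLen_eq_of_field _ (Field.toIsField _) (π ≫ sG) w]
    have e4 : fibLen (π ≫ sG) w = fibLen sG (π w) * fibLen π w := fibLen_comp π sG w
    rw [hw', e2] at e4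
    refine ⟨by rw [← e1, e3, e4], ?_⟩
    exact (residueDegree_square ιF ιG f' π hπ1 w
      (residueFieldMap_bijective_of_surjective ιF w (ιF.stalkMap_surjective w)).2
      (residueFieldMap_bijective_of_surjective ιG (π w) (ιG.stalkMap_surjective (π w))).2).symm

/-- The set of points of a fibre product over a pair of points is finite when the residue field
extension downstairs is finite. -/
theorem finite_points_over (sq : IsPullback q f' f p) (y : Y) (x' : X')
    (hyx : f y = p x') (hfin : (f.residueFieldMap y).hom.Finite) :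
    {z : P | q z = y ∧ f' z = x'}.Finite := by
  obtain ⟨F, G, π, ιF, g₀, _, _, -, hset, -, -⟩ := exists_finite_flat_fibre sq y x' hyx hfin
  rw [hset]
  exact (IsFinite.finite_preimage_singleton π g₀).image _

/-- **The local degree formula for a base change.** -/
theorem finsum_fibLen_mul_residueDegree_sq (sq : IsPullback q f' f p) (y : Y) (x' : X')
    (hyx : f y = p x') (hfin : (f.residueFieldMap y).hom.Finite) :
    ∑ᶠ z ∈ {z : P | q z = y ∧ f' z = x'}, (fibLen q z).toNat * f'.residueDegree z =
      (fibLen p x').toNat * f.residueDegree y := by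
  obtain ⟨F, G, π, ιF, g₀, _, _, hinj, hset, hrank, hterm⟩ :=
    exists_finite_flat_fibre sq y x' hyx hfin
  rw [hset, finsum_mem_image hinj.injOn]
  have hterm' : ∀ w ∈ π ⁻¹' {g₀}, (fibLen q (ιF w)).toNat * f'.residueDegree (ιF w) =
      (fibLen p x').toNat * ((fibLen π w).toNat * π.residueDegree w) := by
    intro w hw
    obtain ⟨h1, h2⟩ := hterm w hw
    rw [h1, h2, ENat.toNat_mul, mul_assoc]
  rw [finsum_mem_congr rfl hterm', ← mul_finsum_mem, finsum_fibLen_mul_residueDegree π g₀, hrank]

end Groth.Agent.Lib.Helper18.Push
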