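import Mathlib
import Groth.Prelude.Def_Cyc
import Groth.Agent.Lib.Helper18.Push.SubPush

/-!
# Proper pushforward of a principal divisor at an arbitrary point: the norm formula
-/

set_option autoImplicit false
universe u
open AlgebraicGeometry CategoryTheory IsLocalRing

namespace Groth.Agent.Lib.Helper18.Push

open Groth.Agent.Lib.Helper18.CycMap Groth.Agent.Lib.Helper18.CycDiv

variable {W W' X Y : Scheme.{u}}

theorem normGen_congr_hom {F G : W ⟶ Y} (h : F = G) (w : W) (f : W.residueField w) :
    HEq (Cyc.normGen F w f) (Cyc.normGen G w f) := by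
  subst h
  rfl

theorem normGen_congr_point (p : X ⟶ Y) {a b : X} (h : a = b) (f : X.residueField b) :
    HEq (Cyc.normGen p a (h.symm ▸ f)) (Cyc.normGen p b f) := by
  subst h
  rfl

theorem divFun_heq (δ : Y → ℤ) {a b : Y} (h : a = b) (g : Y.residueField a)
    (g' : Y.residueField b) (hg : HEq g g') : Cyc.divFun δ a g = Cyc.divFun δ b g' := by
  subst h
  rw [eq_of_heq hg]

theorem normGen_comp_left (i : W ⟶ X) (p : X ⟶ Y) (w : W)
    (hi : Function.Bijective (i.residueFieldMap w).hom) (f : X.residueField (i w)) :
    Cyc.normGen (i ≫ p) w ((i.residueFieldMap w).hom f) = Cyc.normGen p (i w) f := by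
  unfold Cyc.normGen
  letI a1 : Algebra (Y.residueField (p (i w))) (X.residueField (i w)) :=
    (p.residueFieldMap (i w)).hom.toAlgebra
  letI a2 : Algebra (Y.residueField (p (i w))) (W.residueField w) :=
    ((i ≫ p).residueFieldMap w).hom.toAlgebra
  let e : X.residueField (i w) ≃ₐ[Y.residueField (p (i w))] W.residueField w :=
    AlgEquiv.ofBijective
      { toRingHom := (i.residueFieldMap w).hom
        commutes' := by
          intro r
          show (i.residueFieldMap w).hom ((p.residueFieldMap (i w)).hom r) =
            ((i ≫ p).residueFieldMap w).hom r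
          rw [Scheme.residueFieldMap_comp]
          rfl } hi
  exact Algebra.norm_eq_of_algEquiv e f

theorem normGen_comp_right (q : W ⟶ W') (j : W' ⟶ Y) (w : W)
    (hj : Function.Bijective (j.residueFieldMap (q w)).hom) (f : W.residueField w) :
    (j.residueFieldMap (q w)).hom (Cyc.normGen (q ≫ j) w f) = Cyc.normGen q w f := by
  unfold Cyc.normGen
  letI a1 : Algebra (W'.residueField (q w)) (W.residueField w) :=
    (q.residueFieldMap w).hom.toAlgebra
  letI a2 : Algebra (Y.residueField (j (q w))) (W.residueField w) :=
    ((q ≫ j).residueFieldMap w).hom.toAlgebra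
  refine Algebra.norm_eq_of_ringEquiv (RingEquiv.ofBijective (j.residueFieldMap (q w)).hom hj)
    ?_ f
  ext r
  show (q.residueFieldMap w).hom ((j.residueFieldMap (q w)).hom r) =
    ((q ≫ j).residueFieldMap w).hom r
  rw [Scheme.residueFieldMap_comp]
  rfl

/-- In a commutative square whose vertical maps induce isomorphisms of residue fields, norms
correspond. -/
theorem normGen_square (i : W ⟶ X) (j : W' ⟶ Y) (p : X ⟶ Y) (q : W ⟶ W')
    (hq : q ≫ j = i ≫ p) (w : W)
    (hi : Function.Bijective (i.residueFieldMap w).hom)
    (hj : Function.Bijective (j.residueFieldMap (q w)).hom)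
    (f : X.residueField (i w)) (g : Y.residueField (j (q w)))
    (hg : (j.residueFieldMap (q w)).hom g = Cyc.normGen q w ((i.residueFieldMap w).hom f)) :
    HEq g (Cyc.normGen p (i w) f) := by
  have h1 : g = Cyc.normGen (q ≫ j) w ((i.residueFieldMap w).hom f) := by
    apply hj.1
    rw [hg, normGen_comp_right q j w hj]
  rw [h1, ← normGen_comp_left i p w hi f]
  exact normGen_congr_hom hq w _

/-- Pushforward of the principal divisor of a function on an integral closed subscheme, in terms
of a commutative square of closed immersions: the equidimensional case, with the norm. -/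
theorem push_divFun_of_square_norm [IsLocallyNoetherian X] [IsLocallyNoetherian Y] [IsIntegral W]
    [IsIntegral W'] (i : W ⟶ X) (j : W' ⟶ Y) [IsClosedImmersion i] [IsClosedImmersion j]
    (p : X ⟶ Y) [IsProper p] (q : W ⟶ W') (hq : q ≫ j = i ≫ p)
    (hdom : q (genericPoint W) = genericPoint W')
    (δX : X → ℤ) (δY : Y → ℤ) (hδX : Cyc.IsDimFun X δX) (hδY : Cyc.IsDimFun Y δY)
    (hδ : Cyc.DeltaCompat p δX δY)
    (f : X.residueField (i (genericPoint W))) (hf : f ≠ 0)
    (hn : δX (i (genericPoint W)) = δY (p (i (genericPoint W)))) (y : Y) :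
    ∑ᶠ x ∈ p ⁻¹' {y}, Cyc.divFun δX (i (genericPoint W)) f x *
        ((AlgebraicCycle.mapCoeff p δX δY x : ℕ) : ℤ) =
      Cyc.divFun δY (p (i (genericPoint W))) (Cyc.normGen p (i (genericPoint W)) f) y := by
  classical
  haveI : IsProper (q ≫ j) := by rw [hq]; infer_instance
  haveI : IsProper q := IsProper.of_comp q j
  haveI : IsLocallyNoetherian W := LocallyOfFiniteType.isLocallyNoetherian i
  haveI : IsLocallyNoetherian W' := LocallyOfFiniteType.isLocallyNoetherian j
  have hδW := isDimFun_comp_of_isClosedImmersion i δX hδX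
  have hδW' := isDimFun_comp_of_isClosedImmersion j δY hδY
  have hδq := deltaCompat_square i j p q hq δX δY hδ
  have hsq : j (q (genericPoint W)) = p (i (genericPoint W)) := apply_square i j p q hq _
  set fW : W.residueField (genericPoint W) := (i.residueFieldMap (genericPoint W)).hom f with hfW
  have hfW0 : fW ≠ 0 := by
    rw [hfW, Ne, map_eq_zero_iff _ (i.residueFieldMap (genericPoint W)).hom.injective]
    exact hf
  have hcl : IsClosed (Set.range i) := i.isClosedEmbedding.isClosed_range
  have hclj : IsClosed (Set.range j) := j.isClosedEmbedding.isClosed_range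
  have hT : ∀ x, x ∉ Set.range i → Cyc.divFun δX (i (genericPoint W)) f x *
      ((AlgebraicCycle.mapCoeff p δX δY x : ℕ) : ℤ) = 0 := by
    intro x hx
    have : Cyc.divFun δX (i (genericPoint W)) f x = 0 := by
      by_contra hne
      exact hx ((specializes_of_divFun_ne_zero δX _ f x hne).mem_closed hcl ⟨_, rfl⟩)
    rw [this, zero_mul]
  have hTW : ∀ w : W, Cyc.divFun δX (i (genericPoint W)) f (i w) *
      ((AlgebraicCycle.mapCoeff p δX δY (i w) : ℕ) : ℤ) =
      Cyc.divFun (fun w => δX (i w)) (genericPoint W) fW w *
        ((AlgebraicCycle.mapCoeff q (fun w => δX (i w)) (fun w' => δY (j w')) w : ℕ) : ℤ) := by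
    intro w
    rw [divFun_preimmersion i δX (genericPoint W) f w, mapCoeff_square i j p q hq δX δY w]
  have hn' : (fun w => δX (i w)) (genericPoint W) = (fun w' => δY (j w')) (genericPoint W') := by
    show δX (i (genericPoint W)) = δY (j (genericPoint W'))
    rw [← hdom, hsq]
    exact hn
  have main := push_divFun_eq_divFun_norm (fun w => δX (i w)) (fun w' => δY (j w')) hδW hδW' q
    hδq hdom hn' fW hfW0
  have hbi := residueFieldMap_bijective_of_surjective i (genericPoint W)
    (i.stalkMap_surjective _)
  have hbj := residueFieldMap_bijective_of_surjective j (q (genericPoint W))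
    (j.stalkMap_surjective _)
  obtain ⟨g, hg⟩ := hbj.2 (Cyc.normGen q (genericPoint W) fW)
  have hheq : HEq g (Cyc.normGen p (i (genericPoint W)) f) :=
    normGen_square i j p q hq (genericPoint W) hbi hbj f g hg
  rw [← divFun_heq δY hsq g _ hheq]
  by_cases hy : y ∈ Set.range j
  · obtain ⟨y', rfl⟩ := hy
    rw [finsum_fibre_square i j p q hq _ hT y', divFun_preimmersion j δY _ g y', hg, ← main y']
    exact finsum_mem_congr rfl fun w _ => hTW w
  · rw [finsum_fibre_square_zero i j p q hq _ hT y hy]
    symm
    by_contra hne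
    exact hy ((specializes_of_divFun_ne_zero δY _ g y hne).mem_closed hclj ⟨_, rfl⟩)

open Scheme.IdealSheafData Groth.Agent.Lib.Helper24.SubDim in
/-- **Pushforward of a principal divisor along a proper morphism, equidimensional case**:
`p_* div_ξ(f) = div_{p ξ}(Nm f)` when `δX ξ = δY (p ξ)`. -/
theorem push_divFun_eq_normGen [IsLocallyNoetherian X] [IsLocallyNoetherian Y] (p : X ⟶ Y)
    [IsProper p] (δX : X → ℤ) (δY : Y → ℤ) (hδX : Cyc.IsDimFun X δX) (hδY : Cyc.IsDimFun Y δY)
    (hδ : Cyc.DeltaCompat p δX δY) (ξ : X) (f : X.residueField ξ) (hf : f ≠ 0)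
    (hn : δX ξ = δY (p ξ)) (y : Y) :
    ∑ᶠ x ∈ p ⁻¹' {y}, Cyc.divFun δX ξ f x * ((AlgebraicCycle.mapCoeff p δX δY x : ℕ) : ℤ) =
      Cyc.divFun δY (p ξ) (Cyc.normGen p ξ f) y := by
  classical
  let Zc : TopologicalSpace.Closeds X := ⟨closure {ξ}, isClosed_closure⟩
  have hirr : IsIrreducible (Zc : Set X) := isIrreducible_singleton.closure
  haveI := isIntegral_vanishingIdeal_subscheme Zc hirr
  let Z'c : TopologicalSpace.Closeds Y := TopologicalSpace.Closeds.closure (p '' (Zc : Set X))
  have hirr' : IsIrreducible (Z'c : Set Y) :=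
    (hirr.image p p.continuous.continuousOn).closure
  haveI := isIntegral_vanishingIdeal_subscheme Z'c hirr'
  have H := (map_vanishingIdeal p Zc).ge
  have hq := subschemeMap_subschemeι (vanishingIdeal Zc) (vanishingIdeal Z'c) p H
  set q := (vanishingIdeal Zc).subschemeMap (vanishingIdeal Z'c) p H with hqdef
  set i := (vanishingIdeal Zc).subschemeι with hi
  set j := (vanishingIdeal Z'c).subschemeι with hj
  have hξW : i (genericPoint (vanishingIdeal Zc).subscheme) = ξ := by
    have h1 : closure ({i (genericPoint (vanishingIdeal Zc).subscheme)} : Set X) =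
        closure {ξ} := closure_generic_vanishingIdeal Zc
    have h2 : i (genericPoint (vanishingIdeal Zc).subscheme) ⤳ ξ := by
      rw [specializes_iff_mem_closure, h1]
      exact subset_closure rfl
    have h3 : ξ ⤳ i (genericPoint (vanishingIdeal Zc).subscheme) := by
      rw [specializes_iff_mem_closure, ← h1]
      exact subset_closure rfl
    exact (h2.antisymm h3).eq
  have hηW' : j (genericPoint (vanishingIdeal Z'c).subscheme) = p ξ := by
    have h1 : closure ({j (genericPoint (vanishingIdeal Z'c).subscheme)} : Set Y) =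
        closure {p ξ} := by
      rw [closure_generic_vanishingIdeal Z'c]
      show closure (p '' closure {ξ}) = closure {p ξ}
      rw [closure_image_closure p.continuous, Set.image_singleton]
    have h2 : j (genericPoint (vanishingIdeal Z'c).subscheme) ⤳ p ξ := by
      rw [specializes_iff_mem_closure, h1]
      exact subset_closure rfl
    have h3 : p ξ ⤳ j (genericPoint (vanishingIdeal Z'c).subscheme) := by
      rw [specializes_iff_mem_closure, ← h1]
      exact subset_closure rfl
    exact (h2.antisymm h3).eq
  have hsq : j (q (genericPoint (vanishingIdeal Zc).subscheme)) = p ξ := by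
    rw [apply_square i j p q hq, hξW]
  have hdom : q (genericPoint (vanishingIdeal Zc).subscheme) =
      genericPoint (vanishingIdeal Z'c).subscheme := by
    apply j.isClosedEmbedding.injective
    rw [hsq, hηW']
  have hn' : δX (i (genericPoint (vanishingIdeal Zc).subscheme)) =
      δY (p (i (genericPoint (vanishingIdeal Zc).subscheme))) := by
    rw [hξW]
    exact hn
  have key := push_divFun_of_square_norm i j p q hq hdom δX δY hδX hδY hδ
    (hξW.symm ▸ f) (cast_ne_zero hξW.symm f hf) hn' y
  have e1 : Cyc.divFun δX (i (genericPoint (vanishingIdeal Zc).subscheme)) (hξW.symm ▸ f) =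
      Cyc.divFun δX ξ f := divFun_cast δX hξW.symm f
  have e2 : Cyc.divFun δY (p (i (genericPoint (vanishingIdeal Zc).subscheme)))
      (Cyc.normGen p (i (genericPoint (vanishingIdeal Zc).subscheme)) (hξW.symm ▸ f)) =
      Cyc.divFun δY (p ξ) (Cyc.normGen p ξ f) :=
    divFun_heq δY (congrArg (fun t => p t) hξW) _ _ (normGen_congr_point p hξW f)
  rw [e1, e2] at key
  exact key

end Groth.Agent.Lib.Helper18.Push
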