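import Mathlib
import Groth.Prelude.Def_Cyc
import Groth.Agent.Lib.Helper18.Push.SubPush
import Groth.Agent.Lib.Helper18.Cyc.DivFinite2

/-!
# Proper pushforward preserves rational equivalence
-/

set_option autoImplicit false
universe u
open AlgebraicGeometry CategoryTheory IsLocalRing

namespace Groth.Agent.Lib.Helper18.Push

open Groth.Agent.Lib.Helper18.CycMap Groth.Agent.Lib.Helper18.CycDiv

variable {X Y : Scheme.{u}}

/-- Exchange a `finsum` over a set with a finite sum. -/
theorem finsum_mem_finset_sum {α β M : Type*} [AddCommMonoid M] (S : Set α) (s : Finset β)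
    (F : β → α → M) (h : ∀ b ∈ s, (S ∩ Function.support (F b)).Finite) :
    ∑ᶠ x ∈ S, ∑ b ∈ s, F b x = ∑ b ∈ s, ∑ᶠ x ∈ S, F b x := by
  classical
  induction s using Finset.induction_on with
  | empty => simp
  | insert b s hb ih =>
    have h1 : (S ∩ Function.support (F b)).Finite := h b (Finset.mem_insert_self _ _)
    have h2 : (S ∩ Function.support (fun x => ∑ b ∈ s, F b x)).Finite := by
      refine (s.finite_toSet.biUnion (fun b hb' => h b (Finset.mem_insert_of_mem hb'))).subset ?_
      rintro x ⟨hxS, hx⟩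
      obtain ⟨b', hb', hne⟩ := Finset.exists_ne_zero_of_sum_ne_zero hx
      exact Set.mem_biUnion hb' ⟨hxS, hne⟩
    simp only [Finset.sum_insert hb]
    rw [finsum_mem_add_distrib' h1 h2, ih (fun b hb' => h b (Finset.mem_insert_of_mem hb'))]

/-- A locally finite family of irreducible closed sets meets a compact set only finitely often. -/
theorem finite_closure_inter_compact {ι : Type*} (ξ : ι → X)
    (hlf : ∀ x : X, ∃ U : Set X, IsOpen U ∧ x ∈ U ∧ {i | (closure {ξ i} ∩ U).Nonempty}.Finite)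
    {K : Set X} (hK : IsCompact K) : {i | (closure {ξ i} ∩ K).Nonempty}.Finite := by
  choose U hUo hxU hfin using hlf
  obtain ⟨t, ht⟩ := hK.elim_finite_subcover (fun x => U x) hUo
    (fun x _ => Set.mem_iUnion.2 ⟨x, hxU x⟩)
  refine (t.finite_toSet.biUnion (fun x _ => hfin x)).subset ?_
  rintro i ⟨z, hz, hzK⟩
  obtain ⟨x, hx, hzx⟩ := Set.mem_iUnion₂.1 (ht hzK)
  exact Set.mem_biUnion hx ⟨z, hz, hzx⟩

theorem locallyFiniteSupport_divFun [IsLocallyNoetherian X] (δ : X → ℤ) (ξ : X)
    (f : X.residueField ξ) (hf : f ≠ 0) : LocallyFiniteSupport (Cyc.divFun δ ξ f) := by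
  intro z
  obtain ⟨_, ⟨W, hW : IsAffineOpen W, rfl⟩, hzW, -⟩ :=
    X.isBasis_affineOpens.exists_subset_of_mem_open (Set.mem_univ z) isOpen_univ
  exact ⟨W, W.isOpen.mem_nhds hzW, finite_inter_support_divFun'' δ ξ f hf W hW⟩

/-- **Proper pushforward preserves rational equivalence to zero.** -/
theorem ratEquivZero_map [IsLocallyNoetherian X] [IsLocallyNoetherian Y] (p : X ⟶ Y) [IsProper p]
    (δX : X → ℤ) (δY : Y → ℤ) (hδX : Cyc.IsDimFun X δX) (hδY : Cyc.IsDimFun Y δY)
    (hδ : Cyc.DeltaCompat p δX δY) (k : ℤ) (γ : AlgebraicCycle X ℤ)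
    (h : Cyc.RatEquivZero δX k γ) :
    Cyc.RatEquivZero δY k (AlgebraicCycle.map p δX δY γ) := by
  classical
  obtain ⟨ι, ξ, f, hξk, hf0, hlf, hsum⟩ := h
  choose g hg0 hg using fun i => exists_push_divFun p δX δY hδX hδY hδ (ξ i) (f i) (hf0 i)
  have hK : ∀ y : Y, ∃ V : Y.Opens, y ∈ V ∧ IsCompact (p ⁻¹ᵁ V : Set X) := by
    intro y
    obtain ⟨_, ⟨V, hV : IsAffineOpen V, rfl⟩, hyV, -⟩ :=
      Y.isBasis_affineOpens.exists_subset_of_mem_open (Set.mem_univ y) isOpen_univ
    exact ⟨V, hyV, QuasiCompact.isCompact_preimage (f := p) _ V.isOpen hV.isCompact⟩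
  have hI : ∀ V : Y.Opens, IsCompact (p ⁻¹ᵁ V : Set X) → {i | p (ξ i) ∈ V}.Finite := by
    intro V hc
    refine (finite_closure_inter_compact ξ hlf hc).subset ?_
    intro i hi
    exact ⟨ξ i, subset_closure rfl, hi⟩
  refine ⟨↥{i : ι | δY (p (ξ i)) = k + 1}, fun i => p (ξ i.1), fun i => g i.1, fun i => i.2,
    fun i => hg0 i.1, ?_, ?_⟩
  · intro y
    obtain ⟨V, hyV, hc⟩ := hK y
    refine ⟨V, V.isOpen, hyV, ?_⟩
    refine ((hI V hc).preimage Subtype.val_injective.injOn).subset ?_
    rintro i ⟨z, hz, hzV⟩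
    show p (ξ i.1) ∈ V
    exact (specializes_iff_mem_closure.2 hz).mem_open V.isOpen hzV
  · intro y
    obtain ⟨V, hyV, hc⟩ := hK y
    have hfinI := hI V hc
    simp only [AlgebraicCycle.map, Function.locallyFinsupp.map_apply]
    -- the relevant finite set of indices
    have hsupp : ∀ x ∈ p ⁻¹' {y}, ∀ i, Cyc.divFun δX (ξ i) (f i) x ≠ 0 → i ∈ hfinI.toFinset := by
      intro x hx i hne
      rw [Set.Finite.mem_toFinset]
      have h1 : ξ i ⤳ x := specializes_of_divFun_ne_zero δX _ _ x hne
      have h2 : p (ξ i) ⤳ y := by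
        have := h1.map p.continuous
        rwa [show p x = y from hx] at this
      exact h2.mem_open V.isOpen hyV
    have hA : ∀ x ∈ p ⁻¹' {y}, γ x * ((AlgebraicCycle.mapCoeff p δX δY x : ℕ) : ℤ) =
        ∑ i ∈ hfinI.toFinset, Cyc.divFun δX (ξ i) (f i) x *
          ((AlgebraicCycle.mapCoeff p δX δY x : ℕ) : ℤ) := by
      intro x hx
      rw [hsum x, finsum_eq_sum_of_support_subset _ (s := hfinI.toFinset), Finset.sum_mul]
      intro i hi
      exact hsupp x hx i hi
    rw [finsum_mem_congr rfl hA, finsum_mem_finset_sum]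
    swap
    · intro i _
      have hfin := (locallyFiniteSupport_divFun δX (ξ i) (f i) (hf0 i)).finite_inter_support_of_isCompact
        hc
      refine hfin.subset ?_
      rintro x ⟨hx, hne⟩
      refine ⟨?_, ?_⟩
      · show p x ∈ V
        rw [show p x = y from hx]
        exact hyV
      · intro h0
        apply hne
        show Cyc.divFun δX (ξ i) (f i) x * _ = 0
        rw [h0, zero_mul]
    rw [Finset.sum_congr rfl (fun i _ => hg i y)]
    -- the right-hand side
    rw [finsum_set_coe_eq_finsum_mem (f := fun i => Cyc.divFun δY (p (ξ i)) (g i) y)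
      {i : ι | δY (p (ξ i)) = k + 1}, finsum_mem_def,
      finsum_eq_sum_of_support_subset _ (s := hfinI.toFinset)]
    · refine Finset.sum_congr rfl (fun i _ => ?_)
      rw [Set.indicator_apply]
      by_cases hcase : δY (p (ξ i)) = k + 1
      · rw [if_pos (show i ∈ {i : ι | δY (p (ξ i)) = k + 1} from hcase),
          if_pos ((hξk i).trans hcase.symm)]
      · rw [if_neg (show i ∉ {i : ι | δY (p (ξ i)) = k + 1} from hcase),
          if_neg (fun h => hcase (h.symm.trans (hξk i)))]
    · intro i hi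
      rw [Set.Finite.coe_toFinset]
      have hne : Cyc.divFun δY (p (ξ i)) (g i) y ≠ 0 := by
        intro h0
        apply hi
        rw [Set.indicator_apply]
        split_ifs
        · exact h0
        · rfl
      exact (specializes_of_divFun_ne_zero δY _ _ y hne).mem_open V.isOpen hyV

theorem finsum_mem_sub_distrib' {α G : Type*} [AddCommGroup G] {S : Set α} {a b : α → G}
    (ha : (S ∩ Function.support a).Finite) (hb : (S ∩ Function.support b).Finite) :
    ∑ᶠ x ∈ S, (a x - b x) = ∑ᶠ x ∈ S, a x - ∑ᶠ x ∈ S, b x := by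
  have hab : (S ∩ Function.support (fun x => a x - b x)).Finite := by
    refine (ha.union hb).subset ?_
    rintro x ⟨hxS, hx⟩
    by_cases h : a x = 0
    · right
      refine ⟨hxS, fun hb0 => hx ?_⟩
      show a x - b x = 0
      rw [h, hb0, sub_zero]
    · left
      exact ⟨hxS, h⟩
  have : ∑ᶠ x ∈ S, a x = ∑ᶠ x ∈ S, ((a x - b x) + b x) := by simp
  rw [this, finsum_mem_add_distrib' hab hb, add_sub_cancel_right]

/-- The pushforward of cycles is additive (subtraction form). -/
theorem map_sub (p : X ⟶ Y) [QuasiCompact p] (δX : X → ℤ) (δY : Y → ℤ)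
    (α β : AlgebraicCycle X ℤ) :
    AlgebraicCycle.map p δX δY (α - β) =
      AlgebraicCycle.map p δX δY α - AlgebraicCycle.map p δX δY β := by
  ext y
  simp only [AlgebraicCycle.map, Function.locallyFinsupp.map_apply,
    Function.locallyFinsuppWithin.coe_sub, Pi.sub_apply, sub_mul]
  rw [finsum_mem_sub_distrib']
  · refine (finite_preimage_inter_support p α y).subset ?_
    rintro x ⟨hx, hne⟩
    refine ⟨hx, fun h0 => hne ?_⟩
    show α x * _ = 0
    rw [h0, zero_mul]
  · refine (finite_preimage_inter_support p β y).subset ?_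
    rintro x ⟨hx, hne⟩
    refine ⟨hx, fun h0 => hne ?_⟩
    show β x * _ = 0
    rw [h0, zero_mul]

end Groth.Agent.Lib.Helper18.Push
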