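import Mathlib
import Groth.Prelude.Def_Cyc
import Groth.Prelude.Def_W4stkchowintpicEnv
import Groth.Agent.Lib.Helper18.Push.PushNorm
import Groth.Agent.Lib.Helper18.Push.PushRat
import Groth.Agent.Lib.Helper9.CDec

/-!
# Envelopes: the exact sequence `CH_k(Y ×_X Y) → CH_k(Y) → CH_k(X) → 0`
-/

set_option autoImplicit false
universe u
open AlgebraicGeometry CategoryTheory IsLocalRing Limits

namespace Groth.Agent.Lib.Helper18.Push

open Groth.Agent.Lib.Helper18.CycMap Groth.Agent.Lib.Helper18.CycDiv

variable {X Y : Scheme.{u}}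

/-- The image of the closed point under a lift of a residue field point is a point with trivial
residue field extension. -/
theorem section_point (f : Y ⟶ X) (x : X) (l : Spec (X.residueField x) ⟶ Y)
    (hl : l ≫ f = X.fromSpecResidueField x) :
    f (l (IsLocalRing.closedPoint (X.residueField x))) = x ∧
      Function.Surjective
        (f.residueFieldMap (l (IsLocalRing.closedPoint (X.residueField x)))).hom := by
  have key : ∀ (x' : X) (l' : Spec (X.residueField x') ⟶ Y) (y : Y)
      (ψ : Y.residueField y ⟶ X.residueField x'),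
      Spec.map ψ ≫ Y.fromSpecResidueField y = l' → l' ≫ f = X.fromSpecResidueField x' →
      f y = x' → Function.Surjective (f.residueFieldMap y).hom := by
    intro x' l' y ψ h1 h2 h3
    subst h3
    rw [← h1, Category.assoc, ← Scheme.Hom.SpecMap_residueFieldMap_fromSpecResidueField,
      ← Spec.map_comp_assoc] at h2
    have h' : Spec.map (f.residueFieldMap y ≫ ψ) = 𝟙 _ := by
      rw [← cancel_mono (X.fromSpecResidueField (f y))]
      simpa using h2
    have h'' : f.residueFieldMap y ≫ ψ = 𝟙 _ := by
      apply Spec.map_injective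
      simpa using h'
    intro t
    refine ⟨ψ.hom t, ?_⟩
    apply ψ.hom.injective
    exact congr($(h'') (ψ.hom t))
  have hb' := Scheme.descResidueField_stalkClosedPointTo_fromSpecResidueField
    (X.residueField x) Y l
  let ψ₀ : Y.residueField (l (IsLocalRing.closedPoint (X.residueField x))) ⟶
      .of (X.residueField x) :=
    Scheme.descResidueField (K := X.residueField x) (Scheme.stalkClosedPointTo l)
  have hpt : f (l (IsLocalRing.closedPoint (X.residueField x))) = x := by
    have := congr($(hl).base (IsLocalRing.closedPoint (X.residueField x)))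
    simpa using this
  exact ⟨hpt, key x l _ ψ₀ hb' hl hpt⟩

/-- At a point with trivial residue field extension the dimension functions agree. -/
theorem delta_eq_of_surjective (f : Y ⟶ X) (δY : Y → ℤ) (δ : X → ℤ)
    (hδ : Cyc.DeltaCompat f δY δ) (y : Y)
    (hs : Function.Surjective (f.residueFieldMap y).hom) : δY y = δ (f y) := by
  obtain ⟨n, hn, hδn⟩ := hδ y
  letI := (f.residueFieldMap y).hom.toAlgebra
  haveI : Algebra.IsAlgebraic (X.residueField (f y)) (Y.residueField y) :=
    haveI : Algebra.IsIntegral (X.residueField (f y)) (Y.residueField y) :=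
      Algebra.isIntegral_of_surjective hs
    inferInstance
  have h0 : Algebra.trdeg (X.residueField (f y)) (Y.residueField y) = 0 :=
    _root_.trdeg_eq_zero
  have hn0 : n = 0 := by
    have : (n : Cardinal) = 0 := by rw [← hn]; exact h0
    exact_mod_cast this
  rw [hδn, hn0]
  simp

/-- The norm for a trivial residue field extension is the inverse of the residue field map. -/
theorem normGen_of_surjective (f : Y ⟶ X) (y : Y)
    (hs : Function.Surjective (f.residueFieldMap y).hom) (g : X.residueField (f y)) :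
    Cyc.normGen f y ((f.residueFieldMap y).hom g) = g := by
  have h1 : f.residueDegree y = 1 := residueDegree_eq_one_of_surjective f y hs
  unfold Cyc.normGen
  letI := (f.residueFieldMap y).hom.toAlgebra
  have := Algebra.norm_algebraMap (R := X.residueField (f y)) (S := Y.residueField y) g
  unfold Scheme.Hom.residueDegree at h1
  rw [h1, pow_one] at this
  exact this

/-- Pushforward of a principal divisor from a point with trivial residue field extension. -/
theorem push_divFun_split [IsLocallyNoetherian X] [IsLocallyNoetherian Y] (f : Y ⟶ X)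
    [IsProper f] (δY : Y → ℤ) (δ : X → ℤ) (hδY : Cyc.IsDimFun Y δY) (hδX : Cyc.IsDimFun X δ)
    (hδ : Cyc.DeltaCompat f δY δ) (η : Y)
    (hs : Function.Surjective (f.residueFieldMap η).hom) (g : X.residueField (f η)) (hg : g ≠ 0)
    (x : X) :
    ∑ᶠ y ∈ f ⁻¹' {x}, Cyc.divFun δY η ((f.residueFieldMap η).hom g) y *
        ((AlgebraicCycle.mapCoeff f δY δ y : ℕ) : ℤ) = Cyc.divFun δ (f η) g x := by
  have hne : (f.residueFieldMap η).hom g ≠ 0 := by
    rw [Ne, map_eq_zero_iff _ (f.residueFieldMap η).hom.injective]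
    exact hg
  rw [push_divFun_eq_normGen f δY δ hδY hδX hδ η _ hne (delta_eq_of_surjective f δY δ hδ η hs) x,
    normGen_of_surjective f η hs g]

/-- Pushforward of a locally finite sum of principal divisors: exchange of the two sums. -/
theorem map_finsum_divFun [IsLocallyNoetherian Y] (f : Y ⟶ X) [QuasiCompact f] (δY : Y → ℤ)
    (δ : X → ℤ) {ι : Type*} (η : ι → Y) (h : (i : ι) → Y.residueField (η i))
    (hh0 : ∀ i, h i ≠ 0)
    (hlf : ∀ y : Y, ∃ U : Set Y, IsOpen U ∧ y ∈ U ∧ {i | (closure {η i} ∩ U).Nonempty}.Finite)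
    (γ : AlgebraicCycle Y ℤ) (hsum : ∀ y, γ y = ∑ᶠ i, Cyc.divFun δY (η i) (h i) y) (x : X) :
    (AlgebraicCycle.map f δY δ γ) x =
      ∑ᶠ i, ∑ᶠ y ∈ f ⁻¹' {x}, Cyc.divFun δY (η i) (h i) y *
        ((AlgebraicCycle.mapCoeff f δY δ y : ℕ) : ℤ) := by
  classical
  obtain ⟨_, ⟨V, hV : IsAffineOpen V, rfl⟩, hxV, -⟩ :=
    X.isBasis_affineOpens.exists_subset_of_mem_open (Set.mem_univ x) isOpen_univ
  have hc : IsCompact (f ⁻¹ᵁ V : Set Y) :=
    QuasiCompact.isCompact_preimage (f := f) _ V.isOpen hV.isCompact
  have hfinI : {i | f (η i) ∈ V}.Finite := by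
    refine (finite_closure_inter_compact η hlf hc).subset ?_
    intro i hi
    exact ⟨η i, subset_closure rfl, hi⟩
  simp only [AlgebraicCycle.map, Function.locallyFinsupp.map_apply]
  have hsupp : ∀ y ∈ f ⁻¹' {x}, ∀ i, Cyc.divFun δY (η i) (h i) y ≠ 0 → i ∈ hfinI.toFinset := by
    intro y hy i hne
    rw [Set.Finite.mem_toFinset]
    have h1 : η i ⤳ y := specializes_of_divFun_ne_zero δY _ _ y hne
    have h2 : f (η i) ⤳ x := by
      have := h1.map f.continuous
      rwa [show f y = x from hy] at this
    exact h2.mem_open V.isOpen hxV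
  have hA : ∀ y ∈ f ⁻¹' {x}, γ y * ((AlgebraicCycle.mapCoeff f δY δ y : ℕ) : ℤ) =
      ∑ i ∈ hfinI.toFinset, Cyc.divFun δY (η i) (h i) y *
        ((AlgebraicCycle.mapCoeff f δY δ y : ℕ) : ℤ) := by
    intro y hy
    rw [hsum y, finsum_eq_sum_of_support_subset _ (s := hfinI.toFinset), Finset.sum_mul]
    intro i hi
    exact hsupp y hy i hi
  rw [finsum_mem_congr rfl hA, finsum_mem_finset_sum]
  swap
  · intro i _
    have hfin := (locallyFiniteSupport_divFun δY (η i) (h i)
      (hh0 i)).finite_inter_support_of_isCompact hc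
    refine hfin.subset ?_
    rintro y ⟨hy, hne⟩
    refine ⟨?_, ?_⟩
    · show f y ∈ V
      rw [show f y = x from hy]
      exact hxV
    · intro h0
      apply hne
      show Cyc.divFun δY (η i) (h i) y * _ = 0
      rw [h0, zero_mul]
  rw [finsum_eq_sum_of_support_subset _ (s := hfinI.toFinset)]
  intro i hi
  rw [Set.Finite.coe_toFinset]
  obtain ⟨y, hy, hne⟩ : ∃ y ∈ f ⁻¹' {x}, Cyc.divFun δY (η i) (h i) y *
      ((AlgebraicCycle.mapCoeff f δY δ y : ℕ) : ℤ) ≠ 0 := by
    by_contra hcon
    push_neg at hcon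
    exact hi (finsum_mem_eq_zero_of_forall_eq_zero hcon)
  have hne' : Cyc.divFun δY (η i) (h i) y ≠ 0 := fun h0 => hne (by rw [h0, zero_mul])
  have := hsupp y hy i hne'
  rwa [Set.Finite.mem_toFinset] at this

section lift
variable {P : Scheme.{u}} (π : P ⟶ Y) (g : Y → P) (hg : ∀ y, π (g y) = y)

/-- The lift of a cycle along a set-theoretic section. -/
noncomputable def liftCycle (α : AlgebraicCycle Y ℤ) : AlgebraicCycle P ℤ := by
  classical
  exact
  { toFun := fun z => if z = g (π z) then α (π z) else 0
    supportWithinDomain' := Set.subset_univ _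
    supportLocallyFiniteWithinDomain' := by
      intro z₀ _
      obtain ⟨W, hW, hfin⟩ := α.locallyFiniteSupport (π z₀)
      refine ⟨π ⁻¹' W, π.continuous.continuousAt hW, ?_⟩
      refine (hfin.image g).subset ?_
      rintro z ⟨hzW, hz⟩
      have hz' : (if z = g (π z) then α (π z) else 0) ≠ 0 := hz
      by_cases h : z = g (π z)
      · rw [if_pos h] at hz'
        exact ⟨π z, ⟨hzW, hz'⟩, h.symm⟩
      · rw [if_neg h] at hz'
        exact absurd rfl hz' }

open Classical in
theorem liftCycle_apply (α : AlgebraicCycle Y ℤ) (z : P) :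
    liftCycle π g α z = if z = g (π z) then α (π z) else 0 := rfl

include hg in
theorem liftCycle_section (α : AlgebraicCycle Y ℤ) (y : Y) : liftCycle π g α (g y) = α y := by
  classical
  rw [liftCycle_apply, if_pos (by rw [hg y]), hg y]

theorem liftCycle_ne_zero (α : AlgebraicCycle Y ℤ) (z : P) (hz : liftCycle π g α z ≠ 0) :
    z = g (π z) ∧ α (π z) ≠ 0 := by
  classical
  rw [liftCycle_apply] at hz
  by_cases h : z = g (π z)
  · rw [if_pos h] at hz
    exact ⟨h, hz⟩
  · rw [if_neg h] at hz
    exact absurd rfl hz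

include hg in
theorem map_liftCycle [QuasiCompact π] (δP : P → ℤ) (δY : Y → ℤ)
    (hδ : Cyc.DeltaCompat π δP δY)
    (hgs : ∀ y, Function.Surjective (π.residueFieldMap (g y)).hom) (α : AlgebraicCycle Y ℤ) :
    AlgebraicCycle.map π δP δY (liftCycle π g α) = α := by
  classical
  ext y
  simp only [AlgebraicCycle.map, Function.locallyFinsupp.map_apply]
  have hsingle : ∀ z ∈ π ⁻¹' {y}, z ≠ g y →
      liftCycle π g α z * ((AlgebraicCycle.mapCoeff π δP δY z : ℕ) : ℤ) = 0 := by
    intro z hz hne
    have hπz : π z = y := hz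
    have : liftCycle π g α z = 0 := by
      by_contra h0
      have := (liftCycle_ne_zero π g α z h0).1
      rw [hπz] at this
      exact hne this
    rw [this, zero_mul]
  rw [finsum_mem_def, finsum_eq_single _ (g y),
    Set.indicator_of_mem (show g y ∈ π ⁻¹' {y} from hg y)]
  · rw [liftCycle_section π g hg]
    unfold AlgebraicCycle.mapCoeff
    rw [if_pos (delta_eq_of_surjective π δP δY hδ (g y) (hgs y)),
      residueDegree_eq_one_of_surjective π (g y) (hgs y)]
    simp
  · intro z hne
    by_cases hz : z ∈ π ⁻¹' {y}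
    · rw [Set.indicator_of_mem hz]
      exact hsingle z hz hne
    · exact Set.indicator_of_notMem hz _

include hg in
theorem liftCycle_mem_Zk (δP : P → ℤ) (δY : Y → ℤ) (hδ : Cyc.DeltaCompat π δP δY)
    (hgs : ∀ y, Function.Surjective (π.residueFieldMap (g y)).hom) (k : ℤ)
    (α : AlgebraicCycle Y ℤ) (hα : α ∈ Cyc.Zk Y δY k) :
    liftCycle π g α ∈ Cyc.Zk P δP k := by
  intro z hz
  by_contra h0
  obtain ⟨h1, h2⟩ := liftCycle_ne_zero π g α z h0
  apply h2
  apply hα
  have e1 : δP (g (π z)) = δY (π (g (π z))) :=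
    delta_eq_of_surjective π δP δY hδ (g (π z)) (hgs (π z))
  rw [hg, ← h1] at e1
  rw [← e1]
  exact hz

end lift

/-- **Exactness for envelopes**: a cycle on `Y` whose pushforward to `X` is rationally
equivalent to zero is rationally equivalent to `p_*γ - q_*γ` for a cycle `γ` on `Y ×_X Y`. -/
theorem envelope_exact [IsLocallyNoetherian X] [IsLocallyNoetherian Y] (f : Y ⟶ X) [IsProper f]
    (hcd : Cyc.IsCompletelyDecomposed f) (δ : X → ℤ) (δY : Y → ℤ) (hδX : Cyc.IsDimFun X δ)
    (hδY : Cyc.IsDimFun Y δY) (hδ : Cyc.DeltaCompat f δY δ) (δ2 : ↥(pullback f f) → ℤ)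
    (hδ2 : Cyc.DeltaCompat (pullback.fst f f) δ2 δY) (k : ℤ) (β : AlgebraicCycle Y ℤ)
    (hβ : β ∈ Cyc.Zk Y δY k) (h0 : Cyc.RatEquivZero δ k (AlgebraicCycle.map f δY δ β)) :
    ∃ γ : AlgebraicCycle (pullback f f) ℤ, γ ∈ Cyc.Zk (pullback f f) δ2 k ∧
      Cyc.RatEquiv δY k β (AlgebraicCycle.map (pullback.fst f f) δ2 δY γ -
        AlgebraicCycle.map (pullback.snd f f) δ2 δY γ) := by
  classical
  -- lifts of residue field points
  choose l hl using Groth.Agent.Lib.Helper9.CDec.resLift_of_isCompletelyDecomposed f hcd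
  let s : X → Y := fun x => l x (IsLocalRing.closedPoint (X.residueField x))
  have hs : ∀ x, f (s x) = x := fun x => (section_point f x (l x) (hl x)).1
  have hss : ∀ x, Function.Surjective (f.residueFieldMap (s x)).hom :=
    fun x => (section_point f x (l x) (hl x)).2
  -- points of the fibre product
  let m : ∀ y : Y, Spec (Y.residueField y) ⟶ pullback f f := fun y =>
    pullback.lift (Y.fromSpecResidueField y) (Spec.map (f.residueFieldMap y) ≫ l (f y)) (by
      rw [Category.assoc, hl, Scheme.Hom.SpecMap_residueFieldMap_fromSpecResidueField])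
  let z : Y → ↥(pullback f f) := fun y => m y (IsLocalRing.closedPoint (Y.residueField y))
  have hz1 : ∀ y, pullback.fst f f (z y) = y := fun y =>
    (section_point (pullback.fst f f) y (m y) (pullback.lift_fst _ _ _)).1
  have hz1s : ∀ y, Function.Surjective ((pullback.fst f f).residueFieldMap (z y)).hom := fun y =>
    (section_point (pullback.fst f f) y (m y) (pullback.lift_fst _ _ _)).2
  have hz2 : ∀ y, pullback.snd f f (z y) = s (f y) := by
    intro y
    have h1 : m y ≫ pullback.snd f f = Spec.map (f.residueFieldMap y) ≫ l (f y) :=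
      pullback.lift_snd _ _ _
    have h2 := congr($(h1).base (IsLocalRing.closedPoint (Y.residueField y)))
    have h3 : (Spec.map (f.residueFieldMap y)) (IsLocalRing.closedPoint (Y.residueField y)) =
        IsLocalRing.closedPoint (X.residueField (f y)) := Subsingleton.elim _ _
    show pullback.snd f f (m y (IsLocalRing.closedPoint (Y.residueField y))) =
      l (f y) (IsLocalRing.closedPoint (X.residueField (f y)))
    rw [← h3]
    exact h2
  -- the family on `X` and its lift to `Y`
  obtain ⟨ι, ξ, h, hξk, hh0, hlf, hsum⟩ := h0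
  let η : ι → Y := fun i => s (ξ i)
  have hη : ∀ i, f (η i) = ξ i := fun i => hs (ξ i)
  let h₀ : (i : ι) → X.residueField (f (η i)) := fun i => (hη i).symm ▸ h i
  have hh₀ : ∀ i, h₀ i ≠ 0 := fun i => cast_ne_zero (hη i).symm (h i) (hh0 i)
  let h' : (i : ι) → Y.residueField (η i) := fun i => (f.residueFieldMap (η i)).hom (h₀ i)
  have hh' : ∀ i, h' i ≠ 0 := by
    intro i
    show (f.residueFieldMap (η i)).hom (h₀ i) ≠ 0
    rw [Ne, map_eq_zero_iff _ (f.residueFieldMap (η i)).hom.injective]
    exact hh₀ i
  have hηk : ∀ i, δY (η i) = k + 1 := by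
    intro i
    rw [delta_eq_of_surjective f δY δ hδ (η i) (hss (ξ i)), hη i]
    exact hξk i
  have hlfY : ∀ y : Y, ∃ U : Set Y, IsOpen U ∧ y ∈ U ∧
      {i | (closure {η i} ∩ U).Nonempty}.Finite := by
    intro y
    obtain ⟨U, hUo, hyU, hfin⟩ := hlf (f y)
    refine ⟨f ⁻¹' U, hUo.preimage f.continuous, hyU, hfin.subset ?_⟩
    rintro i ⟨t, ht, htU⟩
    refine ⟨f t, ?_, htU⟩
    have h1 : η i ⤳ t := specializes_iff_mem_closure.2 ht
    have h2 := h1.map f.continuous
    rw [hη i] at h2
    exact specializes_iff_mem_closure.1 h2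
  let β₁ : AlgebraicCycle Y ℤ :=
    { toFun := fun y => ∑ᶠ i, Cyc.divFun δY (η i) (h' i) y
      supportWithinDomain' := Set.subset_univ _
      supportLocallyFiniteWithinDomain' := fun y _ =>
        locallyFiniteSupport_finsum_divFun'' δY η h' hh' hlfY y }
  have hβ₁ : ∀ y, β₁ y = ∑ᶠ i, Cyc.divFun δY (η i) (h' i) y := fun _ => rfl
  have hR : Cyc.RatEquivZero δY k β₁ := ⟨ι, η, h', hηk, hh', hlfY, hβ₁⟩
  have hpush : AlgebraicCycle.map f δY δ β₁ = AlgebraicCycle.map f δY δ β := by
    ext x
    rw [map_finsum_divFun f δY δ η h' hh' hlfY β₁ hβ₁ x, hsum x]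
    refine finsum_congr fun i => ?_
    rw [push_divFun_split f δY δ hδY hδX hδ (η i) (hss (ξ i)) (h₀ i) (hh₀ i) x]
    exact congrFun (divFun_cast δ (hη i).symm (h i)) x
  -- the corrected cycle
  have hβ₁k : β₁ ∈ Cyc.Zk Y δY k := by
    intro y hy
    rw [hβ₁]
    refine finsum_eq_zero_of_forall_eq_zero fun i => ?_
    apply divFun_eq_zero_of_ne
    rw [hηk i]
    intro hc
    exact hy (by linarith)
  set β' : AlgebraicCycle Y ℤ := β - β₁ with hβ'def
  have hβ'k : β' ∈ Cyc.Zk Y δY k := by
    intro y hy
    rw [hβ'def, Function.locallyFinsuppWithin.coe_sub, Pi.sub_apply, hβ y hy, hβ₁k y hy, sub_zero]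
  have hβ'0 : AlgebraicCycle.map f δY δ β' = 0 := by
    rw [hβ'def, map_sub, hpush, sub_self]
  -- the cycle on the fibre product
  refine ⟨liftCycle (pullback.fst f f) z β',
    liftCycle_mem_Zk (pullback.fst f f) z hz1 δ2 δY hδ2 hz1s k β' hβ'k, ?_⟩
  have hfst : AlgebraicCycle.map (pullback.fst f f) δ2 δY (liftCycle (pullback.fst f f) z β') = β' :=
    map_liftCycle (pullback.fst f f) z hz1 δ2 δY hδ2 hz1s β'
  -- the coefficient of the second projection at the chosen points
  have hmc : ∀ y, AlgebraicCycle.mapCoeff (pullback.snd f f) δ2 δY (z y) =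
      AlgebraicCycle.mapCoeff f δY δ y := by
    intro y
    unfold AlgebraicCycle.mapCoeff
    have e1 : δ2 (z y) = δY y := by
      rw [delta_eq_of_surjective (pullback.fst f f) δ2 δY hδ2 (z y) (hz1s y), hz1 y]
    have e2 : δY (pullback.snd f f (z y)) = δ (f y) := by
      rw [hz2 y, delta_eq_of_surjective f δY δ hδ (s (f y)) (hss (f y)), hs (f y)]
    have e3 : (pullback.snd f f).residueDegree (z y) = f.residueDegree y := by
      have a1 := residueDegree_comp (pullback.snd f f) f (z y)
      have a2 := residueDegree_comp (pullback.fst f f) f (z y)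
      rw [hz2 y, residueDegree_eq_one_of_surjective f (s (f y)) (hss (f y)), one_mul] at a1
      rw [residueDegree_eq_one_of_surjective (pullback.fst f f) (z y) (hz1s y), mul_one,
        hz1 y] at a2
      rw [← a1, ← a2]
      exact residueDegree_congr_hom pullback.condition.symm (z y)
    show (if δ2 (z y) = δY (pullback.snd f f (z y)) then
      (pullback.snd f f).residueDegree (z y) else 0) =
      if δY y = δ (f y) then f.residueDegree y else 0
    rw [e1, e2, e3]
  have hsnd : AlgebraicCycle.map (pullback.snd f f) δ2 δY (liftCycle (pullback.fst f f) z β') = 0 := by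
    ext y₀
    simp only [AlgebraicCycle.map, Function.locallyFinsupp.map_apply,
      Function.locallyFinsuppWithin.coe_zero, Pi.zero_apply]
    have hzinj : Function.Injective z := fun a b hab => by
      have := congrArg (fun w => pullback.fst f f w) hab
      simpa only [hz1] using this
    have hTz : ∀ y, liftCycle (pullback.fst f f) z β' (z y) *
        ((AlgebraicCycle.mapCoeff (pullback.snd f f) δ2 δY (z y) : ℕ) : ℤ) =
        β' y * ((AlgebraicCycle.mapCoeff f δY δ y : ℕ) : ℤ) := by
      intro y
      rw [liftCycle_section (pullback.fst f f) z hz1, hmc y]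
    have step1 : ∑ᶠ w ∈ pullback.snd f f ⁻¹' {y₀}, liftCycle (pullback.fst f f) z β' w *
        ((AlgebraicCycle.mapCoeff (pullback.snd f f) δ2 δY w : ℕ) : ℤ) =
        ∑ᶠ w ∈ z '' {y | s (f y) = y₀}, liftCycle (pullback.fst f f) z β' w *
        ((AlgebraicCycle.mapCoeff (pullback.snd f f) δ2 δY w : ℕ) : ℤ) := by
      apply finsum_mem_inter_support_eq'
      intro w hw
      have hL : liftCycle (pullback.fst f f) z β' w ≠ 0 := fun h0 => hw (by
        show liftCycle (pullback.fst f f) z β' w * _ = 0
        rw [h0, zero_mul])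
      have hwz := (liftCycle_ne_zero (pullback.fst f f) z β' w hL).1
      simp only [Set.mem_preimage, Set.mem_singleton_iff, Set.mem_image, Set.mem_setOf_eq]
      constructor
      · intro hw2
        refine ⟨pullback.fst f f w, ?_, hwz.symm⟩
        rw [← hz2, ← hwz]
        exact hw2
      · rintro ⟨y, hy, rfl⟩
        rw [hz2 y]
        exact hy
    rw [step1, finsum_mem_image hzinj.injOn, finsum_mem_congr rfl (fun y _ => hTz y)]
    by_cases hy₀ : s (f y₀) = y₀
    · have hset : {y | s (f y) = y₀} = f ⁻¹' {f y₀} := by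
        ext y
        simp only [Set.mem_setOf_eq, Set.mem_preimage, Set.mem_singleton_iff]
        constructor
        · intro hy
          rw [← hy, hs]
        · intro hy
          rw [hy, hy₀]
      rw [hset]
      have := congrArg (fun c : AlgebraicCycle X ℤ => c (f y₀)) hβ'0
      simpa only [AlgebraicCycle.map, Function.locallyFinsupp.map_apply,
        Function.locallyFinsuppWithin.coe_zero, Pi.zero_apply] using this
    · have hset : {y | s (f y) = y₀} = ∅ := by
        ext y
        simp only [Set.mem_setOf_eq, Set.mem_empty_iff_false, iff_false]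
        intro hy
        apply hy₀
        have : f y₀ = f y := by rw [← hy, hs]
        rw [this, hy]
      rw [hset, finsum_mem_empty]
  rw [hfst, hsnd, sub_zero]
  show Cyc.RatEquivZero δY k (β - β')
  rw [hβ'def, sub_sub_cancel]
  exact hR

end Groth.Agent.Lib.Helper18.Push
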