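import Mathlib
import Groth.Prelude.Def_Cyc
import Groth.Agent.Lib.Helper18.Push.BCDeg
import Groth.Agent.Lib.Helper18.Cyc.PullRatBC
import Groth.Agent.Lib.Helper18.GenFin
import Groth.Agent.Lib.Helper18.CycMap

/-!
# Flat base change commutes with proper pushforward of cycles
-/

set_option autoImplicit false
set_option linter.style.haveILetI false
universe u
open AlgebraicGeometry CategoryTheory IsLocalRing Limits

namespace Groth.Agent.Lib.Helper18.Push

open Groth.Agent.Lib.Helper18.CycPull Groth.Agent.Lib.Helper18.CycDiv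
open Groth.Agent.Lib.Helper18.CycMap

variable {P Y X X' : Scheme.{u}} {q : P ⟶ Y} {f' : P ⟶ X'} {f : Y ⟶ X} {p : X' ⟶ X}

/-- Finiteness of a residue field extension of transcendence degree zero. -/
theorem finite_residueFieldMap_of_delta_eq [LocallyOfFiniteType f] (δY : Y → ℤ) (δ : X → ℤ)
    (hf : Cyc.DeltaCompat f δY δ) (y : Y) (h : δY y = δ (f y)) :
    (f.residueFieldMap y).hom.Finite := by
  obtain ⟨n, hn, hdel⟩ := hf y
  have hn0 : n = 0 := by omega
  subst hn0
  refine Groth.Agent.Lib.Helper18.GenFin.finite_of_essFiniteType_of_isAlgebraic _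
    (Groth.Agent.Lib.Helper18.GenFin.essFiniteType_residueFieldMap f _) ?_
  letI := (f.residueFieldMap y).hom.toAlgebra
  have halg : Algebra.IsAlgebraic (X.residueField (f y)) (Y.residueField y) := by
    rw [← _root_.trdeg_eq_zero_iff]
    simpa using hn
  have : Algebra.IsIntegral (X.residueField (f y)) (Y.residueField y) := inferInstance
  exact this.isIntegral

/-- The local form of the base change formula, at a pair of points `(y, x')`. -/
theorem bc_local_formula (sq : IsPullback q f' f p) [LocallyOfFiniteType f] [Flat p] [Flat q]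
    (δ : X → ℤ) (δ' : X' → ℤ) (δY : Y → ℤ) (δP : P → ℤ) (hdim' : Cyc.IsDimFun X' δ')
    (hdimP : Cyc.IsDimFun P δP) (hf : Cyc.DeltaCompat f δY δ) (hf' : Cyc.DeltaCompat f' δP δ')
    (c : ℤ) (hc : ∀ x' : X', (∀ y, p y = p x' → y ⤳ x' → y = x') → δ' x' = δ (p x') + c)
    (hcP : ∀ z : P, (∀ y, q y = q z → y ⤳ z → y = z) → δP z = δY (q z) + c)
    (y : Y) (x' : X') (hyx : f y = p x') :
    ∑ᶠ z ∈ {z : P | q z = y ∧ f' z = x'},
        (if δP z = δY y + c then ((fibLen q z).toNat : ℤ) else 0) *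
          ((AlgebraicCycle.mapCoeff f' δP δ' z : ℕ) : ℤ) =
      if δ' x' = δ (p x') + c then
        ((AlgebraicCycle.mapCoeff f δY δ y : ℕ) : ℤ) * ((fibLen p x').toNat : ℤ) else 0 := by
  classical
  have hD1 : δ' x' ≤ δ (p x') + c := delta_le_of_bc p δ' δ hdim' c hc x'
  obtain ⟨n, hn, hδn⟩ := hf y
  have hδxy : δ (f y) = δ (p x') := by rw [hyx]
  by_cases hA : δY y = δ (f y) ∧ δ' x' = δ (p x') + c
  · obtain ⟨hA1, hA2⟩ := hA
    have hfin : (f.residueFieldMap y).hom.Finite :=
      finite_residueFieldMap_of_delta_eq δY δ hf y hA1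
    have hz : ∀ z ∈ {z : P | q z = y ∧ f' z = x'}, δP z = δ' (f' z) ∧ δP z = δY y + c := by
      rintro z ⟨hz1, hz2⟩
      obtain ⟨m, hm, hδm⟩ := hf' z
      have hD1z : δP z ≤ δY (q z) + c := delta_le_of_bc q δP δY hdimP c hcP z
      rw [hz1] at hD1z
      rw [hz2] at hδm ⊢
      constructor <;> omega
    rw [if_pos hA2]
    have hterm : ∀ z ∈ {z : P | q z = y ∧ f' z = x'},
        (if δP z = δY y + c then ((fibLen q z).toNat : ℤ) else 0) *
          ((AlgebraicCycle.mapCoeff f' δP δ' z : ℕ) : ℤ) =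
        (Nat.castAddMonoidHom ℤ) ((fibLen q z).toNat * f'.residueDegree z) := by
      intro z hzS
      obtain ⟨h1, h2⟩ := hz z hzS
      rw [if_pos h2]
      unfold AlgebraicCycle.mapCoeff
      rw [if_pos h1]
      simp
    rw [finsum_mem_congr rfl hterm, ← AddMonoidHom.map_finsum_mem
      (fun z => (fibLen q z).toNat * f'.residueDegree z) (Nat.castAddMonoidHom ℤ)
      (finite_points_over sq y x' hyx hfin),
      finsum_fibLen_mul_residueDegree_sq sq y x' hyx hfin]
    unfold AlgebraicCycle.mapCoeff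
    rw [if_pos hA1]
    simp [mul_comm]
  · have hzero : ∀ z ∈ {z : P | q z = y ∧ f' z = x'},
        (if δP z = δY y + c then ((fibLen q z).toNat : ℤ) else 0) *
          ((AlgebraicCycle.mapCoeff f' δP δ' z : ℕ) : ℤ) = 0 := by
      rintro z ⟨hz1, hz2⟩
      by_contra hne
      have h1 : δP z = δY y + c := by
        by_contra h
        exact hne (by rw [if_neg h, zero_mul])
      have h2 : δP z = δ' (f' z) := by
        by_contra h
        apply hne
        unfold AlgebraicCycle.mapCoeff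
        rw [if_neg h]
        simp
      rw [hz2] at h2
      apply hA
      constructor <;> omega
    rw [finsum_mem_eq_zero_of_forall_eq_zero hzero]
    split_ifs with h
    · have hne : δY y ≠ δ (f y) := fun h' => hA ⟨h', h⟩
      unfold AlgebraicCycle.mapCoeff
      rw [if_neg hne]
      simp
    · rfl

/-- **Flat base change commutes with proper pushforward of cycles** (arbitrary pullback squares,
base-change form of the dimension conditions). -/
theorem pullFun_map_eq_map_pullFun (sq : IsPullback q f' f p) [QuasiCompact f] [QuasiCompact f']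
    [LocallyOfFiniteType f] [Flat p] [Flat q]
    (δ : X → ℤ) (δ' : X' → ℤ) (δY : Y → ℤ) (δP : P → ℤ) (hdim' : Cyc.IsDimFun X' δ')
    (hdimP : Cyc.IsDimFun P δP) (hf : Cyc.DeltaCompat f δY δ) (hf' : Cyc.DeltaCompat f' δP δ')
    (c : ℤ) (hc : ∀ x' : X', (∀ y, p y = p x' → y ⤳ x' → y = x') → δ' x' = δ (p x') + c)
    (hcP : ∀ z : P, (∀ y, q y = q z → y ⤳ z → y = z) → δP z = δY (q z) + c)
    (α : AlgebraicCycle Y ℤ) (α' : AlgebraicCycle P ℤ)
    (hα' : ⇑α' = Cyc.pullFun q δP δY c ⇑α) :
    Cyc.pullFun p δ' δ c ⇑(AlgebraicCycle.map f δY δ α) =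
      ⇑(AlgebraicCycle.map f' δP δ' α') := by
  classical
  funext x'
  simp only [AlgebraicCycle.map, Function.locallyFinsupp.map_apply]
  let T : P → ℤ := fun z => (if δP z = δY (q z) + c then ((fibLen q z).toNat : ℤ) else 0) *
    ((AlgebraicCycle.mapCoeff f' δP δ' z : ℕ) : ℤ)
  have hα'z : ∀ z, α' z * ((AlgebraicCycle.mapCoeff f' δP δ' z : ℕ) : ℤ) = α (q z) * T z := by
    intro z
    rw [hα']
    show (if δP z = δY (q z) + c then α (q z) * ((fibLen q z).toNat : ℤ) else 0) * _ = _
    show _ = α (q z) * ((if δP z = δY (q z) + c then ((fibLen q z).toNat : ℤ) else 0) * _)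
    split_ifs <;> ring
  let F' : P → ℤ := fun z => if f' z = x' then α (q z) * T z else 0
  have hsq : ∀ z, f (q z) = p (f' z) := fun z => by
    have := congrArg (fun F : P ⟶ X => F z) sq.w
    exact this
  have hF'supp : ∀ z, F' z ≠ 0 → f' z = x' ∧ α' z ≠ 0 := by
    intro z hz
    have h1 : f' z = x' := by
      by_contra h
      exact hz (if_neg h)
    refine ⟨h1, fun h0 => hz ?_⟩
    show (if f' z = x' then α (q z) * T z else 0) = 0
    rw [if_pos h1, ← hα'z z, h0, zero_mul]
  have hfin : ((⇑f ∘ ⇑q) ⁻¹' {p x'} ∩ Function.support F').Finite := by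
    refine (finite_preimage_inter_support f' α' x').subset ?_
    rintro z ⟨-, hz⟩
    obtain ⟨h1, h2⟩ := hF'supp z hz
    exact ⟨h1, h2⟩
  have h2 := finsum_mem_fiberwise (⇑q) (⇑f) F' (p x') hfin
  -- the right hand side
  have hR : ∑ᶠ z ∈ f' ⁻¹' {x'}, α' z * ((AlgebraicCycle.mapCoeff f' δP δ' z : ℕ) : ℤ) =
      ∑ᶠ z ∈ (⇑f ∘ ⇑q) ⁻¹' {p x'}, F' z := by
    have e1 : ∑ᶠ z ∈ f' ⁻¹' {x'}, α' z * ((AlgebraicCycle.mapCoeff f' δP δ' z : ℕ) : ℤ) =
        ∑ᶠ z ∈ f' ⁻¹' {x'}, F' z := by
      refine finsum_mem_congr rfl fun z hz => ?_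
      have hz' : f' z = x' := hz
      show _ = if f' z = x' then α (q z) * T z else 0
      rw [if_pos hz', hα'z z]
    rw [e1]
    apply finsum_mem_inter_support_eq'
    intro z hz
    obtain ⟨h1, -⟩ := hF'supp z hz
    simp only [Set.mem_preimage, Set.mem_singleton_iff, Function.comp_apply]
    constructor
    · intro _
      rw [hsq z, h1]
    · intro _
      exact h1
  -- the fibres
  have h3 : ∀ y ∈ f ⁻¹' {p x'}, ∑ᶠ z ∈ q ⁻¹' {y}, F' z =
      α y * (if δ' x' = δ (p x') + c then
        ((AlgebraicCycle.mapCoeff f δY δ y : ℕ) : ℤ) * ((fibLen p x').toNat : ℤ) else 0) := by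
    intro y hy
    have hyx : f y = p x' := hy
    have e1 : ∑ᶠ z ∈ q ⁻¹' {y}, F' z = ∑ᶠ z ∈ {z : P | q z = y ∧ f' z = x'}, F' z := by
      apply finsum_mem_inter_support_eq'
      intro z hz
      obtain ⟨h1, -⟩ := hF'supp z hz
      simp only [Set.mem_preimage, Set.mem_singleton_iff, Set.mem_setOf_eq]
      exact ⟨fun h => ⟨h, h1⟩, fun h => h.1⟩
    have e2 : ∀ z ∈ {z : P | q z = y ∧ f' z = x'}, F' z =
        α y * ((if δP z = δY y + c then ((fibLen q z).toNat : ℤ) else 0) *
          ((AlgebraicCycle.mapCoeff f' δP δ' z : ℕ) : ℤ)) := by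
      rintro z ⟨hz1, hz2⟩
      show (if f' z = x' then α (q z) * T z else 0) = _
      rw [if_pos hz2]
      show α (q z) * ((if δP z = δY (q z) + c then ((fibLen q z).toNat : ℤ) else 0) * _) = _
      rw [hz1]
    rw [e1, finsum_mem_congr rfl e2, ← mul_finsum_mem,
      bc_local_formula sq δ δ' δY δP hdim' hdimP hf hf' c hc hcP y x' hyx]
  rw [hR, ← h2, finsum_mem_congr rfl h3]
  show Cyc.pullFun p δ' δ c _ x' = _
  unfold Cyc.pullFun
  simp only [AlgebraicCycle.map, Function.locallyFinsupp.map_apply]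
  by_cases h : δ' x' = δ (p x') + c
  · simp only [if_pos h]
    rw [finsum_mem_mul]
    refine finsum_mem_congr rfl fun y _ => ?_
    ring
  · simp only [if_neg h, mul_zero]
    rw [finsum_mem_zero]

end Groth.Agent.Lib.Helper18.Push
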