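import Mathlib
import Groth.Prelude.Def_Cyc
import Groth.Prelude.Def_C1
import Groth.Prelude.Def_Pic
import Groth.Agent.Lib.Helper18.Push.PushNorm
import Groth.Agent.Lib.Helper18.Push.PushRat
import Groth.Agent.Lib.Helper18.Push.DegZero
import Groth.Agent.Lib.Helper18.Cyc.C1Pull
import Groth.Agent.Lib.Helper18.Cyc.C1Sec

/-!
# The projection formula `p_*(c_1(p^*L) ∩ α) ∼ c_1(L) ∩ p_*α`
-/

set_option autoImplicit false
set_option linter.style.haveILetI false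
universe u
open AlgebraicGeometry CategoryTheory IsLocalRing

namespace Groth.Agent.Lib.Helper18.Push

open Groth.Agent.Lib.Helper18.CycMap Groth.Agent.Lib.Helper18.CycDiv
open Groth.Agent.Lib.Helper18.C1Core Groth.Agent.Lib.Helper18.InvStalk
open Groth.Agent.Lib.Helper28.PullbackInv

variable {X Y : Scheme.{u}}

/-- The difference of `c_1(L) ∩ β` for two choices of sections is a cycle rationally equivalent
to zero. -/
theorem exists_cycle_c1CapFun_sub [IsLocallyNoetherian X] (L : X.Modules)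
    (hL : PicF.IsInvertible L) (δ : X → ℤ) (hδ : Cyc.IsDimFun X δ)
    (k : ℤ) (β : X → ℤ) (hβk : ∀ ξ, β ξ ≠ 0 → δ ξ = k + 1) (hβ : LocallyFiniteSupport β)
    (s s' : (ξ : X) → Cyc.secFibre L ξ) (hs : ∀ ξ, s ξ ≠ 0) (hs' : ∀ ξ, s' ξ ≠ 0) :
    ∃ D : AlgebraicCycle X ℤ,
      (∀ x, D x = Cyc.c1CapFun δ L β s x - Cyc.c1CapFun δ L β s' x) ∧
      Cyc.RatEquivZero δ k D := by
  classical
  choose ψ hψ0 hψs using fun ξ : X => exists_smul_eq L hL ξ (s ξ) (s' ξ) (hs ξ) (hs' ξ)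
  have hlf : ∀ y : X, ∃ U : Set X, IsOpen U ∧ y ∈ U ∧
      {i : {ξ : X // β ξ ≠ 0} | (closure {(i : X)} ∩ U).Nonempty}.Finite := by
    intro y
    obtain ⟨t, ht, hfin⟩ := hβ y
    refine ⟨interior t, isOpen_interior, mem_interior_iff_mem_nhds.2 ht, ?_⟩
    refine Set.Finite.subset (hfin.preimage (Subtype.val_injective.injOn) :
      {i : {ξ : X // β ξ ≠ 0} | (i : X) ∈ t ∩ Function.support β}.Finite) ?_
    rintro i ⟨w, hw1, hw2⟩
    have hi : (i : X) ∈ interior t :=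
      (specializes_iff_mem_closure.2 hw1).mem_open isOpen_interior hw2
    exact ⟨interior_subset hi, i.2⟩
  have hne : ∀ i : {ξ : X // β ξ ≠ 0}, (X.residue i.1 (ψ i.1)) ^ (β i.1) ≠ 0 :=
    fun i => zpow_ne_zero _ (hψ0 i.1)
  have hform : ∀ x, Cyc.c1CapFun δ L β s x - Cyc.c1CapFun δ L β s' x =
      ∑ᶠ i : {ξ : X // β ξ ≠ 0}, Cyc.divFun δ i.1 ((X.residue i.1 (ψ i.1)) ^ (β i.1)) x := by
    intro x
    show ∑ᶠ ξ : X, β ξ * Cyc.secDivFun δ L ξ (s ξ) x -
      ∑ᶠ ξ : X, β ξ * Cyc.secDivFun δ L ξ (s' ξ) x = _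
    rw [← finsum_sub_distrib (finite_support_c1Cap_term L δ β hβ s x)
      (finite_support_c1Cap_term L δ β hβ s' x)]
    rw [finsum_eq_finsum_subtype (fun ξ : X => β ξ * Cyc.secDivFun δ L ξ (s ξ) x -
      β ξ * Cyc.secDivFun δ L ξ (s' ξ) x) (fun ξ => β ξ ≠ 0)
      (fun a ha h0 => ha (by show _ - _ = 0; rw [h0, zero_mul, zero_mul, sub_zero]))]
    apply finsum_congr
    intro i
    show β i.1 * Cyc.secDivFun δ L i.1 (s i.1) x - β i.1 * Cyc.secDivFun δ L i.1 (s' i.1) x = _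
    rw [divFun_zpow]
    conv_lhs => rw [hψs i.1]
    rw [secDivFun_smul L hL δ hδ i.1 (ψ i.1) (hψ0 i.1) (s' i.1) (hs' i.1) x]
    ring
  let D : AlgebraicCycle X ℤ :=
    { toFun := fun x => ∑ᶠ i : {ξ : X // β ξ ≠ 0},
        Cyc.divFun δ i.1 ((X.residue i.1 (ψ i.1)) ^ (β i.1)) x
      supportWithinDomain' := Set.subset_univ _
      supportLocallyFiniteWithinDomain' := fun y _ =>
        locallyFiniteSupport_finsum_divFun'' δ (fun i : {ξ : X // β ξ ≠ 0} => i.1)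
          (fun i => (X.residue i.1 (ψ i.1)) ^ (β i.1)) hne hlf y }
  refine ⟨D, fun x => (hform x).symm, ⟨{ξ : X // β ξ ≠ 0}, fun i => i.1,
    fun i => (X.residue i.1 (ψ i.1)) ^ (β i.1), fun i => hβk i.1 i.2, hne, hlf, fun x => rfl⟩⟩

/-- Local description, near the fibre of `y`, of the divisors of the sections `v` and of their
pullbacks, by rational functions. -/
theorem exists_local_functions [IsLocallyNoetherian X] [IsLocallyNoetherian Y] (p : X ⟶ Y)
    (δX : X → ℤ) (δY : Y → ℤ) (hdimX : Cyc.IsDimFun X δX) (hdimY : Cyc.IsDimFun Y δY)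
    (L : Y.Modules) (hL : PicF.IsInvertible L)
    (v : (η : Y) → Cyc.secFibre L η) (hv : ∀ η, v η ≠ 0) (y : Y) :
    ∃ G : (η : Y) → Y.residueField η, (∀ η, G η ≠ 0) ∧
      (∀ η, Cyc.secDivFun δY L η (v η) y = Cyc.divFun δY η (G η) y) ∧
      (∀ x', p x' = y → ∀ ξ : X,
        Cyc.secDivFun δX ((Scheme.Modules.pullback p).obj L) ξ (pullSec p L ξ (v (p ξ))) x' =
          Cyc.divFun δX ξ ((p.residueFieldMap ξ).hom (G (p ξ))) x') := by
  classical
  have hM : PicF.IsInvertible ((Scheme.Modules.pullback p).obj L) := isInvertible_pullback p hL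
  obtain ⟨t, ht⟩ := exists_freeGen L hL y
  have hGex : ∀ η : Y, ∃ g : Y.residueField η, g ≠ 0 ∧ ∀ h : η ⤳ y,
      ∃ ψ : Y.presheaf.stalk η,
        v η = ψ • (Submodule.Quotient.mk (L.presheaf.stalkSpecializes h t) :
          Cyc.secFibre L η) ∧ Y.residue η ψ = g := by
    intro η
    by_cases h : η ⤳ y
    · have hg := freeGen_stalkSpecializes L hL h ht.1
      obtain ⟨ψ, hψ⟩ := exists_smul_mk L hg (v η)
      refine ⟨Y.residue η ψ, ?_, fun h' => ⟨ψ, hψ, rfl⟩⟩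
      exact residue_ne_zero_of_smul_mk_ne_zero L ψ (hψ ▸ hv η)
    · exact ⟨1, one_ne_zero, fun h' => absurd h' h⟩
  choose G hG0 hG using hGex
  refine ⟨G, hG0, ?_, ?_⟩
  · intro η
    unfold Cyc.secDivFun Cyc.divFun
    by_cases hc : η ⤳ y ∧ δY y + 1 = δY η
    · rw [dif_pos hc, dif_pos hc]
      obtain ⟨ψ, hψ, hres⟩ := hG η hc.1
      have hd := krullDimLE_one_locQuot δY hdimY hc.1 hc.2
      have hne : Y.residue η ψ ≠ 0 := by rw [hres]; exact hG0 η
      rw [hψ, secOrdAt_smul_mk_of_freeGen L hL hc.1 hd ht ψ hne, hres]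
    · rw [dif_neg hc, dif_neg hc]
  · intro x' hx ξ
    subst hx
    unfold Cyc.secDivFun Cyc.divFun
    by_cases hc : ξ ⤳ x' ∧ δX x' + 1 = δX ξ
    · rw [dif_pos hc, dif_pos hc]
      have h' : p ξ ⤳ p x' := hc.1.map p.continuous
      obtain ⟨ψ, hψ, hres⟩ := hG (p ξ) h'
      have hg := freeGen_stalkSpecializes L hL h' ht.1
      have hd := krullDimLE_one_locQuot δX hdimX hc.1 hc.2
      have hcomp : X.residue ξ ((p.stalkMap ξ).hom ψ) =
          (p.residueFieldMap ξ).hom (Y.residue (p ξ) ψ) := by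
        have := congrArg (fun φ => (ConcreteCategory.hom φ) ψ)
          (Scheme.residue_residueFieldMap p ξ)
        exact this.symm
      have hne : X.residue ξ ((p.stalkMap ξ).hom ψ) ≠ 0 := by
        rw [hcomp, hres]
        exact (map_ne_zero_iff _ (p.residueFieldMap ξ).hom.injective).2 (hG0 (p ξ))
      rw [hψ, pullSec_smul_mk p ξ hg ψ, ← pg_stalkSpecializes p L hc.1 h' t,
        secOrdAt_smul_mk_of_freeGen _ hM hc.1 hd (freeGen_pg p hL x' ht) _ hne, hcomp, hres]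
    · rw [dif_neg hc, dif_neg hc]

/-- Pushforward of the divisor of a function pulled back from the image point. -/
theorem push_divFun_residueFieldMap [IsLocallyNoetherian X] [IsLocallyNoetherian Y] (p : X ⟶ Y)
    [IsProper p] (δX : X → ℤ) (δY : Y → ℤ) (hdimX : Cyc.IsDimFun X δX)
    (hdimY : Cyc.IsDimFun Y δY) (hδ : Cyc.DeltaCompat p δX δY) (ξ : X)
    (g : Y.residueField (p ξ)) (hg : g ≠ 0) (y : Y) :
    ∑ᶠ x ∈ p ⁻¹' {y}, Cyc.divFun δX ξ ((p.residueFieldMap ξ).hom g) x *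
        ((AlgebraicCycle.mapCoeff p δX δY x : ℕ) : ℤ) =
      ((AlgebraicCycle.mapCoeff p δX δY ξ : ℕ) : ℤ) * Cyc.divFun δY (p ξ) g y := by
  have hne : (p.residueFieldMap ξ).hom g ≠ 0 := by
    rw [Ne, map_eq_zero_iff _ (p.residueFieldMap ξ).hom.injective]
    exact hg
  by_cases hn : δX ξ = δY (p ξ)
  · rw [push_divFun_eq_normGen p δX δY hdimX hdimY hδ ξ _ hne hn y]
    have hnorm : Cyc.normGen p ξ ((p.residueFieldMap ξ).hom g) = g ^ (p.residueDegree ξ) := by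
      unfold Cyc.normGen Scheme.Hom.residueDegree
      letI := (p.residueFieldMap ξ).hom.toAlgebra
      exact Algebra.norm_algebraMap (R := Y.residueField (p ξ)) (S := X.residueField ξ) g
    rw [hnorm, divFun_pow]
    unfold AlgebraicCycle.mapCoeff
    rw [if_pos hn]
  · obtain ⟨g', -, hg'⟩ := exists_push_divFun p δX δY hdimX hdimY hδ ξ _ hne
    rw [hg' y, if_neg hn]
    unfold AlgebraicCycle.mapCoeff
    rw [if_neg hn]
    simp

/-- **Projection formula, pointwise form**: for the pulled back rational sections,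
`p_*(c_1(p^*L) ∩ α) = c_1(L) ∩ p_*α` as coefficient functions. -/
theorem push_c1CapFun_pullSec [IsLocallyNoetherian X] [IsLocallyNoetherian Y] (p : X ⟶ Y)
    [IsProper p] (δX : X → ℤ) (δY : Y → ℤ) (hdimX : Cyc.IsDimFun X δX)
    (hdimY : Cyc.IsDimFun Y δY) (hδ : Cyc.DeltaCompat p δX δY)
    (L : Y.Modules) (hL : PicF.IsInvertible L) (α : AlgebraicCycle X ℤ)
    (v : (η : Y) → Cyc.secFibre L η) (hv : ∀ η, v η ≠ 0) (y : Y) :
    ∑ᶠ x ∈ p ⁻¹' {y}, Cyc.c1CapFun δX ((Scheme.Modules.pullback p).obj L) ⇑α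
        (fun ξ => pullSec p L ξ (v (p ξ))) x * ((AlgebraicCycle.mapCoeff p δX δY x : ℕ) : ℤ) =
      Cyc.c1CapFun δY L ⇑(AlgebraicCycle.map p δX δY α) v y := by
  classical
  obtain ⟨G, hG0, hGY, hGX⟩ := exists_local_functions p δX δY hdimX hdimY L hL v hv y
  obtain ⟨_, ⟨V, hV : IsAffineOpen V, rfl⟩, hyV, -⟩ :=
    Y.isBasis_affineOpens.exists_subset_of_mem_open (Set.mem_univ y) isOpen_univ
  have hc : IsCompact (p ⁻¹ᵁ V : Set X) :=
    QuasiCompact.isCompact_preimage (f := p) _ V.isOpen hV.isCompact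
  have hI : ((p ⁻¹ᵁ V : Set X) ∩ Function.support α).Finite :=
    α.locallyFiniteSupport.finite_inter_support_of_isCompact hc
  let D : X → X → ℤ := fun ξ x => Cyc.divFun δX ξ ((p.residueFieldMap ξ).hom (G (p ξ))) x
  let mc : X → ℤ := fun x => ((AlgebraicCycle.mapCoeff p δX δY x : ℕ) : ℤ)
  let F : X → ℤ := fun ξ => α ξ * (mc ξ * Cyc.divFun δY (p ξ) (G (p ξ)) y)
  have hFsupp : Function.support F ⊆ hI.toFinset := by
    intro ξ hξ
    rw [Set.Finite.coe_toFinset]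
    have h1 : α ξ ≠ 0 := left_ne_zero_of_mul hξ
    have h2 : Cyc.divFun δY (p ξ) (G (p ξ)) y ≠ 0 :=
      right_ne_zero_of_mul (right_ne_zero_of_mul hξ)
    exact ⟨(specializes_of_divFun_ne_zero δY _ _ y h2).mem_open V.isOpen hyV, h1⟩
  have hGne : ∀ ξ : X, (p.residueFieldMap ξ).hom (G (p ξ)) ≠ 0 := fun ξ =>
    (map_ne_zero_iff _ (p.residueFieldMap ξ).hom.injective).2 (hG0 (p ξ))
  have hfinD : ∀ ξ : X, (p ⁻¹' {y} ∩ Function.support (fun x => D ξ x * mc x)).Finite := by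
    intro ξ
    have hfin := (locallyFiniteSupport_divFun δX ξ _ (hGne ξ)).finite_inter_support_of_isCompact hc
    refine hfin.subset ?_
    rintro x ⟨hx, hne⟩
    refine ⟨?_, left_ne_zero_of_mul hne⟩
    show p x ∈ V
    rw [show p x = y from hx]
    exact hyV
  -- the left-hand side
  have hL1 : ∀ x ∈ p ⁻¹' {y}, Cyc.c1CapFun δX ((Scheme.Modules.pullback p).obj L) ⇑α
      (fun ξ => pullSec p L ξ (v (p ξ))) x * mc x = ∑ ξ ∈ hI.toFinset, α ξ * (D ξ x * mc x) := by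
    intro x hx
    show (∑ᶠ ξ : X, α ξ * Cyc.secDivFun δX ((Scheme.Modules.pullback p).obj L) ξ
      (pullSec p L ξ (v (p ξ))) x) * mc x = _
    have h1 : ∀ ξ : X, α ξ * Cyc.secDivFun δX ((Scheme.Modules.pullback p).obj L) ξ
        (pullSec p L ξ (v (p ξ))) x = α ξ * D ξ x := fun ξ => by rw [hGX x hx ξ]
    rw [finsum_congr h1, finsum_eq_sum_of_support_subset _ (s := hI.toFinset), Finset.sum_mul]
    · exact Finset.sum_congr rfl fun ξ _ => mul_assoc _ _ _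
    · intro ξ hξ
      rw [Set.Finite.coe_toFinset]
      have h1 : α ξ ≠ 0 := left_ne_zero_of_mul hξ
      have h2 : D ξ x ≠ 0 := right_ne_zero_of_mul hξ
      have hs : ξ ⤳ x := specializes_of_divFun_ne_zero δX _ _ x h2
      have hxK : x ∈ (p ⁻¹ᵁ V : Set X) := by
        show p x ∈ V
        rw [show p x = y from hx]
        exact hyV
      exact ⟨hs.mem_open (p ⁻¹ᵁ V).isOpen hxK, h1⟩
  rw [finsum_mem_congr rfl hL1, finsum_mem_finset_sum]
  swap
  · intro ξ _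
    refine (hfinD ξ).subset ?_
    rintro x ⟨hx, hne⟩
    exact ⟨hx, right_ne_zero_of_mul hne⟩
  have hL2 : ∀ ξ ∈ hI.toFinset, ∑ᶠ x ∈ p ⁻¹' {y}, α ξ * (D ξ x * mc x) = F ξ := by
    intro ξ _
    rw [← mul_finsum_mem]
    show α ξ * _ = α ξ * _
    rw [push_divFun_residueFieldMap p δX δY hdimX hdimY hδ ξ (G (p ξ)) (hG0 (p ξ)) y]
  rw [Finset.sum_congr rfl hL2]
  -- the right-hand side
  show _ = ∑ᶠ η : Y, (AlgebraicCycle.map p δX δY α) η * Cyc.secDivFun δY L η (v η) y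
  have hR1 : ∀ η : Y, (AlgebraicCycle.map p δX δY α) η * Cyc.secDivFun δY L η (v η) y =
      ∑ᶠ ξ ∈ p ⁻¹' {η}, F ξ := by
    intro η
    rw [hGY η]
    simp only [AlgebraicCycle.map, Function.locallyFinsupp.map_apply]
    rw [finsum_mem_mul]
    refine finsum_mem_congr rfl (fun ξ hξ => ?_)
    have hξ' : p ξ = η := hξ
    subst hξ'
    show α ξ * mc ξ * _ = α ξ * (mc ξ * _)
    rw [mul_assoc]
  rw [finsum_congr hR1, finsum_fiberwise p F (hI.toFinset.finite_toSet.subset hFsupp),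
    finsum_eq_sum_of_support_subset F hFsupp]

/-- **Projection formula**: `p_*(c_1(p^*L) ∩ α) ∼ c_1(L) ∩ p_*α`. -/
theorem map_c1Cap_pullbackMod_ratEquiv [IsLocallyNoetherian X] [IsLocallyNoetherian Y]
    (p : X ⟶ Y) [IsProper p] (δX : X → ℤ) (δY : Y → ℤ) (hdimX : Cyc.IsDimFun X δX)
    (hdimY : Cyc.IsDimFun Y δY) (hδ : Cyc.DeltaCompat p δX δY)
    (L : Y.Modules) (hL : PicF.IsInvertible L) (k : ℤ) (α : AlgebraicCycle X ℤ)
    (hα : α ∈ Cyc.Zk X δX (k + 1))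
    (u : (ξ : X) → Cyc.secFibre ((Scheme.Modules.pullback p).obj L) ξ) (hu : ∀ ξ, u ξ ≠ 0)
    (v : (η : Y) → Cyc.secFibre L η) (hv : ∀ η, v η ≠ 0)
    (γ : AlgebraicCycle X ℤ)
    (hγ : ⇑γ = Cyc.c1CapFun δX ((Scheme.Modules.pullback p).obj L) ⇑α u)
    (γ' : AlgebraicCycle Y ℤ)
    (hγ' : ⇑γ' = Cyc.c1CapFun δY L ⇑(AlgebraicCycle.map p δX δY α) v) :
    Cyc.RatEquiv δY k (AlgebraicCycle.map p δX δY γ) γ' := by
  have hM : PicF.IsInvertible ((Scheme.Modules.pullback p).obj L) := isInvertible_pullback p hL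
  have hu₀ : ∀ ξ : X, pullSec p L ξ (v (p ξ)) ≠ 0 := fun ξ => pullSec_ne_zero p hL ξ _ (hv _)
  have hβk : ∀ ξ, α ξ ≠ 0 → δX ξ = k + 1 := fun ξ h => by
    by_contra hne
    exact h (hα ξ hne)
  obtain ⟨D, hD, hDR⟩ := exists_cycle_c1CapFun_sub ((Scheme.Modules.pullback p).obj L) hM δX
    hdimX k ⇑α hβk α.locallyFiniteSupport u (fun ξ => pullSec p L ξ (v (p ξ))) hu hu₀
  have hγ₀ : ⇑(γ - D) = Cyc.c1CapFun δX ((Scheme.Modules.pullback p).obj L) ⇑α
      (fun ξ => pullSec p L ξ (v (p ξ))) := by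
    funext x
    rw [Function.locallyFinsuppWithin.coe_sub, Pi.sub_apply, hD x, hγ]
    ring
  have hpush : AlgebraicCycle.map p δX δY (γ - D) = γ' := by
    ext y
    simp only [AlgebraicCycle.map, Function.locallyFinsupp.map_apply]
    rw [hγ₀, hγ']
    exact push_c1CapFun_pullSec p δX δY hdimX hdimY hδ L hL α v hv y
  show Cyc.RatEquivZero δY k (AlgebraicCycle.map p δX δY γ - γ')
  rw [← hpush, map_sub, sub_sub_cancel]
  exact ratEquivZero_map p δX δY hdimX hdimY hδ k D hDR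

end Groth.Agent.Lib.Helper18.Push
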