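import Mathlib
import Groth.Prelude.Def_Cyc
import Groth.Prelude.Def_C1
import Groth.Prelude.Def_Pic
import Groth.Agent.Lib.Helper18.Push.ProjFormula
import Groth.Agent.Lib.Helper18.Push.BaseChangeKer
import Groth.Agent.Lib.Helper18.Cyc.DivFamily

/-!
# Gysin maps commute with proper pushforward
-/

set_option autoImplicit false
set_option linter.style.haveILetI false
universe u
open AlgebraicGeometry CategoryTheory IsLocalRing Limits

namespace Groth.Agent.Lib.Helper18.Push

open Groth.Agent.Lib.Helper18.CycMap Groth.Agent.Lib.Helper18.CycDiv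
open Groth.Agent.Lib.Helper18.C1Core Groth.Agent.Lib.Helper18.InvStalk
open Groth.Agent.Lib.Helper28.PullbackInv

section general

variable {X : Scheme.{u}}

theorem gysinChoice_ne_zero (L : X.Modules) (s : L.presheaf.obj (Opposite.op ⊤))
    (w : (ξ : X) → Cyc.secFibre L ξ) (hw : ∀ ξ, w ξ ≠ 0) (ξ : X) :
    Cyc.gysinChoice L s w ξ ≠ 0 := by
  unfold Cyc.gysinChoice
  split_ifs with h
  · exact h
  · exact hw ξ

theorem gysinChoice_of_ne_zero (L : X.Modules) (s : L.presheaf.obj (Opposite.op ⊤))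
    (w : (ξ : X) → Cyc.secFibre L ξ) (ξ : X)
    (h : (Submodule.Quotient.mk ((L.presheaf.germ ⊤ ξ trivial) s) : Cyc.secFibre L ξ) ≠ 0) :
    Cyc.gysinChoice L s w ξ = Submodule.Quotient.mk ((L.presheaf.germ ⊤ ξ trivial) s) := by
  unfold Cyc.gysinChoice
  rw [if_pos h]

/-- The germ at a generization, in terms of the germ at `x`. -/
theorem mk_germ_eq_smul (L : X.Modules) (σ : L.presheaf.obj (Opposite.op ⊤)) {ξ x : X}
    (h : ξ ⤳ x) (t : L.presheaf.stalk x) (a : X.presheaf.stalk x)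
    (hσ : L.presheaf.germ ⊤ x trivial σ = a • t) :
    (Submodule.Quotient.mk (L.presheaf.germ ⊤ ξ trivial σ) : Cyc.secFibre L ξ) =
      X.presheaf.stalkSpecializes h a •
        (Submodule.Quotient.mk (L.presheaf.stalkSpecializes h t) : Cyc.secFibre L ξ) := by
  have h1 : L.presheaf.germ ⊤ ξ trivial σ =
      L.presheaf.stalkSpecializes h (L.presheaf.germ ⊤ x trivial σ) :=
    (TopCat.Presheaf.germ_stalkSpecializes_apply _ _ _ _).symm
  rw [h1, hσ, stalkSpecializes_smul, Submodule.Quotient.mk_smul]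

theorem specMap_ne_zero_of_mk_germ_ne_zero (L : X.Modules) (σ : L.presheaf.obj (Opposite.op ⊤))
    {ξ x : X} (h : ξ ⤳ x) (t : L.presheaf.stalk x) (a : X.presheaf.stalk x)
    (hσ : L.presheaf.germ ⊤ x trivial σ = a • t)
    (hne : (Submodule.Quotient.mk (L.presheaf.germ ⊤ ξ trivial σ) : Cyc.secFibre L ξ) ≠ 0) :
    Cyc.specMap x ξ h a ≠ 0 := by
  rw [mk_germ_eq_smul L σ h t a hσ] at hne
  exact residue_ne_zero_of_smul_mk_ne_zero L _ hne

/-- The order of a global section along `ξ ⤳ x`, through its local equation at `x`. -/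
theorem secOrdAt_mk_germ [IsLocallyNoetherian X] (L : X.Modules) (hL : PicF.IsInvertible L)
    (σ : L.presheaf.obj (Opposite.op ⊤)) {ξ x : X} (h : ξ ⤳ x)
    (hd : Ring.KrullDimLE 1 (Cyc.LocQuot x ξ h)) {t : L.presheaf.stalk x}
    (ht : FreeGen (X.presheaf.stalk x) t) (a : X.presheaf.stalk x)
    (hσ : L.presheaf.germ ⊤ x trivial σ = a • t) (ha : Cyc.specMap x ξ h a ≠ 0) :
    Cyc.secOrdAt L ξ x h
        (Submodule.Quotient.mk (L.presheaf.germ ⊤ ξ trivial σ) : Cyc.secFibre L ξ) =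
      Cyc.ordAt x ξ h (Cyc.specMap x ξ h a) := by
  rw [mk_germ_eq_smul L σ h t a hσ]
  exact secOrdAt_smul_mk_of_freeGen L hL h hd ht _ ha

theorem ordAt_specMap_nonneg [IsLocallyNoetherian X] {x ξ : X} (h : ξ ⤳ x)
    (hd : Ring.KrullDimLE 1 (Cyc.LocQuot x ξ h)) (a : X.presheaf.stalk x)
    (ha : Cyc.specMap x ξ h a ≠ 0) : 0 ≤ Cyc.ordAt x ξ h (Cyc.specMap x ξ h a) := by
  rw [ordAt_specMap h hd a ha]
  exact Int.natCast_nonneg _

/-- Two elements of `O_{X,x}` generating the same ideal have the same order along `ξ ⤳ x`. -/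
theorem ordAt_specMap_eq_of_span_eq [IsLocallyNoetherian X] {x ξ : X} (h : ξ ⤳ x)
    (hd : Ring.KrullDimLE 1 (Cyc.LocQuot x ξ h)) (a b : X.presheaf.stalk x)
    (hab : Ideal.span {a} = Ideal.span {b}) (ha : Cyc.specMap x ξ h a ≠ 0) :
    Cyc.specMap x ξ h b ≠ 0 ∧
      Cyc.ordAt x ξ h (Cyc.specMap x ξ h a) = Cyc.ordAt x ξ h (Cyc.specMap x ξ h b) := by
  have h1 : a ∈ Ideal.span {b} := hab ▸ Ideal.mem_span_singleton_self a
  have h2 : b ∈ Ideal.span {a} := hab.symm ▸ Ideal.mem_span_singleton_self b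
  obtain ⟨c, hc⟩ := Ideal.mem_span_singleton'.1 h1
  obtain ⟨c', hc'⟩ := Ideal.mem_span_singleton'.1 h2
  have e1 : Cyc.specMap x ξ h a = Cyc.specMap x ξ h c * Cyc.specMap x ξ h b := by
    rw [← map_mul, hc]
  have e2 : Cyc.specMap x ξ h b = Cyc.specMap x ξ h c' * Cyc.specMap x ξ h a := by
    rw [← map_mul, hc']
  have hb : Cyc.specMap x ξ h b ≠ 0 := fun h0 => ha (by rw [e1, h0, mul_zero])
  have hcne : Cyc.specMap x ξ h c ≠ 0 := fun h0 => ha (by rw [e1, h0, zero_mul])
  have hcne' : Cyc.specMap x ξ h c' ≠ 0 := fun h0 => hb (by rw [e2, h0, zero_mul])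
  refine ⟨hb, le_antisymm ?_ ?_⟩
  · have := ordAt_specMap_nonneg h hd c' hcne'
    have e := ordAt_mul h hd hcne' ha
    rw [← e2] at e
    omega
  · have := ordAt_specMap_nonneg h hd c hcne
    have e := ordAt_mul h hd hcne hb
    rw [← e1] at e
    omega

end general

section square

variable {X X' D : Scheme.{u}} (f : X' ⟶ X) (i : D ⟶ X) [IsClosedImmersion i]

/-- The local equation of a zero scheme, at a point equal to `i d`. -/
theorem zeroScheme_at (L : X.Modules) (s : L.presheaf.obj (Opposite.op ⊤))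
    (hD : Cyc.IsZeroSchemeOf i L s) (d : D) (y : X) (h : i d = y) :
    ∃ (t : L.presheaf.stalk y) (a : X.presheaf.stalk y),
      Submodule.span (X.presheaf.stalk y) {t} = ⊤ ∧ L.presheaf.germ ⊤ y trivial s = a • t ∧
        RingHom.ker (stalkMapOfEq i d y h) = Ideal.span {a} := by
  subst h
  obtain ⟨t, a, h1, h2, h3⟩ := hD.2 d
  refine ⟨t, a, h1, h2, ?_⟩
  rw [← h3]
  ext b
  rw [RingHom.mem_ker, RingHom.mem_ker, stalkMapOfEq_rfl]

/-- **Key local computation**: along a specialization `ξ' ⤳ i' z` from a point off `D'`, the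
pulled back section of `L` and the section `s'` have the same order. -/
theorem secOrdAt_pullSec_gysinChoice [IsLocallyNoetherian X] [IsLocallyNoetherian X']
    (L : X.Modules) (hL : PicF.IsInvertible L) (s : L.presheaf.obj (Opposite.op ⊤))
    (hD : Cyc.IsZeroSchemeOf i L s)
    (s' : ((Scheme.Modules.pullback f).obj L).presheaf.obj (Opposite.op ⊤))
    (hD' : Cyc.IsZeroSchemeOf (pullback.fst f i) ((Scheme.Modules.pullback f).obj L) s')
    (w : (ξ : X) → Cyc.secFibre L ξ)
    (w' : (ξ : X') → Cyc.secFibre ((Scheme.Modules.pullback f).obj L) ξ)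
    (ξ' : X') (hξ' : ξ' ∉ Set.range (pullback.fst f i)) (z : ↥(pullback f i))
    (h : ξ' ⤳ pullback.fst f i z)
    (hd : Ring.KrullDimLE 1 (Cyc.LocQuot (pullback.fst f i z) ξ' h)) :
    Cyc.secOrdAt ((Scheme.Modules.pullback f).obj L) ξ' (pullback.fst f i z) h
        (pullSec f L ξ' (Cyc.gysinChoice L s w (f ξ'))) =
      Cyc.secOrdAt ((Scheme.Modules.pullback f).obj L) ξ' (pullback.fst f i z) h
        (Cyc.gysinChoice ((Scheme.Modules.pullback f).obj L) s' w' ξ') := by
  have hM : PicF.IsInvertible ((Scheme.Modules.pullback f).obj L) := isInvertible_pullback f hL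
  have hc : i (pullback.snd f i z) = f (pullback.fst f i z) :=
    apply_square (pullback.fst f i) i f (pullback.snd f i) pullback.condition.symm z
  obtain ⟨t, a, ht, hs, hker⟩ := zeroScheme_at i L s hD (pullback.snd f i z) _ hc
  obtain ⟨t', a', ht', hs', hker'⟩ := hD'.2 z
  have hξ'ne : (Submodule.Quotient.mk
      ((((Scheme.Modules.pullback f).obj L).presheaf.germ ⊤ ξ' trivial) s') :
      Cyc.secFibre ((Scheme.Modules.pullback f).obj L) ξ') ≠ 0 := by
    intro h0
    apply hξ'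
    rw [hD'.1]
    exact h0
  have hfξ' : f ξ' ∉ Set.range i := fun hr => hξ' (by
    rw [Scheme.Pullback.range_fst]
    exact hr)
  have hfξ'ne : (Submodule.Quotient.mk ((L.presheaf.germ ⊤ (f ξ') trivial) s) :
      Cyc.secFibre L (f ξ')) ≠ 0 := by
    intro h0
    apply hfξ'
    rw [hD.1]
    exact h0
  rw [gysinChoice_of_ne_zero _ _ _ _ hξ'ne, gysinChoice_of_ne_zero _ _ _ _ hfξ'ne]
  have h' : f ξ' ⤳ f (pullback.fst f i z) := h.map f.continuous
  have ha' : Cyc.specMap (pullback.fst f i z) ξ' h a' ≠ 0 :=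
    specMap_ne_zero_of_mk_germ_ne_zero _ s' h t' a' hs' hξ'ne
  rw [secOrdAt_mk_germ _ hM s' h hd (freeGen_of_span_eq_top _ hM ht') a' hs' ha']
  -- the ideals
  have hspan : Ideal.span {a'} =
      Ideal.span {(f.stalkMap (pullback.fst f i z)).hom a} := by
    rw [← hker', le_antisymm (ker_stalkMap_fst_le f i z hc) (map_ker_le_ker_stalkMap_fst f i z hc),
      hker, Ideal.map_span, Set.image_singleton]
  obtain ⟨hb, hord⟩ := ordAt_specMap_eq_of_span_eq h hd a' _ hspan ha'
  have hnat : (f.stalkMap ξ').hom (X.presheaf.stalkSpecializes h' a) =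
      X'.presheaf.stalkSpecializes h ((f.stalkMap (pullback.fst f i z)).hom a) := by
    have := congrArg (fun φ => (ConcreteCategory.hom φ) a)
      (Scheme.Hom.stalkSpecializes_stalkMap f ξ' (pullback.fst f i z) h)
    exact this
  have hne : X'.residue ξ' ((f.stalkMap ξ').hom (X.presheaf.stalkSpecializes h' a)) ≠ 0 := by
    rw [hnat]
    exact hb
  rw [mk_germ_eq_smul L s h' t a hs,
    pullSec_smul_mk f ξ' (freeGen_stalkSpecializes L hL h' ht) _,
    ← pg_stalkSpecializes f L h h' t,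
    secOrdAt_smul_mk_of_freeGen _ hM h hd
      (freeGen_pg f hL (pullback.fst f i z) (freeGen_of_span_eq_top L hL ht)) _ hne, hnat, hord]
  rfl

/-- Reindexing a fibre sum on `X'` over `i d` as a fibre sum on the fibre product. -/
theorem finsum_fibre_pullback (T : X' → ℤ) (d : D) :
    ∑ᶠ x ∈ f ⁻¹' {i d}, T x =
      ∑ᶠ z ∈ (pullback.snd f i) ⁻¹' {d}, T (pullback.fst f i z) := by
  have hinj : Function.Injective (pullback.fst f i) :=
    (pullback.fst f i).isClosedEmbedding.injective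
  have hiinj : Function.Injective i := i.isClosedEmbedding.injective
  rw [← finsum_mem_image (hinj.injOn)]
  refine finsum_mem_congr ?_ (fun _ _ => rfl)
  ext x
  simp only [Set.mem_preimage, Set.mem_singleton_iff, Set.mem_image]
  constructor
  · intro hx
    obtain ⟨z, hz1, hz2⟩ := Scheme.Pullback.exists_preimage_pullback (f := f) (g := i) x d hx
    exact ⟨z, hz2, hz1⟩
  · rintro ⟨z, hz, rfl⟩
    rw [← hz]
    exact (apply_square (pullback.fst f i) i f (pullback.snd f i) pullback.condition.symm z).symm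

end square

section diff

variable {X : Scheme.{u}}

/-- The difference of `c_1(L) ∩ β` for two choices of sections related by `ψ`. -/
theorem c1CapFun_sub_eq_finsum [IsLocallyNoetherian X] (L : X.Modules)
    (hL : PicF.IsInvertible L) (δ : X → ℤ) (hδ : Cyc.IsDimFun X δ)
    (β : X → ℤ) (hβ : LocallyFiniteSupport β)
    (s s' : (ξ : X) → Cyc.secFibre L ξ) (hs' : ∀ ξ, s' ξ ≠ 0)
    (ψ : (ξ : X) → X.presheaf.stalk ξ) (hψ0 : ∀ ξ, X.residue ξ (ψ ξ) ≠ 0)
    (hψs : ∀ ξ, s ξ = ψ ξ • s' ξ) (x : X) :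
    Cyc.c1CapFun δ L β s x - Cyc.c1CapFun δ L β s' x =
      ∑ᶠ j : {ξ : X // β ξ ≠ 0}, Cyc.divFun δ j.1 ((X.residue j.1 (ψ j.1)) ^ (β j.1)) x := by
  classical
  show ∑ᶠ ξ : X, β ξ * Cyc.secDivFun δ L ξ (s ξ) x -
    ∑ᶠ ξ : X, β ξ * Cyc.secDivFun δ L ξ (s' ξ) x = _
  rw [← finsum_sub_distrib (finite_support_c1Cap_term L δ β hβ s x)
    (finite_support_c1Cap_term L δ β hβ s' x)]
  rw [finsum_eq_finsum_subtype (fun ξ : X => β ξ * Cyc.secDivFun δ L ξ (s ξ) x -
    β ξ * Cyc.secDivFun δ L ξ (s' ξ) x) (fun ξ => β ξ ≠ 0)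
    (fun a ha h0 => ha (by show _ - _ = 0; rw [h0, zero_mul, zero_mul, sub_zero]))]
  apply finsum_congr
  intro j
  show β j.1 * Cyc.secDivFun δ L j.1 (s j.1) x - β j.1 * Cyc.secDivFun δ L j.1 (s' j.1) x = _
  rw [divFun_zpow]
  conv_lhs => rw [hψs j.1]
  rw [secDivFun_smul L hL δ hδ j.1 (ψ j.1) (hψ0 j.1) (s' j.1) (hs' j.1) x]
  ring

end diff

section main

variable {X X' D : Scheme.{u}} (f : X' ⟶ X) (i : D ⟶ X) [IsClosedImmersion i]

/-- The difference between the Gysin classes computed with the pulled back sections and with the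
sections of `f^*L` determined by `s'`, restricted to the fibre product, is rationally equivalent
to zero on the fibre product. -/
theorem exists_gysin_diff [IsLocallyNoetherian X] [IsLocallyNoetherian X']
    (δ' : X' → ℤ) (hdim' : Cyc.IsDimFun X' δ')
    (L : X.Modules) (hL : PicF.IsInvertible L)
    (s : L.presheaf.obj (Opposite.op ⊤)) (hD : Cyc.IsZeroSchemeOf i L s)
    (s' : ((Scheme.Modules.pullback f).obj L).presheaf.obj (Opposite.op ⊤))
    (hD' : Cyc.IsZeroSchemeOf (pullback.fst f i) ((Scheme.Modules.pullback f).obj L) s')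
    (k : ℤ) (α' : AlgebraicCycle X' ℤ) (hα' : α' ∈ Cyc.Zk X' δ' (k + 1))
    (w : (ξ : X) → Cyc.secFibre L ξ) (hw : ∀ ξ, w ξ ≠ 0)
    (w' : (ξ : X') → Cyc.secFibre ((Scheme.Modules.pullback f).obj L) ξ) (hw' : ∀ ξ, w' ξ ≠ 0) :
    ∃ E : AlgebraicCycle (pullback f i) ℤ,
      Cyc.RatEquivZero (fun z => δ' (pullback.fst f i z)) k E ∧
      ∀ z, E z = Cyc.c1CapFun δ' ((Scheme.Modules.pullback f).obj L) ⇑α'
          (fun ξ => pullSec f L ξ (Cyc.gysinChoice L s w (f ξ))) (pullback.fst f i z) -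
        Cyc.c1CapFun δ' ((Scheme.Modules.pullback f).obj L) ⇑α'
          (Cyc.gysinChoice ((Scheme.Modules.pullback f).obj L) s' w') (pullback.fst f i z) := by
  classical
  have hM : PicF.IsInvertible ((Scheme.Modules.pullback f).obj L) := isInvertible_pullback f hL
  haveI : IsLocallyNoetherian (pullback f i) :=
    LocallyOfFiniteType.isLocallyNoetherian (pullback.fst f i)
  set v := Cyc.gysinChoice L s w with hv_def
  set v' := Cyc.gysinChoice ((Scheme.Modules.pullback f).obj L) s' w' with hv'_def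
  have hv : ∀ η, v η ≠ 0 := gysinChoice_ne_zero L s w hw
  have hv' : ∀ ξ, v' ξ ≠ 0 := gysinChoice_ne_zero _ s' w' hw'
  have hu₀ : ∀ ξ : X', pullSec f L ξ (v (f ξ)) ≠ 0 := fun ξ => pullSec_ne_zero f hL ξ _ (hv _)
  choose ψ hψ0 hψs using fun ξ : X' =>
    exists_smul_eq ((Scheme.Modules.pullback f).obj L) hM ξ (pullSec f L ξ (v (f ξ))) (v' ξ)
      (hu₀ ξ) (hv' ξ)
  have hform := c1CapFun_sub_eq_finsum ((Scheme.Modules.pullback f).obj L) hM δ' hdim' ⇑α'
    α'.locallyFiniteSupport (fun ξ => pullSec f L ξ (v (f ξ))) v' hv' ψ hψ0 hψs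
  -- vanishing of the terms off `D'`
  have hvan : ∀ (ξ' : X'), ξ' ∉ Set.range (pullback.fst f i) → ∀ z : ↥(pullback f i),
      Cyc.divFun δ' ξ' (X'.residue ξ' (ψ ξ')) (pullback.fst f i z) = 0 := by
    intro ξ' hξ' z
    have h1 := secDivFun_smul ((Scheme.Modules.pullback f).obj L) hM δ' hdim' ξ' (ψ ξ')
      (hψ0 ξ') (v' ξ') (hv' ξ') (pullback.fst f i z)
    rw [← hψs ξ'] at h1
    have h2 : Cyc.secDivFun δ' ((Scheme.Modules.pullback f).obj L) ξ'
        (pullSec f L ξ' (v (f ξ'))) (pullback.fst f i z) =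
        Cyc.secDivFun δ' ((Scheme.Modules.pullback f).obj L) ξ' (v' ξ') (pullback.fst f i z) := by
      unfold Cyc.secDivFun
      by_cases hc : ξ' ⤳ pullback.fst f i z ∧ δ' (pullback.fst f i z) + 1 = δ' ξ'
      · rw [dif_pos hc, dif_pos hc]
        exact secOrdAt_pullSec_gysinChoice f i L hL s hD s' hD' w w' ξ' hξ' z hc.1
          (krullDimLE_one_locQuot δ' hdim' hc.1 hc.2)
      · rw [dif_neg hc, dif_neg hc]
    omega
  -- the correcting cycle on the fibre product
  let ι : Type u := {ζ : ↥(pullback f i) // α' (pullback.fst f i ζ) ≠ 0}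
  let Φ : (ζ : ι) → (pullback f i).residueField ζ.1 := fun ζ =>
    (((pullback.fst f i).residueFieldMap ζ.1).hom
      (X'.residue (pullback.fst f i ζ.1) (ψ (pullback.fst f i ζ.1)))) ^
        (α' (pullback.fst f i ζ.1))
  have hΦ : ∀ ζ, Φ ζ ≠ 0 := fun ζ => zpow_ne_zero _
    ((map_ne_zero_iff _ ((pullback.fst f i).residueFieldMap ζ.1).hom.injective).2 (hψ0 _))
  have hinj : Function.Injective (pullback.fst f i) :=
    (pullback.fst f i).isClosedEmbedding.injective
  have hlf : ∀ z : ↥(pullback f i), ∃ U : Set ↥(pullback f i), IsOpen U ∧ z ∈ U ∧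
      {ζ : ι | (closure {(ζ.1 : ↥(pullback f i))} ∩ U).Nonempty}.Finite := by
    intro z
    obtain ⟨t, ht, hfin⟩ := α'.locallyFiniteSupport (pullback.fst f i z)
    refine ⟨(pullback.fst f i) ⁻¹' (interior t),
      isOpen_interior.preimage (pullback.fst f i).continuous,
      mem_interior_iff_mem_nhds.2 ht, ?_⟩
    have hinj' : Function.Injective (fun ζ : ι => pullback.fst f i ζ.1) :=
      fun a b hab => Subtype.ext (hinj hab)
    refine Set.Finite.subset (hfin.preimage hinj'.injOn) ?_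
    rintro ζ ⟨y, hy1, hy2⟩
    have hζ : ζ.1 ∈ (pullback.fst f i) ⁻¹' (interior t) :=
      (specializes_iff_mem_closure.2 hy1).mem_open
        (isOpen_interior.preimage (pullback.fst f i).continuous) hy2
    exact ⟨interior_subset hζ, ζ.2⟩
  let E : AlgebraicCycle (pullback f i) ℤ :=
    { toFun := fun z => ∑ᶠ ζ : ι, Cyc.divFun (fun z => δ' (pullback.fst f i z)) ζ.1 (Φ ζ) z
      supportWithinDomain' := Set.subset_univ _
      supportLocallyFiniteWithinDomain' := fun y _ =>
        locallyFiniteSupport_finsum_divFun'' (fun z => δ' (pullback.fst f i z))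
          (fun ζ : ι => ζ.1) Φ hΦ hlf y }
  have hErat : Cyc.RatEquivZero (fun z => δ' (pullback.fst f i z)) k E := by
    refine ⟨ι, fun ζ => ζ.1, Φ, fun ζ => ?_, hΦ, hlf, fun x => rfl⟩
    by_contra hne
    exact ζ.2 (hα' _ hne)
  refine ⟨E, hErat, ?_⟩
  intro z
  rw [hform (pullback.fst f i z)]
  let e : ι → {ξ : X' // α' ξ ≠ 0} := fun ζ => ⟨pullback.fst f i ζ.1, ζ.2⟩
  have he : Function.Injective e := fun a b hab =>
    Subtype.ext (hinj (congrArg Subtype.val hab))
  have hsupp : ∀ j ∈ Function.support (fun j : {ξ : X' // α' ξ ≠ 0} =>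
      Cyc.divFun δ' j.1 ((X'.residue j.1 (ψ j.1)) ^ (α' j.1)) (pullback.fst f i z)),
      j ∈ Set.range e := by
    intro j hj
    by_contra hnr
    apply hj
    have hj' : j.1 ∉ Set.range (pullback.fst f i) := by
      rintro ⟨ζ, hζ⟩
      exact hnr ⟨⟨ζ, by rw [hζ]; exact j.2⟩, Subtype.ext hζ⟩
    show Cyc.divFun δ' j.1 _ (pullback.fst f i z) = 0
    rw [divFun_zpow, hvan j.1 hj' z, mul_zero]
  rw [← finsum_mem_univ, finsum_mem_inter_support_eq' _ Set.univ (Set.range e)
    (fun j hj => ⟨fun _ => hsupp j hj, fun _ => trivial⟩), finsum_mem_range he]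
  show ∑ᶠ ζ : ι, Cyc.divFun (fun z => δ' (pullback.fst f i z)) ζ.1 (Φ ζ) z = _
  refine finsum_congr fun ζ => ?_
  show _ = Cyc.divFun δ' (pullback.fst f i ζ.1) _ (pullback.fst f i z)
  rw [divFun_preimmersion (pullback.fst f i) δ' ζ.1 _ z, map_zpow₀]

/-- **Gysin maps commute with proper pushforward.** -/
theorem gysin_map_ratEquiv [IsLocallyNoetherian X] [IsLocallyNoetherian X'] [IsProper f]
    (δ : X → ℤ) (δ' : X' → ℤ) (hdim : Cyc.IsDimFun X δ) (hdim' : Cyc.IsDimFun X' δ')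
    (hδ : Cyc.DeltaCompat f δ' δ) (L : X.Modules) (hL : PicF.IsInvertible L)
    (s : L.presheaf.obj (Opposite.op ⊤)) (hD : Cyc.IsZeroSchemeOf i L s)
    (s' : ((Scheme.Modules.pullback f).obj L).presheaf.obj (Opposite.op ⊤))
    (hD' : Cyc.IsZeroSchemeOf (pullback.fst f i) ((Scheme.Modules.pullback f).obj L) s')
    (k : ℤ) (α' : AlgebraicCycle X' ℤ) (hα' : α' ∈ Cyc.Zk X' δ' (k + 1))
    (w : (ξ : X) → Cyc.secFibre L ξ) (hw : ∀ ξ, w ξ ≠ 0)
    (w' : (ξ : X') → Cyc.secFibre ((Scheme.Modules.pullback f).obj L) ξ) (hw' : ∀ ξ, w' ξ ≠ 0)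
    (γ : AlgebraicCycle D ℤ)
    (hγ : ∀ d, γ d = Cyc.c1CapFun δ L ⇑(AlgebraicCycle.map f δ' δ α')
      (Cyc.gysinChoice L s w) (i d))
    (γ' : AlgebraicCycle (pullback f i) ℤ)
    (hγ' : ∀ z, γ' z = Cyc.c1CapFun δ' ((Scheme.Modules.pullback f).obj L) ⇑α'
      (Cyc.gysinChoice ((Scheme.Modules.pullback f).obj L) s' w') (pullback.fst f i z)) :
    Cyc.RatEquiv (fun d => δ (i d)) k γ
      (AlgebraicCycle.map (pullback.snd f i) (fun z => δ' (pullback.fst f i z))
        (fun d => δ (i d)) γ') := by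
  classical
  haveI : IsLocallyNoetherian D := LocallyOfFiniteType.isLocallyNoetherian i
  haveI : IsLocallyNoetherian (pullback f i) :=
    LocallyOfFiniteType.isLocallyNoetherian (pullback.fst f i)
  have hdimD : Cyc.IsDimFun D (fun d => δ (i d)) := isDimFun_comp_of_isClosedImmersion i δ hdim
  have hdimP : Cyc.IsDimFun (pullback f i) (fun z => δ' (pullback.fst f i z)) :=
    isDimFun_comp_of_isClosedImmersion (pullback.fst f i) δ' hdim'
  have hq : pullback.snd f i ≫ i = pullback.fst f i ≫ f := pullback.condition.symm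
  have hδg : Cyc.DeltaCompat (pullback.snd f i) (fun z => δ' (pullback.fst f i z))
      (fun d => δ (i d)) := deltaCompat_square (pullback.fst f i) i f (pullback.snd f i) hq δ' δ hδ
  have hv : ∀ η, Cyc.gysinChoice L s w η ≠ 0 := gysinChoice_ne_zero L s w hw
  obtain ⟨E, hErat, hE⟩ := exists_gysin_diff f i δ' hdim' L hL s hD s' hD' k α' hα' w hw w' hw'
  -- `γ = g_*(γ' + E)`
  have hpush : AlgebraicCycle.map (pullback.snd f i) (fun z => δ' (pullback.fst f i z))
      (fun d => δ (i d)) (γ' + E) = γ := by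
    ext d
    simp only [AlgebraicCycle.map, Function.locallyFinsupp.map_apply]
    rw [hγ d, ← push_c1CapFun_pullSec f δ' δ hdim' hdim hδ L hL α' _ hv (i d),
      finsum_fibre_pullback f i _ d]
    refine finsum_mem_congr rfl fun z _ => ?_
    rw [mapCoeff_square (pullback.fst f i) i f (pullback.snd f i) hq δ' δ z,
      Function.locallyFinsuppWithin.coe_add, Pi.add_apply, hγ' z, hE z]
    ring
  show Cyc.RatEquivZero (fun d => δ (i d)) k (γ - _)
  have hsub : γ' + E - γ' = E := add_sub_cancel_left γ' E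
  rw [← hpush, ← Push.map_sub, hsub]
  exact ratEquivZero_map (pullback.snd f i) _ _ hdimP hdimD hδg k E hErat

end main

end Groth.Agent.Lib.Helper18.Push
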