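import Mathlib
import Groth.Prelude.Def_Cyc
import Groth.Prelude.Def_C1
import Groth.Prelude.Def_Pic
import Groth.Agent.Lib.Helper18.Push.GysinPush
import Groth.Agent.Lib.Helper18.Cyc.PullRat
import Groth.Agent.Lib.Helper18.Cyc.PullDivSum
import Groth.Agent.Lib.Helper18.Cyc.LimRat
import Groth.Agent.Lib.Helper18.Cyc.MVGeneral
import Groth.Agent.Lib.Helper18.FieldBC.LengthAlg

/-!
# Gysin maps commute with flat pullback
-/

set_option autoImplicit false
set_option linter.style.haveILetI false
universe u
open AlgebraicGeometry CategoryTheory IsLocalRing Limits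

namespace Groth.Agent.Lib.Helper18.Push

open Groth.Agent.Lib.Helper18.CycMap Groth.Agent.Lib.Helper18.CycDiv
open Groth.Agent.Lib.Helper18.C1Core Groth.Agent.Lib.Helper18.InvStalk
open Groth.Agent.Lib.Helper28.PullbackInv

/-- Lengths of quotients along a surjective ring homomorphism. -/
theorem length_quot_eq_of_surjective {A B : Type*} [CommRing A] [CommRing B] (φ : A →+* B)
    (hφ : Function.Surjective φ) (J : Ideal A) (J' : Ideal B) (h : Ideal.comap φ J' = J) :
    Module.length A (A ⧸ J) = Module.length B (B ⧸ J') := by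
  rw [Module.length_eq_of_surjective (R := A ⧸ J) (S := A) (M := A ⧸ J)
      Ideal.Quotient.mk_surjective,
    Module.length_eq_of_surjective (R := B ⧸ J') (S := B) (M := B ⧸ J')
      Ideal.Quotient.mk_surjective]
  let ψ : A →+* B ⧸ J' := (Ideal.Quotient.mk J').comp φ
  have hψ : Function.Surjective ψ := Ideal.Quotient.mk_surjective.comp hφ
  have hker : RingHom.ker ψ = J := by
    rw [← h]
    ext a
    rw [RingHom.mem_ker, Ideal.mem_comap]
    exact Ideal.Quotient.eq_zero_iff_mem
  exact Groth.Agent.Lib.Helper18.FieldBC.length_self_eq_of_ringEquiv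
    ((Ideal.quotEquivOfEq hker.symm).trans (RingHom.quotientKerEquivOfSurjective hψ))

section square

variable {X X' D : Scheme.{u}} (f : X' ⟶ X) (i : D ⟶ X)

/-- The commutativity of the fibre square, at stalks. -/
theorem stalkMap_fst_stalkMap (z : ↥(pullback f i))
    (hc : i (pullback.snd f i z) = f (pullback.fst f i z))
    (a : X.presheaf.stalk (f (pullback.fst f i z))) :
    ((pullback.fst f i).stalkMap z).hom ((f.stalkMap (pullback.fst f i z)).hom a) =
      ((pullback.snd f i).stalkMap z).hom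
        (stalkMapOfEq i (pullback.snd f i z) (f (pullback.fst f i z)) hc a) := by
  have h1 : ((pullback.fst f i ≫ f).stalkMap z).hom a =
      ((pullback.fst f i).stalkMap z).hom ((f.stalkMap (pullback.fst f i z)).hom a) := by
    rw [Scheme.Hom.stalkMap_comp]
    rfl
  rw [← h1, Scheme.Hom.stalkMap_congr_hom _ _ (pullback.condition (f := f) (g := i)) z,
    Scheme.Hom.stalkMap_comp]
  show ((pullback.snd f i).stalkMap z).hom ((i.stalkMap (pullback.snd f i z)).hom
    ((X.presheaf.stalkCongr _).hom.hom a)) = _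
  have h2 : ∀ (e : Inseparable (f (pullback.fst f i z)) (i (pullback.snd f i z))),
      (i.stalkMap (pullback.snd f i z)).hom ((X.presheaf.stalkCongr e).hom.hom a) =
      stalkMapOfEq i (pullback.snd f i z) (f (pullback.fst f i z)) hc a := by
    intro e
    unfold stalkMapOfEq
    rw [TopCat.Presheaf.stalkCongr_hom]
    rfl
  exact congrArg ((pullback.snd f i).stalkMap z).hom (h2 _)

variable [IsClosedImmersion i]

/-- The image of the maximal ideal under a surjective local homomorphism. -/
theorem map_maximalIdeal_of_surjective {A B : Type*} [CommRing A] [CommRing B] [IsLocalRing A]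
    [IsLocalRing B] (σ : A →+* B) [IsLocalHom σ] (hσ : Function.Surjective σ) :
    Ideal.map σ (maximalIdeal A) = maximalIdeal B := by
  apply le_antisymm
  · rw [Ideal.map_le_iff_le_comap]
    intro a ha
    rw [Ideal.mem_comap, mem_maximalIdeal, mem_nonunits_iff]
    rw [mem_maximalIdeal, mem_nonunits_iff] at ha
    exact fun hu => ha (isUnit_of_map_unit σ a hu)
  · intro b hb
    obtain ⟨a, rfl⟩ := hσ b
    apply Ideal.mem_map_of_mem
    rw [mem_maximalIdeal, mem_nonunits_iff] at hb ⊢
    exact fun hu => hb (hu.map σ)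

/-- The fibre lengths of `g : X' ×_X D → D` and of `f : X' → X` agree. -/
theorem fibLen_snd_eq (z : ↥(pullback f i)) :
    Module.length ((pullback f i).presheaf.stalk z) ((pullback f i).presheaf.stalk z ⧸
      Ideal.map ((pullback.snd f i).stalkMap z).hom
        (maximalIdeal (D.presheaf.stalk (pullback.snd f i z)))) =
    Module.length (X'.presheaf.stalk (pullback.fst f i z))
      (X'.presheaf.stalk (pullback.fst f i z) ⧸
        Ideal.map (f.stalkMap (pullback.fst f i z)).hom
          (maximalIdeal (X.presheaf.stalk (f (pullback.fst f i z))))) := by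
  have hc : i (pullback.snd f i z) = f (pullback.fst f i z) :=
    apply_square (pullback.fst f i) i f (pullback.snd f i) pullback.condition.symm z
  symm
  apply length_quot_eq_of_surjective ((pullback.fst f i).stalkMap z).hom
    ((pullback.fst f i).stalkMap_surjective z)
  set σ := stalkMapOfEq i (pullback.snd f i z) (f (pullback.fst f i z)) hc with hσ
  have hσs : Function.Surjective σ := stalkMapOfEq_surjective i _ _ hc
  have hmap : Ideal.map ((pullback.fst f i).stalkMap z).hom
      (Ideal.map (f.stalkMap (pullback.fst f i z)).hom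
        (maximalIdeal (X.presheaf.stalk (f (pullback.fst f i z))))) =
      Ideal.map ((pullback.snd f i).stalkMap z).hom
        (maximalIdeal (D.presheaf.stalk (pullback.snd f i z))) := by
    rw [Ideal.map_map, ← map_maximalIdeal_of_surjective σ hσs, Ideal.map_map]
    congr 1
    ext a
    exact stalkMap_fst_stalkMap f i z hc a
  rw [← hmap, Ideal.comap_map_of_surjective _ ((pullback.fst f i).stalkMap_surjective z)]
  apply le_antisymm
  · apply sup_le le_rfl
    have h1 : Ideal.comap ((pullback.fst f i).stalkMap z).hom ⊥ =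
        RingHom.ker ((pullback.fst f i).stalkMap z).hom := rfl
    rw [h1]
    refine (ker_stalkMap_fst_le f i z hc).trans (Ideal.map_mono ?_)
    intro a ha
    rw [RingHom.mem_ker] at ha
    rw [mem_maximalIdeal, mem_nonunits_iff]
    intro hu
    have := hu.map σ
    rw [ha] at this
    exact not_isUnit_zero this
  · exact le_sup_left

/-- Flat pullback along `g` of a function restricted to `D`. -/
theorem pullFun_snd_eq (δ : X → ℤ) (δ' : X' → ℤ) (r : ℤ) (T : X → ℤ) (z : ↥(pullback f i)) :
    Cyc.pullFun (pullback.snd f i) (fun z => δ' (pullback.fst f i z)) (fun d => δ (i d)) r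
        (fun d => T (i d)) z =
      Cyc.pullFun f δ' δ r T (pullback.fst f i z) := by
  have hc : i (pullback.snd f i z) = f (pullback.fst f i z) :=
    apply_square (pullback.fst f i) i f (pullback.snd f i) pullback.condition.symm z
  unfold Cyc.pullFun
  show (if δ' (pullback.fst f i z) = δ (i (pullback.snd f i z)) + r then
    T (i (pullback.snd f i z)) * _ else 0) = _
  rw [fibLen_snd_eq f i z, hc]

/-- **Gysin maps commute with flat pullback.** -/
theorem gysin_pullFun_ratEquiv [IsLocallyNoetherian X] [IsLocallyNoetherian X'] [Flat f]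
    [LocallyOfFiniteType f] (δ : X → ℤ) (δ' : X' → ℤ) (hdim : Cyc.IsDimFun X δ)
    (hdim' : Cyc.IsDimFun X' δ') (r : ℕ) (hr : Cyc.HasRelDim f r)
    (hδ : Cyc.DeltaCompat f δ' δ) (L : X.Modules) (hL : PicF.IsInvertible L)
    (s : L.presheaf.obj (Opposite.op ⊤)) (hD : Cyc.IsZeroSchemeOf i L s)
    (s' : ((Scheme.Modules.pullback f).obj L).presheaf.obj (Opposite.op ⊤))
    (hD' : Cyc.IsZeroSchemeOf (pullback.fst f i) ((Scheme.Modules.pullback f).obj L) s')
    (k : ℤ) (α : AlgebraicCycle X ℤ) (hα : α ∈ Cyc.Zk X δ (k + 1))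
    (w : (ξ : X) → Cyc.secFibre L ξ) (hw : ∀ ξ, w ξ ≠ 0)
    (w' : (ξ : X') → Cyc.secFibre ((Scheme.Modules.pullback f).obj L) ξ) (hw' : ∀ ξ, w' ξ ≠ 0)
    (ζ₁ ζ₂ : AlgebraicCycle (pullback f i) ℤ)
    (h₁ : ∀ z, ζ₁ z = Cyc.c1CapFun δ' ((Scheme.Modules.pullback f).obj L)
      (Cyc.pullFun f δ' δ r ⇑α)
      (Cyc.gysinChoice ((Scheme.Modules.pullback f).obj L) s' w') (pullback.fst f i z))
    (h₂ : ⇑ζ₂ = Cyc.pullFun (pullback.snd f i) (fun z => δ' (pullback.fst f i z))
      (fun d => δ (i d)) r
      (fun d => Cyc.c1CapFun δ L ⇑α (Cyc.gysinChoice L s w) (i d))) :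
    Cyc.RatEquiv (fun z => δ' (pullback.fst f i z)) (k + r) ζ₁ ζ₂ := by
  classical
  have hv : ∀ η, Cyc.gysinChoice L s w η ≠ 0 := gysinChoice_ne_zero L s w hw
  let α' : AlgebraicCycle X' ℤ :=
    { toFun := Cyc.pullFun f δ' δ r ⇑α
      supportWithinDomain' := Set.subset_univ _
      supportLocallyFiniteWithinDomain' := fun y _ =>
        locallyFiniteSupport_pullFun f δ' δ r α y }
  have hα' : α' ∈ Cyc.Zk X' δ' (k + r + 1) := by
    intro x hx
    show Cyc.pullFun f δ' δ r ⇑α x = 0
    unfold Cyc.pullFun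
    split_ifs with h
    · have : δ (f x) ≠ k + 1 := fun h0 => hx (by rw [h, h0]; ring)
      rw [hα (f x) this, zero_mul]
    · rfl
  obtain ⟨E, hErat, hE⟩ := exists_gysin_diff f i δ' hdim' L hL s hD s' hD' (k + r) α' hα'
    w hw w' hw'
  have hαlf : LocallyFiniteSupport ⇑α :=
    fun z => α.supportLocallyFiniteWithinDomain z (Set.mem_univ z)
  have hkey : ζ₁ - ζ₂ = -E := by
    ext z
    rw [Function.locallyFinsuppWithin.coe_sub, Pi.sub_apply,
      Function.locallyFinsuppWithin.coe_neg, Pi.neg_apply, hE z, h₁ z, h₂,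
      pullFun_snd_eq f i δ δ' r (Cyc.c1CapFun δ L ⇑α (Cyc.gysinChoice L s w)) z,
      pullFun_c1CapFun f δ' δ hdim' hdim r
        (fun ξ g hg x => pullFun_divFun_gen f δ' δ hdim' hdim r hr hδ ξ g hg x)
        (fun ξ ξ' => delta_fibIdx f δ' δ r hr hδ ξ')
        (fun x h => isMax_fibre_of_delta f δ' δ hdim' r hr hδ x h)
        L hL ⇑α hαlf _ hv (pullback.fst f i z)]
    show _ = -(Cyc.c1CapFun δ' _ (Cyc.pullFun f δ' δ r ⇑α) _ _ -
      Cyc.c1CapFun δ' _ (Cyc.pullFun f δ' δ r ⇑α) _ _)
    ring
  show Cyc.RatEquivZero _ (k + r) (ζ₁ - ζ₂)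
  rw [hkey]
  exact ratEquivZero_neg _ _ E hErat

end square

end Groth.Agent.Lib.Helper18.Push
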