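import Mathlib
import Groth.Prelude.Def_Cyc
import Groth.Prelude.Def_C1
import Groth.Prelude.Def_Pic
import Groth.Agent.Lib.Helper18.Push.GysinPush
import Groth.Agent.Lib.Helper18.Push.BCKer

/-!
# Gysin maps and base change, for arbitrary pullback squares
-/

set_option autoImplicit false
set_option linter.style.haveILetI false
universe u
open AlgebraicGeometry CategoryTheory IsLocalRing Limits

namespace Groth.Agent.Lib.Helper18.Push

open Groth.Agent.Lib.Helper18.CycMap Groth.Agent.Lib.Helper18.CycDiv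
open Groth.Agent.Lib.Helper18.C1Core Groth.Agent.Lib.Helper18.InvStalk
open Groth.Agent.Lib.Helper28.PullbackInv

section sq

variable {X X' D P : Scheme.{u}} {f : X' ⟶ X} {i : D ⟶ X} {i' : P ⟶ X'} {g : P ⟶ D}
  (sq : IsPullback i' g f i)

include sq in
theorem range_eq_of_isPullback : Set.range i' = f ⁻¹' (Set.range i) := by
  ext x
  constructor
  · rintro ⟨z, rfl⟩
    exact ⟨g z, (sq_apply sq z)⟩
  · rintro ⟨d, hd⟩
    obtain ⟨z, hz, -⟩ := Scheme.exists_preimage_of_isPullback sq x d hd.symm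
    exact ⟨z, hz⟩

variable [IsClosedImmersion i] [IsClosedImmersion i']

include sq in
/-- **Key local computation**: along a specialization `ξ' ⤳ i' z` from a point off `D'`, the
pulled back section of `L` and the section `s'` have the same order. -/
theorem secOrdAt_pullSec_gysinChoice_sq [IsLocallyNoetherian X] [IsLocallyNoetherian X']
    (L : X.Modules) (hL : PicF.IsInvertible L) (s : L.presheaf.obj (Opposite.op ⊤))
    (hD : Cyc.IsZeroSchemeOf i L s)
    (s' : ((Scheme.Modules.pullback f).obj L).presheaf.obj (Opposite.op ⊤))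
    (hD' : Cyc.IsZeroSchemeOf i' ((Scheme.Modules.pullback f).obj L) s')
    (w : (ξ : X) → Cyc.secFibre L ξ)
    (w' : (ξ : X') → Cyc.secFibre ((Scheme.Modules.pullback f).obj L) ξ)
    (ξ' : X') (hξ' : ξ' ∉ Set.range i') (z : ↥P)
    (h : ξ' ⤳ i' z)
    (hd : Ring.KrullDimLE 1 (Cyc.LocQuot (i' z) ξ' h)) :
    Cyc.secOrdAt ((Scheme.Modules.pullback f).obj L) ξ' (i' z) h
        (pullSec f L ξ' (Cyc.gysinChoice L s w (f ξ'))) =
      Cyc.secOrdAt ((Scheme.Modules.pullback f).obj L) ξ' (i' z) h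
        (Cyc.gysinChoice ((Scheme.Modules.pullback f).obj L) s' w' ξ') := by
  have hM : PicF.IsInvertible ((Scheme.Modules.pullback f).obj L) := isInvertible_pullback f hL
  have hc : i (g z) = f (i' z) :=
    apply_square i' i f g sq.w.symm z
  obtain ⟨t, a, ht, hs, hker⟩ := zeroScheme_at i L s hD (g z) _ hc
  obtain ⟨t', a', ht', hs', hker'⟩ := hD'.2 z
  have hξ'ne : (Submodule.Quotient.mk
      ((((Scheme.Modules.pullback f).obj L).presheaf.germ ⊤ ξ' trivial) s') :
      Cyc.secFibre ((Scheme.Modules.pullback f).obj L) ξ') ≠ 0 := by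
    intro h0
    apply hξ'
    rw [hD'.1]
    exact h0
  have hfξ' : f ξ' ∉ Set.range i := fun hr => hξ' (by
    rw [range_eq_of_isPullback sq]
    exact hr)
  have hfξ'ne : (Submodule.Quotient.mk ((L.presheaf.germ ⊤ (f ξ') trivial) s) :
      Cyc.secFibre L (f ξ')) ≠ 0 := by
    intro h0
    apply hfξ'
    rw [hD.1]
    exact h0
  rw [gysinChoice_of_ne_zero _ _ _ _ hξ'ne, gysinChoice_of_ne_zero _ _ _ _ hfξ'ne]
  have h' : f ξ' ⤳ f (i' z) := h.map f.continuous
  have ha' : Cyc.specMap (i' z) ξ' h a' ≠ 0 :=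
    specMap_ne_zero_of_mk_germ_ne_zero _ s' h t' a' hs' hξ'ne
  rw [secOrdAt_mk_germ _ hM s' h hd (freeGen_of_span_eq_top _ hM ht') a' hs' ha']
  -- the ideals
  have hspan : Ideal.span {a'} =
      Ideal.span {(f.stalkMap (i' z)).hom a} := by
    rw [← hker', le_antisymm (ker_stalkMap_le sq z hc) (map_ker_le_ker_stalkMap sq z hc),
      hker, Ideal.map_span, Set.image_singleton]
  obtain ⟨hb, hord⟩ := ordAt_specMap_eq_of_span_eq h hd a' _ hspan ha'
  have hnat : (f.stalkMap ξ').hom (X.presheaf.stalkSpecializes h' a) =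
      X'.presheaf.stalkSpecializes h ((f.stalkMap (i' z)).hom a) := by
    have := congrArg (fun φ => (ConcreteCategory.hom φ) a)
      (Scheme.Hom.stalkSpecializes_stalkMap f ξ' (i' z) h)
    exact this
  have hne : X'.residue ξ' ((f.stalkMap ξ').hom (X.presheaf.stalkSpecializes h' a)) ≠ 0 := by
    rw [hnat]
    exact hb
  rw [mk_germ_eq_smul L s h' t a hs,
    pullSec_smul_mk f ξ' (freeGen_stalkSpecializes L hL h' ht) _,
    ← pg_stalkSpecializes f L h h' t,
    secOrdAt_smul_mk_of_freeGen _ hM h hd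
      (freeGen_pg f hL (i' z) (freeGen_of_span_eq_top L hL ht)) _ hne, hnat, hord]
  rfl


include sq in
/-- Reindexing a fibre sum on `X'` over `i d` as a fibre sum on the fibre product. -/
theorem finsum_fibre_sq (T : X' → ℤ) (d : D) :
    ∑ᶠ x ∈ f ⁻¹' {i d}, T x =
      ∑ᶠ z ∈ g ⁻¹' {d}, T (i' z) := by
  have hinj : Function.Injective i' :=
    i'.isClosedEmbedding.injective
  have hiinj : Function.Injective i := i.isClosedEmbedding.injective
  rw [← finsum_mem_image (hinj.injOn)]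
  refine finsum_mem_congr ?_ (fun _ _ => rfl)
  ext x
  simp only [Set.mem_preimage, Set.mem_singleton_iff, Set.mem_image]
  constructor
  · intro hx
    obtain ⟨z, hz1, hz2⟩ := Scheme.exists_preimage_of_isPullback sq x d hx
    exact ⟨z, hz2, hz1⟩
  · rintro ⟨z, hz, rfl⟩
    rw [← hz]
    exact (apply_square i' i f g sq.w.symm z).symm


include sq in
/-- The difference between the Gysin classes computed with the pulled back sections and with the
sections of `f^*L` determined by `s'`, restricted to the fibre product, is rationally equivalent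
to zero on the fibre product. -/
theorem exists_gysin_diff_sq [IsLocallyNoetherian X] [IsLocallyNoetherian X']
    (δ' : X' → ℤ) (hdim' : Cyc.IsDimFun X' δ')
    (L : X.Modules) (hL : PicF.IsInvertible L)
    (s : L.presheaf.obj (Opposite.op ⊤)) (hD : Cyc.IsZeroSchemeOf i L s)
    (s' : ((Scheme.Modules.pullback f).obj L).presheaf.obj (Opposite.op ⊤))
    (hD' : Cyc.IsZeroSchemeOf i' ((Scheme.Modules.pullback f).obj L) s')
    (k : ℤ) (α' : AlgebraicCycle X' ℤ) (hα' : α' ∈ Cyc.Zk X' δ' (k + 1))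
    (w : (ξ : X) → Cyc.secFibre L ξ) (hw : ∀ ξ, w ξ ≠ 0)
    (w' : (ξ : X') → Cyc.secFibre ((Scheme.Modules.pullback f).obj L) ξ) (hw' : ∀ ξ, w' ξ ≠ 0) :
    ∃ E : AlgebraicCycle P ℤ,
      Cyc.RatEquivZero (fun z => δ' (i' z)) k E ∧
      ∀ z, E z = Cyc.c1CapFun δ' ((Scheme.Modules.pullback f).obj L) ⇑α'
          (fun ξ => pullSec f L ξ (Cyc.gysinChoice L s w (f ξ))) (i' z) -
        Cyc.c1CapFun δ' ((Scheme.Modules.pullback f).obj L) ⇑α'
          (Cyc.gysinChoice ((Scheme.Modules.pullback f).obj L) s' w') (i' z) := by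
  classical
  have hM : PicF.IsInvertible ((Scheme.Modules.pullback f).obj L) := isInvertible_pullback f hL
  haveI : IsLocallyNoetherian P :=
    LocallyOfFiniteType.isLocallyNoetherian i'
  set v := Cyc.gysinChoice L s w with hv_def
  set v' := Cyc.gysinChoice ((Scheme.Modules.pullback f).obj L) s' w' with hv'_def
  have hv : ∀ η, v η ≠ 0 := gysinChoice_ne_zero L s w hw
  have hv' : ∀ ξ, v' ξ ≠ 0 := gysinChoice_ne_zero _ s' w' hw'
  have hu₀ : ∀ ξ : X', pullSec f L ξ (v (f ξ)) ≠ 0 := fun ξ => pullSec_ne_zero f hL ξ _ (hv _)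
  choose ψ hψ0 hψs using fun ξ : X' =>
    exists_smul_eq ((Scheme.Modules.pullback f).obj L) hM ξ (pullSec f L ξ (v (f ξ))) (v' ξ)
      (hu₀ ξ) (hv' ξ)
  have hform := c1CapFun_sub_eq_finsum ((Scheme.Modules.pullback f).obj L) hM δ' hdim' ⇑α'
    α'.locallyFiniteSupport (fun ξ => pullSec f L ξ (v (f ξ))) v' hv' ψ hψ0 hψs
  -- vanishing of the terms off `D'`
  have hvan : ∀ (ξ' : X'), ξ' ∉ Set.range i' → ∀ z : ↥P,
      Cyc.divFun δ' ξ' (X'.residue ξ' (ψ ξ')) (i' z) = 0 := by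
    intro ξ' hξ' z
    have h1 := secDivFun_smul ((Scheme.Modules.pullback f).obj L) hM δ' hdim' ξ' (ψ ξ')
      (hψ0 ξ') (v' ξ') (hv' ξ') (i' z)
    rw [← hψs ξ'] at h1
    have h2 : Cyc.secDivFun δ' ((Scheme.Modules.pullback f).obj L) ξ'
        (pullSec f L ξ' (v (f ξ'))) (i' z) =
        Cyc.secDivFun δ' ((Scheme.Modules.pullback f).obj L) ξ' (v' ξ') (i' z) := by
      unfold Cyc.secDivFun
      by_cases hc : ξ' ⤳ i' z ∧ δ' (i' z) + 1 = δ' ξ'
      · rw [dif_pos hc, dif_pos hc]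
        exact secOrdAt_pullSec_gysinChoice_sq sq L hL s hD s' hD' w w' ξ' hξ' z hc.1
          (krullDimLE_one_locQuot δ' hdim' hc.1 hc.2)
      · rw [dif_neg hc, dif_neg hc]
    omega
  -- the correcting cycle on the fibre product
  let ι : Type u := {ζ : ↥P // α' (i' ζ) ≠ 0}
  let Φ : (ζ : ι) → P.residueField ζ.1 := fun ζ =>
    ((i'.residueFieldMap ζ.1).hom
      (X'.residue (i' ζ.1) (ψ (i' ζ.1)))) ^
        (α' (i' ζ.1))
  have hΦ : ∀ ζ, Φ ζ ≠ 0 := fun ζ => zpow_ne_zero _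
    ((map_ne_zero_iff _ (i'.residueFieldMap ζ.1).hom.injective).2 (hψ0 _))
  have hinj : Function.Injective i' :=
    i'.isClosedEmbedding.injective
  have hlf : ∀ z : ↥P, ∃ U : Set ↥P, IsOpen U ∧ z ∈ U ∧
      {ζ : ι | (closure {(ζ.1 : ↥P)} ∩ U).Nonempty}.Finite := by
    intro z
    obtain ⟨t, ht, hfin⟩ := α'.locallyFiniteSupport (i' z)
    refine ⟨i' ⁻¹' (interior t),
      isOpen_interior.preimage i'.continuous,
      mem_interior_iff_mem_nhds.2 ht, ?_⟩
    have hinj' : Function.Injective (fun ζ : ι => i' ζ.1) :=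
      fun a b hab => Subtype.ext (hinj hab)
    refine Set.Finite.subset (hfin.preimage hinj'.injOn) ?_
    rintro ζ ⟨y, hy1, hy2⟩
    have hζ : ζ.1 ∈ i' ⁻¹' (interior t) :=
      (specializes_iff_mem_closure.2 hy1).mem_open
        (isOpen_interior.preimage i'.continuous) hy2
    exact ⟨interior_subset hζ, ζ.2⟩
  let E : AlgebraicCycle P ℤ :=
    { toFun := fun z => ∑ᶠ ζ : ι, Cyc.divFun (fun z => δ' (i' z)) ζ.1 (Φ ζ) z
      supportWithinDomain' := Set.subset_univ _
      supportLocallyFiniteWithinDomain' := fun y _ =>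
        locallyFiniteSupport_finsum_divFun'' (fun z => δ' (i' z))
          (fun ζ : ι => ζ.1) Φ hΦ hlf y }
  have hErat : Cyc.RatEquivZero (fun z => δ' (i' z)) k E := by
    refine ⟨ι, fun ζ => ζ.1, Φ, fun ζ => ?_, hΦ, hlf, fun x => rfl⟩
    by_contra hne
    exact ζ.2 (hα' _ hne)
  refine ⟨E, hErat, ?_⟩
  intro z
  rw [hform (i' z)]
  let e : ι → {ξ : X' // α' ξ ≠ 0} := fun ζ => ⟨i' ζ.1, ζ.2⟩
  have he : Function.Injective e := fun a b hab =>
    Subtype.ext (hinj (congrArg Subtype.val hab))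
  have hsupp : ∀ j ∈ Function.support (fun j : {ξ : X' // α' ξ ≠ 0} =>
      Cyc.divFun δ' j.1 ((X'.residue j.1 (ψ j.1)) ^ (α' j.1)) (i' z)),
      j ∈ Set.range e := by
    intro j hj
    by_contra hnr
    apply hj
    have hj' : j.1 ∉ Set.range i' := by
      rintro ⟨ζ, hζ⟩
      exact hnr ⟨⟨ζ, by rw [hζ]; exact j.2⟩, Subtype.ext hζ⟩
    show Cyc.divFun δ' j.1 _ (i' z) = 0
    rw [divFun_zpow, hvan j.1 hj' z, mul_zero]
  rw [← finsum_mem_univ, finsum_mem_inter_support_eq' _ Set.univ (Set.range e)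
    (fun j hj => ⟨fun _ => hsupp j hj, fun _ => trivial⟩), finsum_mem_range he]
  show ∑ᶠ ζ : ι, Cyc.divFun (fun z => δ' (i' z)) ζ.1 (Φ ζ) z = _
  refine finsum_congr fun ζ => ?_
  show _ = Cyc.divFun δ' (i' ζ.1) _ (i' z)
  rw [divFun_preimmersion i' δ' ζ.1 _ z, map_zpow₀]


include sq in
/-- **Gysin maps commute with proper pushforward.** -/
theorem gysin_map_ratEquiv_sq [IsLocallyNoetherian X] [IsLocallyNoetherian X'] [IsProper f] [IsProper g]
    (δ : X → ℤ) (δ' : X' → ℤ) (hdim : Cyc.IsDimFun X δ) (hdim' : Cyc.IsDimFun X' δ')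
    (hδ : Cyc.DeltaCompat f δ' δ) (L : X.Modules) (hL : PicF.IsInvertible L)
    (s : L.presheaf.obj (Opposite.op ⊤)) (hD : Cyc.IsZeroSchemeOf i L s)
    (s' : ((Scheme.Modules.pullback f).obj L).presheaf.obj (Opposite.op ⊤))
    (hD' : Cyc.IsZeroSchemeOf i' ((Scheme.Modules.pullback f).obj L) s')
    (k : ℤ) (α' : AlgebraicCycle X' ℤ) (hα' : α' ∈ Cyc.Zk X' δ' (k + 1))
    (w : (ξ : X) → Cyc.secFibre L ξ) (hw : ∀ ξ, w ξ ≠ 0)
    (w' : (ξ : X') → Cyc.secFibre ((Scheme.Modules.pullback f).obj L) ξ) (hw' : ∀ ξ, w' ξ ≠ 0)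
    (γ : AlgebraicCycle D ℤ)
    (hγ : ∀ d, γ d = Cyc.c1CapFun δ L ⇑(AlgebraicCycle.map f δ' δ α')
      (Cyc.gysinChoice L s w) (i d))
    (γ' : AlgebraicCycle P ℤ)
    (hγ' : ∀ z, γ' z = Cyc.c1CapFun δ' ((Scheme.Modules.pullback f).obj L) ⇑α'
      (Cyc.gysinChoice ((Scheme.Modules.pullback f).obj L) s' w') (i' z)) :
    Cyc.RatEquiv (fun d => δ (i d)) k γ
      (AlgebraicCycle.map g (fun z => δ' (i' z))
        (fun d => δ (i d)) γ') := by
  classical
  haveI : IsLocallyNoetherian D := LocallyOfFiniteType.isLocallyNoetherian i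
  haveI : IsLocallyNoetherian P :=
    LocallyOfFiniteType.isLocallyNoetherian i'
  have hdimD : Cyc.IsDimFun D (fun d => δ (i d)) := isDimFun_comp_of_isClosedImmersion i δ hdim
  have hdimP : Cyc.IsDimFun P (fun z => δ' (i' z)) :=
    isDimFun_comp_of_isClosedImmersion i' δ' hdim'
  have hq : g ≫ i = i' ≫ f := sq.w.symm
  have hδg : Cyc.DeltaCompat g (fun z => δ' (i' z))
      (fun d => δ (i d)) := deltaCompat_square i' i f g hq δ' δ hδ
  have hv : ∀ η, Cyc.gysinChoice L s w η ≠ 0 := gysinChoice_ne_zero L s w hw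
  obtain ⟨E, hErat, hE⟩ := exists_gysin_diff_sq sq δ' hdim' L hL s hD s' hD' k α' hα' w hw w' hw'
  -- `γ = g_*(γ' + E)`
  have hpush : AlgebraicCycle.map g (fun z => δ' (i' z))
      (fun d => δ (i d)) (γ' + E) = γ := by
    ext d
    simp only [AlgebraicCycle.map, Function.locallyFinsupp.map_apply]
    rw [hγ d, ← push_c1CapFun_pullSec f δ' δ hdim' hdim hδ L hL α' _ hv (i d),
      finsum_fibre_sq sq _ d]
    refine finsum_mem_congr rfl fun z _ => ?_
    rw [mapCoeff_square i' i f g hq δ' δ z,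
      Function.locallyFinsuppWithin.coe_add, Pi.add_apply, hγ' z, hE z]
    ring
  show Cyc.RatEquivZero (fun d => δ (i d)) k (γ - _)
  have hsub : γ' + E - γ' = E := add_sub_cancel_left γ' E
  rw [← hpush, ← Push.map_sub, hsub]
  exact ratEquivZero_map g _ _ hdimP hdimD hδg k E hErat


end sq

end Groth.Agent.Lib.Helper18.Push
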