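import Mathlib
import Groth.Prelude.Def_Cyc
import Groth.Prelude.Def_C1
import Groth.Prelude.Def_Pic
import Groth.Agent.Lib.Helper18.Push.GysinSq
import Groth.Agent.Lib.Helper18.Push.GysinPull

/-!
# Gysin maps commute with flat pullback, for arbitrary pullback squares
-/

set_option autoImplicit false
set_option linter.style.haveILetI false
universe u
open AlgebraicGeometry CategoryTheory IsLocalRing Limits

namespace Groth.Agent.Lib.Helper18.Push

open Groth.Agent.Lib.Helper18.CycMap Groth.Agent.Lib.Helper18.CycDiv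
open Groth.Agent.Lib.Helper18.C1Core Groth.Agent.Lib.Helper18.InvStalk
open Groth.Agent.Lib.Helper28.PullbackInv

section sq

variable {X X' D P : Scheme.{u}} {f : X' ⟶ X} {i : D ⟶ X} {i' : P ⟶ X'} {g : P ⟶ D}
  (sq : IsPullback i' g f i) [IsClosedImmersion i] [IsClosedImmersion i']

include sq in
/-- Flat pullback along `g` of a function restricted to `D`. -/
theorem pullFun_snd_eq_sq (δ : X → ℤ) (δ' : X' → ℤ) (r : ℤ) (T : X → ℤ) (z : ↥P) :
    Cyc.pullFun g (fun z => δ' (i' z)) (fun d => δ (i d)) r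
        (fun d => T (i d)) z =
      Cyc.pullFun f δ' δ r T (i' z) := by
  have hc : i (g z) = f (i' z) :=
    apply_square i' i f g sq.w.symm z
  unfold Cyc.pullFun
  show (if δ' (i' z) = δ (i (g z)) + r then
    T (i (g z)) * _ else 0) = _
  rw [fibLen_eq_of_isPullback sq z, hc]

include sq in
/-- **Gysin maps commute with flat pullback.** -/
theorem gysin_pullFun_ratEquiv_sq [IsLocallyNoetherian X] [IsLocallyNoetherian X'] [Flat f]
    [LocallyOfFiniteType f] (δ : X → ℤ) (δ' : X' → ℤ) (hdim : Cyc.IsDimFun X δ)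
    (hdim' : Cyc.IsDimFun X' δ') (r : ℕ) (hr : Cyc.HasRelDim f r)
    (hδ : Cyc.DeltaCompat f δ' δ) (L : X.Modules) (hL : PicF.IsInvertible L)
    (s : L.presheaf.obj (Opposite.op ⊤)) (hD : Cyc.IsZeroSchemeOf i L s)
    (s' : ((Scheme.Modules.pullback f).obj L).presheaf.obj (Opposite.op ⊤))
    (hD' : Cyc.IsZeroSchemeOf i' ((Scheme.Modules.pullback f).obj L) s')
    (k : ℤ) (α : AlgebraicCycle X ℤ) (hα : α ∈ Cyc.Zk X δ (k + 1))
    (w : (ξ : X) → Cyc.secFibre L ξ) (hw : ∀ ξ, w ξ ≠ 0)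
    (w' : (ξ : X') → Cyc.secFibre ((Scheme.Modules.pullback f).obj L) ξ) (hw' : ∀ ξ, w' ξ ≠ 0)
    (ζ₁ ζ₂ : AlgebraicCycle P ℤ)
    (h₁ : ∀ z, ζ₁ z = Cyc.c1CapFun δ' ((Scheme.Modules.pullback f).obj L)
      (Cyc.pullFun f δ' δ r ⇑α)
      (Cyc.gysinChoice ((Scheme.Modules.pullback f).obj L) s' w') (i' z))
    (h₂ : ⇑ζ₂ = Cyc.pullFun g (fun z => δ' (i' z))
      (fun d => δ (i d)) r
      (fun d => Cyc.c1CapFun δ L ⇑α (Cyc.gysinChoice L s w) (i d))) :
    Cyc.RatEquiv (fun z => δ' (i' z)) (k + r) ζ₁ ζ₂ := by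
  classical
  have hv : ∀ η, Cyc.gysinChoice L s w η ≠ 0 := gysinChoice_ne_zero L s w hw
  let α' : AlgebraicCycle X' ℤ :=
    { toFun := Cyc.pullFun f δ' δ r ⇑α
      supportWithinDomain' := Set.subset_univ _
      supportLocallyFiniteWithinDomain' := fun y _ =>
        locallyFiniteSupport_pullFun f δ' δ r α y }
  have hα' : α' ∈ Cyc.Zk X' δ' (k + r + 1) := by
    intro x hx
    show Cyc.pullFun f δ' δ r ⇑α x = 0
    unfold Cyc.pullFun
    split_ifs with h
    · have : δ (f x) ≠ k + 1 := fun h0 => hx (by rw [h, h0]; ring)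
      rw [hα (f x) this, zero_mul]
    · rfl
  obtain ⟨E, hErat, hE⟩ := exists_gysin_diff_sq sq δ' hdim' L hL s hD s' hD' (k + r) α' hα'
    w hw w' hw'
  have hαlf : LocallyFiniteSupport ⇑α :=
    fun z => α.supportLocallyFiniteWithinDomain z (Set.mem_univ z)
  have hkey : ζ₁ - ζ₂ = -E := by
    ext z
    rw [Function.locallyFinsuppWithin.coe_sub, Pi.sub_apply,
      Function.locallyFinsuppWithin.coe_neg, Pi.neg_apply, hE z, h₁ z, h₂,
      pullFun_snd_eq_sq sq δ δ' r (Cyc.c1CapFun δ L ⇑α (Cyc.gysinChoice L s w)) z,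
      pullFun_c1CapFun f δ' δ hdim' hdim r
        (fun ξ g hg x => pullFun_divFun_gen f δ' δ hdim' hdim r hr hδ ξ g hg x)
        (fun ξ ξ' => delta_fibIdx f δ' δ r hr hδ ξ')
        (fun x h => isMax_fibre_of_delta f δ' δ hdim' r hr hδ x h)
        L hL ⇑α hαlf _ hv (i' z)]
    show _ = -(Cyc.c1CapFun δ' _ (Cyc.pullFun f δ' δ r ⇑α) _ _ -
      Cyc.c1CapFun δ' _ (Cyc.pullFun f δ' δ r ⇑α) _ _)
    ring
  show Cyc.RatEquivZero _ (k + r) (ζ₁ - ζ₂)
  rw [hkey]
  exact ratEquivZero_neg _ _ E hErat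

end sq

end Groth.Agent.Lib.Helper18.Push
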