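import Mathlib
import Groth.Prelude.Def_Cyc
import Groth.Prelude.Def_C1
import Groth.Prelude.Def_Pic
import Groth.Agent.Lib.Helper18.Push.GysinSq

/-!
# Zero schemes of sections pull back along arbitrary pullback squares
-/

set_option autoImplicit false
set_option linter.style.haveILetI false
universe u
open AlgebraicGeometry CategoryTheory IsLocalRing Limits

namespace Groth.Agent.Lib.Helper18.Push

open Groth.Agent.Lib.Helper18.CycMap Groth.Agent.Lib.Helper18.CycDiv
open Groth.Agent.Lib.Helper18.C1Core Groth.Agent.Lib.Helper18.InvStalk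
open Groth.Agent.Lib.Helper28.PullbackInv

section general

variable {X : Scheme.{u}} (L : X.Modules)

/-- The class of a multiple of a free generator vanishes in the fibre iff the coefficient is in
the maximal ideal. -/
theorem mk_smul_eq_zero_iff {ξ : X} {g : L.presheaf.stalk ξ}
    (hg : FreeGen (X.presheaf.stalk ξ) g) (b : X.presheaf.stalk ξ) :
    (Submodule.Quotient.mk (b • g) : Cyc.secFibre L ξ) = 0 ↔
      b ∈ maximalIdeal (X.presheaf.stalk ξ) := by
  constructor
  · intro h0
    rw [Submodule.Quotient.mk_eq_zero, ← hg.1, Submodule.mem_smul_span_singleton] at h0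
    obtain ⟨a, ha, hag⟩ := h0
    have h2 : a = b := hg.smul_inj hag
    rw [← h2]
    exact ha
  · intro hb
    exact mk_smul_eq_zero_of_mem L b hb g

end general

section sq

variable {X X' D P : Scheme.{u}} {f : X' ⟶ X} {i : D ⟶ X} {i' : P ⟶ X'} {g : P ⟶ D}
  (sq : IsPullback i' g f i)

/-- The germ of the pulled back section. -/
theorem germ_pullSec (L : X.Modules) (σ : L.presheaf.obj (Opposite.op ⊤)) (x' : X') :
    ((Scheme.Modules.pullback f).obj L).presheaf.germ ⊤ x' trivial (ProjUP.pullSec f L σ) =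
      pg f L x' (L.presheaf.germ ⊤ (f x') trivial σ) := by
  rw [pg_germ]
  rfl

theorem mk_germ_pullSec_eq_zero_iff (L : X.Modules) (hL : PicF.IsInvertible L)
    (σ : L.presheaf.obj (Opposite.op ⊤)) (x' : X') :
    (Submodule.Quotient.mk (((Scheme.Modules.pullback f).obj L).presheaf.germ ⊤ x' trivial
      (ProjUP.pullSec f L σ)) : Cyc.secFibre ((Scheme.Modules.pullback f).obj L) x') = 0 ↔
    (Submodule.Quotient.mk (L.presheaf.germ ⊤ (f x') trivial σ) : Cyc.secFibre L (f x')) = 0 := by
  obtain ⟨t, ht⟩ := exists_span_eq_top L hL (f x')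
  have hfree := freeGen_of_span_eq_top L hL ht
  obtain ⟨a, ha⟩ := hfree.exists_smul (L.presheaf.germ ⊤ (f x') trivial σ)
  rw [germ_pullSec, ha, pg_smul, mk_smul_eq_zero_iff _ (freeGen_pg f hL x' hfree),
    mk_smul_eq_zero_iff _ hfree]
  constructor
  · intro h
    by_contra hn
    have hu : IsUnit a := by
      by_contra hnu
      exact hn ((IsLocalRing.mem_maximalIdeal a).2 hnu)
    have hu' : IsUnit ((f.stalkMap x').hom a) := hu.map _
    exact ((IsLocalRing.mem_maximalIdeal _).1 h) hu'
  · intro h
    rw [IsLocalRing.mem_maximalIdeal, mem_nonunits_iff] at h ⊢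
    intro hu
    exact h ((isUnit_map_iff (f.stalkMap x').hom a).1 hu)

variable [IsClosedImmersion i] [IsClosedImmersion i']

include sq in
/-- **Zero schemes pull back.** -/
theorem isZeroSchemeOf_pullSec (L : X.Modules) (hL : PicF.IsInvertible L)
    (σ : L.presheaf.obj (Opposite.op ⊤)) (hD : Cyc.IsZeroSchemeOf i L σ) :
    Cyc.IsZeroSchemeOf i' ((Scheme.Modules.pullback f).obj L) (ProjUP.pullSec f L σ) := by
  refine ⟨?_, fun z => ?_⟩
  · rw [range_eq_of_isPullback sq, hD.1]
    ext x'
    exact (mk_germ_pullSec_eq_zero_iff L hL σ x').symm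
  · have hc : i (g z) = f (i' z) := apply_square i' i f g sq.w.symm z
    obtain ⟨t, a, ht, hs, hker⟩ := zeroScheme_at i L σ hD (g z) _ hc
    have hfree := freeGen_of_span_eq_top L hL ht
    refine ⟨pg f L (i' z) t, (f.stalkMap (i' z)).hom a, (freeGen_pg f hL (i' z) hfree).1, ?_, ?_⟩
    · rw [germ_pullSec, hs, pg_smul]
    · rw [le_antisymm (ker_stalkMap_le sq z hc) (map_ker_le_ker_stalkMap sq z hc),
        hker, Ideal.map_span, Set.image_singleton]

end sq

end Groth.Agent.Lib.Helper18.Push
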