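import Mathlib
import Groth.Prelude.Def_Cyc
import Groth.Agent.Lib.Helper18.Push.DegZero
import Groth.Agent.Lib.Helper24.FibreDim.Scheme
import Groth.Agent.Lib.Helper13.FlatDimOne
import Groth.Agent.Lib.Helper18.Curve.Basic
import Groth.Agent.Lib.Helper18.Cyc.OrdTransfer

/-!
# Degree zero of principal divisors on a proper integral curve over a field
-/

set_option autoImplicit false
universe u
open AlgebraicGeometry CategoryTheory IsLocalRing Module

namespace Groth.Agent.Lib.Helper18.Push

open Groth.Agent.Lib.Helper24.FibreDim

section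
variable {X : Scheme.{u}} [IsIntegral X]

theorem lt_genericPoint {x : X} (hx : x ≠ genericPoint X) : x < genericPoint X := by
  rw [lt_iff_le_not_ge]
  refine ⟨genericPoint_specializes x, fun h => hx ?_⟩
  have h1 : x ⤳ genericPoint X := h
  exact (h1.antisymm (genericPoint_specializes x)).eq

theorem one_le_ringKrullDim_stalk {x : X} (hx : x ≠ genericPoint X) :
    1 ≤ ringKrullDim (X.presheaf.stalk x) := by
  rw [ringKrullDim_stalk_eq_coheight]
  have h1 := Order.coheight_add_one_le (lt_genericPoint hx)
  have h2 : (1 : ℕ∞) ≤ Order.coheight x := le_trans (by simp) h1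
  exact_mod_cast h2

theorem ringKrullDim_stalk_eq_one_of_dim (hdim : topologicalKrullDim X = 1) {x : X}
    (hx : x ≠ genericPoint X) : ringKrullDim (X.presheaf.stalk x) = 1 :=
  le_antisymm (Groth.Agent.Lib.Helper13.FlatDimOne.ringKrullDim_stalk_le_one X hdim.le x)
    (one_le_ringKrullDim_stalk hx)

end

section
variable {K : Type u} [Field K] {X : Scheme.{u}} [IsIntegral X]
  (c : X ⟶ Spec (CommRingCat.of K))

theorem tr_generic_eq_one [LocallyOfFiniteType c] (hdim : topologicalKrullDim X = 1) :
    tr c (genericPoint X) = 1 := by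
  apply le_antisymm
  · obtain ⟨ch, hmono, hfib, hle⟩ := exists_chain_fibre c (genericPoint X)
    let s : LTSeries X := LTSeries.mk _ ch hmono
    have h1 : (s.length : ℕ∞) ≤ Order.coheight (ch 0) :=
      Order.length_le_coheight (p := s) (le_refl _)
    have h2 : ringKrullDim (X.presheaf.stalk (ch 0)) ≤ 1 :=
      Groth.Agent.Lib.Helper13.FlatDimOne.ringKrullDim_stalk_le_one X hdim.le (ch 0)
    rw [ringKrullDim_stalk_eq_coheight] at h2
    have h3 : Order.coheight (ch 0) ≤ 1 := by exact_mod_cast h2
    have h4 : ((tr c (genericPoint X) : ℕ) : ℕ∞) ≤ 1 := h1.trans h3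
    exact_mod_cast h4
  · obtain ⟨x, hx⟩ := Groth.Agent.Lib.Helper18.Curve.exists_ne_generic (X := X)
      (by rw [hdim]; exact zero_lt_one) (genericPoint X)
    have hlt := tr_lt_of_lt c (lt_genericPoint hx) (Subsingleton.elim _ _)
    omega

theorem maximalIdeal_stalk_spec_field (y : Spec (CommRingCat.of K)) :
    maximalIdeal ((Spec (CommRingCat.of K)).presheaf.stalk y) = ⊥ := by
  obtain rfl : y = genericPoint (Spec (CommRingCat.of K)) := Subsingleton.elim _ _
  exact IsLocalRing.isField_iff_maximalIdeal_eq.mp
    (inferInstance : Field (Spec (CommRingCat.of K)).functionField).toIsField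

/-- The residue isomorphism `K(X) ≃ κ(η)`. -/
noncomputable def functionFieldEquiv (X : Scheme.{u}) [IsIntegral X] :
    X.functionField ≃+* X.residueField (genericPoint X) :=
  RingEquiv.ofBijective (X.residue (genericPoint X)).hom
    ⟨(X.residue (genericPoint X)).hom.injective, IsLocalRing.residue_surjective⟩

theorem ordFrac_functionField_eq_ordAt (x : X) (f : X.functionField) :
    CycAlg.ordFrac (X.presheaf.stalk x) X.functionField f =
      Cyc.ordAt x (genericPoint X) (genericPoint_specializes x) (functionFieldEquiv X f) := by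
  rw [Groth.Agent.Lib.Helper18.CycDiv.ordAt_eq_ordFrac_stalk (genericPoint_specializes x)
    (Groth.Agent.Lib.Helper18.CycDiv.ker_specMap_eq_bot (genericPoint_specializes x) rfl)]
  letI : Algebra (X.presheaf.stalk x) (X.residueField (genericPoint X)) :=
    (Cyc.specMap x (genericPoint X) (genericPoint_specializes x)).toAlgebra
  exact Groth.Agent.Lib.Helper18.CycDiv.ordFrac_eq_of_ringEquiv (RingEquiv.refl _)
    (functionFieldEquiv X) (fun r => rfl) f

/-- **Degree zero of a principal divisor on a proper integral curve.** -/
theorem finsum_closed_residueDegree_mul_ordFrac_eq_zero [IsProper c]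
    (hdim : topologicalKrullDim X = 1) (f : X.functionField) (hf : f ≠ 0) :
    ∑ᶠ (x : X) (_ : IsClosed ({x} : Set X)), (c.residueDegree x : ℤ) *
      CycAlg.ordFrac (X.presheaf.stalk x) X.functionField f = 0 := by
  haveI : IsLocallyNoetherian X := LocallyOfFiniteType.isLocallyNoetherian c
  have hfld := maximalIdeal_stalk_spec_field (c (genericPoint X))
  have htr : @Algebra.trdeg ((Spec (CommRingCat.of K)).residueField (c (genericPoint X)))
      (X.residueField (genericPoint X)) _ _
      (c.residueFieldMap (genericPoint X)).hom.toAlgebra = 1 := by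
    rw [tr_spec c (genericPoint X), tr_generic_eq_one c hdim]
    rfl
  have hd : ∀ x : X, c x = c (genericPoint X) → x ≠ genericPoint X →
      ringKrullDim (X.presheaf.stalk x) = 1 := fun x _ hx =>
    ringKrullDim_stalk_eq_one_of_dim hdim hx
  have hf' : functionFieldEquiv X f ≠ 0 := by
    rw [Ne, map_eq_zero_iff _ (functionFieldEquiv X).injective]
    exact hf
  have key := finsum_residueDegree_mul_ordAt_eq_zero c hfld htr hd (functionFieldEquiv X f) hf'
  rw [← key]
  have hset : {x : X | IsClosed ({x} : Set X)} =
      {x : X | c x = c (genericPoint X) ∧ x ≠ genericPoint X} := by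
    ext x
    simp only [Set.mem_setOf_eq]
    constructor
    · intro hcl
      refine ⟨Subsingleton.elim _ _, ?_⟩
      rintro rfl
      -- the generic point is not closed in a space of positive dimension
      obtain ⟨y, hy⟩ := Groth.Agent.Lib.Helper18.Curve.exists_ne_generic (X := X)
        (by rw [hdim]; exact zero_lt_one) (genericPoint X)
      have h1 : y ∈ closure ({genericPoint X} : Set X) :=
        (genericPoint_specializes y).mem_closure
      rw [hcl.closure_eq] at h1
      exact hy h1
    · rintro ⟨-, hx⟩
      exact Groth.Agent.Lib.Helper18.Curve.isClosed_singleton_of_ne_generic hdim hx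
  refine (finsum_mem_congr (s := {x : X | IsClosed ({x} : Set X)}) hset fun x _ => ?_)
  rw [ordFrac_functionField_eq_ordAt]

end

end Groth.Agent.Lib.Helper18.Push
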